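import Mathlib
import Cfsg.Prelude.Def_LocalEven
import Cfsg.Agent.Helper12.S4
import Cfsg.Agent.Helper26.Involves
import Cfsg.Agent.S0650

/-!
Helper library (helper23): recognizing a section isomorphic to `S₄`.

* `transvection_w`: a transvection `t` on an elementary abelian `2`-group inverting a nontrivial
  automorphism `s` of odd order; then `s` acts as an element of order `3` on the four-group
  spanned by the centre `z` of `t` and `s z`, and `t` swaps `s z` and `z * s z`.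
* `involves_s4_of_rel`: a four-group `{1, a, b, ab}`, an element `k` cycling `a → b → ab` and an
  element `τ` swapping `a, b` and inverting `k` give a section isomorphic to `S₄`.
-/

set_option autoImplicit false

namespace Cfsg.Agent.Helper23

theorem transvection_w {V : Type*} [Group V] (hcomm : ∀ x y : V, x * y = y * x)
    (hexp : ∀ v : V, v * v = 1) (t s : MulAut V) (z : V)
    (ht : ∀ v : V, t v = v ∨ t v = v * z) (hts : t * s * t⁻¹ = s⁻¹) (hs1 : s ≠ 1)
    (n : ℕ) (hn : Odd n) (hsn : s ^ n = 1) :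
    z ≠ 1 ∧ t z = z ∧ s z ≠ z ∧ s (s z) = z * s z ∧ t (s z) = z * s z := by
  have h4 : s * s * (s * s) = 1 → s = 1 := by
    intro h
    have h1 : orderOf s ∣ 4 := orderOf_dvd_of_pow_eq_one (by
      have e : s ^ 4 = s * s * (s * s) := by
        rw [show (4 : ℕ) = 2 + 2 from rfl, pow_add, pow_two]
      rw [e]; exact h)
    have h2 : orderOf s ∣ n := orderOf_dvd_of_pow_eq_one hsn
    have h3 : Nat.Coprime (2 ^ 2) n := Nat.Coprime.pow_left 2 (Nat.coprime_two_left.2 hn)
    have h5 : orderOf s ∣ Nat.gcd (2 ^ 2) n := Nat.dvd_gcd h1 h2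
    rw [h3.gcd_eq_one, Nat.dvd_one, orderOf_eq_one_iff] at h5
    exact h5
  have h4' : (∀ v : V, s (s (s (s v))) = v) → s = 1 := by
    intro h
    apply h4
    ext v
    exact h v
  have hsinj : ∀ x : V, s x = 1 → x = 1 := fun x hx => by
    apply s.injective
    rw [hx, map_one]
  have htinj : ∀ x : V, t x = 1 → x = 1 := fun x hx => by
    apply t.injective
    rw [hx, map_one]
  have htz : z ≠ 1 := by
    intro hz
    have ht1 : t = 1 := by
      ext v
      rcases ht v with h | h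
      · exact h
      · rw [h, hz, mul_one]; rfl
    rw [ht1, one_mul, inv_one, mul_one] at hts
    apply hs1
    apply h4
    have hss : s * s = 1 := by
      calc s * s = s * s⁻¹ := by rw [← hts]
        _ = 1 := mul_inv_cancel s
    rw [hss, one_mul]
  have htzz : t z = z := by
    rcases ht z with h | h
    · exact h
    · rw [hexp] at h
      exact absurd (htinj z h) htz
  have htt : ∀ v, t (t v) = v := by
    intro v
    rcases ht v with h | h
    · rw [h, h]
    · rw [h, map_mul, h, htzz, mul_assoc, hexp, mul_one]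
  have htinv : ∀ v, t⁻¹ v = t v := by
    intro v
    have e : t⁻¹ (t (t v)) = t v := MulAut.inv_apply_self _ _ _
    rw [htt] at e
    exact e
  have hss : ∀ v, s (s v) = s (t (s⁻¹ (t v))) := by
    intro v
    have e1 : s = t * s⁻¹ * t⁻¹ := by
      have : t * s⁻¹ * t⁻¹ = (t * s * t⁻¹)⁻¹ := by group
      rw [this, hts, inv_inv]
    have e2 : s v = t (s⁻¹ (t⁻¹ v)) := by
      have : s v = (t * s⁻¹ * t⁻¹) v := by rw [← e1]
      rw [this]; rfl
    rw [e2, htinv]
  have hW : ∀ v, ∃ w, s (s v) = v * w ∧ (w = 1 ∨ w = z ∨ w = s z ∨ w = z * s z) := by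
    intro v
    rw [hss]
    have hsu : s (s⁻¹ (t v)) = t v := MulAut.apply_inv_self _ _ _
    rcases ht (s⁻¹ (t v)) with h | h
    · rw [h, hsu]
      rcases ht v with h' | h'
      · exact ⟨1, by rw [h', mul_one], Or.inl rfl⟩
      · exact ⟨z, h', Or.inr (Or.inl rfl)⟩
    · rw [h, map_mul, hsu]
      rcases ht v with h' | h'
      · exact ⟨s z, by rw [h'], Or.inr (Or.inr (Or.inl rfl))⟩
      · exact ⟨z * s z, by rw [h', mul_assoc], Or.inr (Or.inr (Or.inr rfl))⟩
  -- if `s²` fixes `z` and `s z` then `s⁴ = 1`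
  have hkey : s (s z) = z → False := by
    intro h
    apply hs1
    apply h4'
    have hfz : s (s (s z)) = s z := by rw [h]
    intro v
    obtain ⟨w, hw, hw'⟩ := hW v
    have hsw : s (s w) = w := by
      rcases hw' with h' | h' | h' | h'
      · rw [h', map_one, map_one]
      · rw [h', h]
      · rw [h', hfz]
      · rw [h', map_mul, map_mul, hfz, h]
    rw [hw, map_mul, map_mul, hw, hsw, mul_assoc, hexp, mul_one]
  have hz'z : s z ≠ z := by
    intro h
    apply hkey
    rw [h, h]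
  have hsz' : s (s z) = z * s z := by
    obtain ⟨w, hw, hw'⟩ := hW z
    rcases hw' with h | h | h | h
    · exfalso
      rw [h, mul_one] at hw
      exact hkey hw
    · exfalso
      rw [h, hexp] at hw
      exact htz (hsinj z (hsinj _ hw))
    · rw [h] at hw
      exact hw
    · exfalso
      rw [h, ← mul_assoc, hexp, one_mul] at hw
      exact hz'z (s.injective hw)
  have htz' : t (s z) = z * s z := by
    rcases ht (s z) with h | h
    · exfalso
      have e1 : t * s = s⁻¹ * t := by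
        have : t * s = (t * s * t⁻¹) * t := by group
        rw [this, hts]
      have e2 : t (s z) = s⁻¹ (t z) := by
        have : (t * s) z = (s⁻¹ * t) z := by rw [e1]
        exact this
      rw [htzz, h] at e2
      have e3 : s (s z) = z := by
        rw [e2]; exact MulAut.apply_inv_self _ _ _
      exact hkey e3
    · rw [h, hcomm]
  exact ⟨htz, htzz, hz'z, hsz', htz'⟩

/-- A four-group `{1, a, b, ab}`, an element `k` permuting `a → b → ab → a` and an element `τ`
swapping `a` and `b` and inverting `k` give a section isomorphic to `S₄`. -/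
theorem involves_s4_of_rel {H : Type*} [Group H] [Finite H] (a b k τ : H)
    (haa : a * a = 1) (hbb : b * b = 1) (hab : a * b = b * a) (ha : a ≠ 1) (hb : b ≠ 1)
    (hne : a ≠ b) (hka : k * a * k⁻¹ = b) (hkb : k * b * k⁻¹ = a * b)
    (hτa : τ * a * τ⁻¹ = b) (hτb : τ * b * τ⁻¹ = a) (hτk : τ * k * τ⁻¹ = k⁻¹) :
    Cfsg.Involves (Equiv.Perm (Fin 4)) H := by
  classical
  have hba : b * a = a * b := hab.symm
  have haa' : ∀ x : H, a * (a * x) = x := fun x => by rw [← mul_assoc, haa, one_mul]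
  have hbb' : ∀ x : H, b * (b * x) = x := fun x => by rw [← mul_assoc, hbb, one_mul]
  have hba' : ∀ x : H, b * (a * x) = a * (b * x) := fun x => by rw [← mul_assoc, hba, mul_assoc]
  have hainv : a⁻¹ = a := inv_eq_of_mul_eq_one_left haa
  have hbinv : b⁻¹ = b := inv_eq_of_mul_eq_one_left hbb
  have hab1 : a * b ≠ 1 := by
    intro h
    apply hne
    calc a = a * (a * b) := by rw [h, mul_one]
      _ = b := haa' b
  obtain ⟨W, hW⟩ : ∃ W : Subgroup H, ∀ x, x ∈ W ↔ x = 1 ∨ x = a ∨ x = b ∨ x = a * b := by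
    refine ⟨{ carrier := {x | x = 1 ∨ x = a ∨ x = b ∨ x = a * b}
              one_mem' := Or.inl rfl
              mul_mem' := ?_
              inv_mem' := ?_ }, fun x => Iff.rfl⟩
    · intro x y hx hy
      show x * y = 1 ∨ x * y = a ∨ x * y = b ∨ x * y = a * b
      rcases hx with hx | hx | hx | hx <;> rcases hy with hy | hy | hy | hy <;> rw [hx, hy] <;>
        simp [mul_assoc, haa, hbb, hba, haa', hba']
    · intro x hx
      show x⁻¹ = 1 ∨ x⁻¹ = a ∨ x⁻¹ = b ∨ x⁻¹ = a * b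
      rcases hx with hx | hx | hx | hx <;> rw [hx] <;> simp [hainv, hbinv, hba]
  have haW : a ∈ W := (hW a).2 (Or.inr (Or.inl rfl))
  have hbW : b ∈ W := (hW b).2 (Or.inr (Or.inr (Or.inl rfl)))
  have habW : a * b ∈ W := (hW (a * b)).2 (Or.inr (Or.inr (Or.inr rfl)))
  obtain ⟨E, hE⟩ : ∃ E : Subgroup H, ∀ g, g ∈ E ↔ g * k * g⁻¹ = k ∨ g * k * g⁻¹ = k⁻¹ := by
    refine ⟨{ carrier := {g | g * k * g⁻¹ = k ∨ g * k * g⁻¹ = k⁻¹}
              one_mem' := Or.inl (by group)
              mul_mem' := ?_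
              inv_mem' := ?_ }, fun x => Iff.rfl⟩
    · intro x y hx hy
      show x * y * k * (x * y)⁻¹ = k ∨ x * y * k * (x * y)⁻¹ = k⁻¹
      have e : x * y * k * (x * y)⁻¹ = x * (y * k * y⁻¹) * x⁻¹ := by group
      have e' : x * k⁻¹ * x⁻¹ = (x * k * x⁻¹)⁻¹ := by group
      rw [e]
      rcases hy with hy | hy <;> rcases hx with hx | hx
      · left; rw [hy, hx]
      · right; rw [hy, hx]
      · right; rw [hy, e', hx]
      · left; rw [hy, e', hx, inv_inv]
    · intro x hx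
      show x⁻¹ * k * x⁻¹⁻¹ = k ∨ x⁻¹ * k * x⁻¹⁻¹ = k⁻¹
      rcases hx with hx | hx
      · left
        calc x⁻¹ * k * x⁻¹⁻¹ = x⁻¹ * (x * k * x⁻¹) * x⁻¹⁻¹ := by rw [hx]
          _ = k := by group
      · right
        calc x⁻¹ * k * x⁻¹⁻¹ = (x⁻¹ * k⁻¹ * x⁻¹⁻¹)⁻¹ := by group
          _ = (x⁻¹ * (x * k * x⁻¹) * x⁻¹⁻¹)⁻¹ := by rw [hx]
          _ = k⁻¹ := by group
  obtain ⟨F, hF⟩ : ∃ F : Subgroup H, F = Subgroup.zpowers k ⊔ Subgroup.zpowers τ := ⟨_, rfl⟩
  have hkF : k ∈ F := by rw [hF]; exact le_sup_left (a := Subgroup.zpowers k) (Subgroup.mem_zpowers k)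
  have hτF : τ ∈ F := by rw [hF]; exact le_sup_right (b := Subgroup.zpowers τ) (Subgroup.mem_zpowers τ)
  have hFE : F ≤ E := by
    rw [hF]
    exact sup_le (Subgroup.zpowers_le.2 ((hE k).2 (Or.inl (by group))))
      (Subgroup.zpowers_le.2 ((hE τ).2 (Or.inr hτk)))
  have hkab : k * (a * b) * k⁻¹ = a := by
    calc k * (a * b) * k⁻¹ = (k * a * k⁻¹) * (k * b * k⁻¹) := by group
      _ = b * (a * b) := by rw [hka, hkb]
      _ = a := by rw [hba', hbb, mul_one]
  have hτab : τ * (a * b) * τ⁻¹ = a * b := by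
    calc τ * (a * b) * τ⁻¹ = (τ * a * τ⁻¹) * (τ * b * τ⁻¹) := by group
      _ = a * b := by rw [hτa, hτb, hba]
  have hkW : k ∈ Subgroup.normalizer (W : Set H) := by
    apply Cfsg.Agent.S0650.mem_normalizer_of_conj_mem
    intro x hx
    rw [hW] at hx ⊢
    rcases hx with h | h | h | h
    · rw [h]; left; group
    · rw [h, hka]; right; right; left; rfl
    · rw [h, hkb]; right; right; right; rfl
    · rw [h, hkab]; right; left; rfl
  have hτW : τ ∈ Subgroup.normalizer (W : Set H) := by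
    apply Cfsg.Agent.S0650.mem_normalizer_of_conj_mem
    intro x hx
    rw [hW] at hx ⊢
    rcases hx with h | h | h | h
    · rw [h]; left; group
    · rw [h, hτa]; right; right; left; rfl
    · rw [h, hτb]; right; left; rfl
    · rw [h, hτab]; right; right; right; rfl
  have hFW : F ≤ Subgroup.normalizer (W : Set H) := by
    rw [hF]
    exact sup_le (Subgroup.zpowers_le.2 hkW) (Subgroup.zpowers_le.2 hτW)
  have hcentW : ∀ g : H, g * a = a * g → g * b = b * g →
      g ∈ Subgroup.centralizer (W : Set H) := by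
    intro g h1 h2
    rw [Subgroup.mem_centralizer_iff]
    intro w hw
    rw [SetLike.mem_coe, hW] at hw
    rcases hw with h | h | h | h
    · rw [h, one_mul, mul_one]
    · rw [h]; exact h1.symm
    · rw [h]; exact h2.symm
    · rw [h, mul_assoc, ← h2, ← mul_assoc, ← h1, mul_assoc]
  have hWa : ∀ w ∈ W, w * a = a * w := by
    intro w hw
    rw [hW] at hw
    rcases hw with h | h | h | h
    · rw [h, one_mul, mul_one]
    · rw [h]
    · rw [h, hba]
    · rw [h, mul_assoc, hba]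
  have hfix : ∀ w ∈ W, k * w * k⁻¹ = w → w = 1 := by
    intro w hw h
    rw [hW] at hw
    rcases hw with h' | h' | h' | h'
    · exact h'
    · exfalso; rw [h', hka] at h; exact hne h.symm
    · exfalso; rw [h', hkb] at h
      apply ha
      calc a = a * b * b := by rw [mul_assoc, hbb, mul_one]
        _ = b * b := by rw [h]
        _ = 1 := hbb
    · exfalso; rw [h', hkab] at h
      apply hb
      calc b = a * (a * b) := (haa' b).symm
        _ = a * a := by rw [← h]
        _ = 1 := haa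
  have hWF : ∀ w ∈ W, w ∈ F → w = 1 := by
    intro w hw hwF
    rcases (hE w).1 (hFE hwF) with h | h
    · apply hfix w hw
      calc k * w * k⁻¹ = (w * k * w⁻¹) * w * k⁻¹ := by rw [h]
        _ = w := by group
    · exfalso
      have h1 : k * w * k⁻¹ ∈ W := (Subgroup.mem_normalizer_iff.1 hkW w).1 hw
      have h2 : w * (k * w * k⁻¹)⁻¹ ∈ W := W.mul_mem hw (W.inv_mem h1)
      have e1 : w * (k * w * k⁻¹)⁻¹ = (w * k * w⁻¹) * k⁻¹ := by group
      rw [e1, h] at h2
      have h3 : k * k ∈ W := by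
        have := W.inv_mem h2
        rwa [mul_inv_rev, inv_inv] at this
      have h4 : k * k * a = a * (k * k) := hWa (k * k) h3
      have e2 : k * k * a * (k * k)⁻¹ = a * b := by
        calc k * k * a * (k * k)⁻¹ = k * (k * a * k⁻¹) * k⁻¹ := by group
          _ = a * b := by rw [hka, hkb]
      rw [h4] at e2
      have e3 : a = a * b := by
        calc a = a * (k * k) * (k * k)⁻¹ := by group
          _ = a * b := e2
      apply hb
      calc b = a * (a * b) := (haa' b).symm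
        _ = a * a := by rw [← e3]
        _ = 1 := haa
  obtain ⟨N, hN⟩ : ∃ N : Subgroup H, N = F ⊓ Subgroup.centralizer (W : Set H) := ⟨_, rfl⟩
  obtain ⟨M, hM⟩ : ∃ M : Subgroup H, M = W ⊔ F := ⟨_, rfl⟩
  have hNF : N ≤ F := by rw [hN]; exact inf_le_left
  have hNC : N ≤ Subgroup.centralizer (W : Set H) := by rw [hN]; exact inf_le_right
  have hWM : W ≤ M := by rw [hM]; exact le_sup_left
  have hFM : F ≤ M := by rw [hM]; exact le_sup_right
  have hNM : N ≤ M := hNF.trans hFM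
  have hMN : M ≤ Subgroup.normalizer (N : Set H) := by
    rw [hM]
    refine sup_le ?_ ?_
    · intro w hw
      apply Cfsg.Agent.S0650.mem_normalizer_of_conj_mem
      intro n hn
      have h1 : w * n = n * w := Subgroup.mem_centralizer_iff.1 (hNC hn) w hw
      have h2 : w * n * w⁻¹ = n := by rw [h1]; group
      rw [h2]; exact hn
    · intro f hf
      apply Cfsg.Agent.S0650.mem_normalizer_of_conj_mem
      intro n hn
      rw [hN]
      refine Subgroup.mem_inf.2 ⟨F.mul_mem (F.mul_mem hf (hNF hn)) (F.inv_mem hf), ?_⟩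
      rw [Subgroup.mem_centralizer_iff]
      intro w hw
      have hw' : f⁻¹ * w * f ∈ W := by
        have := (Subgroup.mem_normalizer_iff.1 (hFW (F.inv_mem hf)) w).1 hw
        rwa [inv_inv] at this
      have hc : f⁻¹ * w * f * n = n * (f⁻¹ * w * f) :=
        Subgroup.mem_centralizer_iff.1 (hNC hn) _ hw'
      calc w * (f * n * f⁻¹) = f * ((f⁻¹ * w * f) * n) * f⁻¹ := by group
        _ = f * (n * (f⁻¹ * w * f)) * f⁻¹ := by rw [hc]
        _ = f * n * f⁻¹ * w := by group
  have hNn : (N.subgroupOf M).Normal := (Subgroup.normal_subgroupOf_iff_le_normalizer hNM).2 hMN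
  obtain ⟨π, hπ⟩ : ∃ π : ↥M →* ↥M ⧸ N.subgroupOf M, π = QuotientGroup.mk' _ := ⟨_, rfl⟩
  have hπ1 : ∀ x : ↥M, π x = 1 ↔ (x : H) ∈ N := by
    intro x
    rw [hπ, QuotientGroup.mk'_apply, QuotientGroup.eq_one_iff, Subgroup.mem_subgroupOf]
  have haM : a ∈ M := hWM haW
  have hbM : b ∈ M := hWM hbW
  have hkM : k ∈ M := hFM hkF
  have hτM : τ ∈ M := hFM hτF
  have notN : ∀ w ∈ W, w ≠ 1 → w ∉ N := fun w hw h1 hwN => h1 (hWF w hw (hNF hwN))
  have Haa : π ⟨a, haM⟩ * π ⟨a, haM⟩ = 1 := by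
    rw [← map_mul, ← map_one π]; exact congrArg π (Subtype.ext haa)
  have Hbb : π ⟨b, hbM⟩ * π ⟨b, hbM⟩ = 1 := by
    rw [← map_mul, ← map_one π]; exact congrArg π (Subtype.ext hbb)
  have Hab : π ⟨a, haM⟩ * π ⟨b, hbM⟩ = π ⟨b, hbM⟩ * π ⟨a, haM⟩ := by
    rw [← map_mul, ← map_mul]; exact congrArg π (Subtype.ext hab)
  have Ha : π ⟨a, haM⟩ ≠ 1 := fun h => notN a haW ha ((hπ1 _).1 h)
  have Hb : π ⟨b, hbM⟩ ≠ 1 := fun h => notN b hbW hb ((hπ1 _).1 h)
  have Hne : π ⟨a, haM⟩ ≠ π ⟨b, hbM⟩ := by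
    intro h
    have h2 : π (⟨a, haM⟩ * ⟨b, hbM⟩) = 1 := by rw [map_mul, ← h, Haa]
    exact notN (a * b) habW hab1 ((hπ1 _).1 h2)
  have hcomm_of : ∀ g x : H, g * x * g⁻¹ = x → g * x = x * g := by
    intro g x h
    calc g * x = (g * x * g⁻¹) * g := by group
      _ = x * g := by rw [h]
  have Hc : orderOf (π ⟨k, hkM⟩) = 3 := by
    have h3 : (π ⟨k, hkM⟩) ^ 3 = 1 := by
      rw [← map_pow, hπ1]
      show k ^ 3 ∈ N
      have e3 : k ^ 3 = k * k * k := by rw [pow_succ, pow_two]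
      rw [hN, e3]
      refine Subgroup.mem_inf.2 ⟨F.mul_mem (F.mul_mem hkF hkF) hkF, hcentW _ ?_ ?_⟩
      · apply hcomm_of
        calc k * k * k * a * (k * k * k)⁻¹ = k * (k * (k * a * k⁻¹) * k⁻¹) * k⁻¹ := by group
          _ = a := by rw [hka, hkb, hkab]
      · apply hcomm_of
        calc k * k * k * b * (k * k * k)⁻¹ = k * (k * (k * b * k⁻¹) * k⁻¹) * k⁻¹ := by group
          _ = b := by rw [hkb, hkab, hka]
    have hk1 : π ⟨k, hkM⟩ ≠ 1 := by
      intro h
      have hkN : k ∈ N := (hπ1 _).1 h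
      have h1 : a * k = k * a := Subgroup.mem_centralizer_iff.1 (hNC hkN) a haW
      apply hne
      calc a = a * k * k⁻¹ := by group
        _ = k * a * k⁻¹ := by rw [h1]
        _ = b := hka
    exact orderOf_eq_prime h3 hk1
  have Hca : π ⟨k, hkM⟩ * π ⟨a, haM⟩ * (π ⟨k, hkM⟩)⁻¹ = π ⟨b, hbM⟩ := by
    rw [← map_inv, ← map_mul, ← map_mul]; exact congrArg π (Subtype.ext hka)
  have Hcb : π ⟨k, hkM⟩ * π ⟨b, hbM⟩ * (π ⟨k, hkM⟩)⁻¹ = π ⟨a, haM⟩ * π ⟨b, hbM⟩ := by
    rw [← map_inv, ← map_mul, ← map_mul, ← map_mul]; exact congrArg π (Subtype.ext hkb)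
  have Htt : π ⟨τ, hτM⟩ * π ⟨τ, hτM⟩ = 1 := by
    rw [← map_mul, hπ1]
    show τ * τ ∈ N
    rw [hN]
    refine Subgroup.mem_inf.2 ⟨F.mul_mem hτF hτF, hcentW _ ?_ ?_⟩
    · apply hcomm_of
      calc τ * τ * a * (τ * τ)⁻¹ = τ * (τ * a * τ⁻¹) * τ⁻¹ := by group
        _ = a := by rw [hτa, hτb]
    · apply hcomm_of
      calc τ * τ * b * (τ * τ)⁻¹ = τ * (τ * b * τ⁻¹) * τ⁻¹ := by group
        _ = b := by rw [hτb, hτa]
  have Ht1 : π ⟨τ, hτM⟩ ≠ 1 := by
    intro h
    have hτN : τ ∈ N := (hπ1 _).1 h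
    have h1 : a * τ = τ * a := Subgroup.mem_centralizer_iff.1 (hNC hτN) a haW
    apply hne
    calc a = a * τ * τ⁻¹ := by group
      _ = τ * a * τ⁻¹ := by rw [h1]
      _ = b := hτa
  have Hta : π ⟨τ, hτM⟩ * π ⟨a, haM⟩ * (π ⟨τ, hτM⟩)⁻¹ = π ⟨b, hbM⟩ := by
    rw [← map_inv, ← map_mul, ← map_mul]; exact congrArg π (Subtype.ext hτa)
  have Htb : π ⟨τ, hτM⟩ * π ⟨b, hbM⟩ * (π ⟨τ, hτM⟩)⁻¹ = π ⟨a, haM⟩ := by
    rw [← map_inv, ← map_mul, ← map_mul]; exact congrArg π (Subtype.ext hτb)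
  have Htc : π ⟨τ, hτM⟩ * π ⟨k, hkM⟩ * (π ⟨τ, hτM⟩)⁻¹ = (π ⟨k, hkM⟩)⁻¹ := by
    rw [← map_inv, ← map_mul, ← map_mul, ← map_inv]; exact congrArg π (Subtype.ext hτk)
  obtain ⟨S, ⟨e⟩⟩ := Cfsg.Agent.Helper12.exists_s4_of_rel _ _ _ _ Haa Hbb Hab Ha Hb Hne Hc Hca Hcb
    Htt Ht1 Hta Htb Htc
  refine Cfsg.Agent.Helper26.involves_of_span (A := ↥(S.comap π))
    (M.subtype.comp (S.comap π).subtype) ?_ (e.toMonoidHom.comp (π.subgroupComap S)) ?_
  · exact (Subgroup.subtype_injective M).comp (Subgroup.subtype_injective _)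
  · exact e.surjective.comp (π.subgroupComap_surjective_of_surjective S (by
      rw [hπ]; exact QuotientGroup.mk'_surjective _))

/-- Automorphisms `t`, `s` of an elementary abelian `2`-subgroup `V₁` induced by conjugation with
`τ` and `k`, where `t` is a transvection inverting the nontrivial odd-order `s` and `τ` inverts
`k`: then `S₄` is involved. -/
theorem involves_s4_of_aut {H : Type*} [Group H] [Finite H] (V₁ : Subgroup H)
    (hcomm : ∀ x y : ↥V₁, x * y = y * x) (hexp : ∀ v : ↥V₁, v * v = 1) (k τ : H)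
    (t s : MulAut ↥V₁) (hs : ∀ v : ↥V₁, ((s v : ↥V₁) : H) = k * v * k⁻¹)
    (ht : ∀ v : ↥V₁, ((t v : ↥V₁) : H) = τ * v * τ⁻¹) (z : ↥V₁)
    (htz : ∀ v : ↥V₁, t v = v ∨ t v = v * z) (hts : t * s * t⁻¹ = s⁻¹)
    (hτk : τ * k * τ⁻¹ = k⁻¹) (hs1 : s ≠ 1) (n : ℕ) (hn : Odd n) (hsn : s ^ n = 1) :
    Cfsg.Involves (Equiv.Perm (Fin 4)) H := by
  obtain ⟨h1, h2, h3, h4, h5⟩ := transvection_w hcomm hexp t s z htz hts hs1 n hn hsn
  refine involves_s4_of_rel ((s z : ↥V₁) : H) ((z * s z : ↥V₁) : H) k τ ?_ ?_ ?_ ?_ ?_ ?_ ?_ ?_ ?_ ?_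
    hτk
  · exact congrArg Subtype.val (hexp (s z))
  · exact congrArg Subtype.val (hexp (z * s z))
  · exact congrArg Subtype.val (hcomm (s z) (z * s z))
  · intro h
    have e : s z = 1 := Subtype.ext h
    apply h1
    apply s.injective
    rw [e, map_one]
  · intro h
    have e : z * s z = 1 := Subtype.ext h
    apply h3
    calc s z = z * (z * s z) := by rw [← mul_assoc, hexp, one_mul]
      _ = z := by rw [e, mul_one]
  · intro h
    have e : s z = z * s z := Subtype.ext h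
    apply h1
    calc z = z * s z * s z := by rw [mul_assoc, hexp, mul_one]
      _ = s z * s z := by rw [← e]
      _ = 1 := hexp _
  · rw [← hs, h4]
  · rw [← hs, map_mul, h4]; rfl
  · rw [← ht, h5]
  · rw [← ht, map_mul, h2, h5, ← mul_assoc, hexp, one_mul]

end Cfsg.Agent.Helper23
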