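import Cfsg.Agent.Helper23.StableW2

/-!
Helper library (helper23): the `W(S)`-theorem (Kurzweil–Stellmacher 9.4.5): in an
action-`p`-stable group `G` with `C_G(O_p(G)) ≤ O_p(G)`, the subgroup `W(S)` is normal.
-/

set_option autoImplicit false

namespace Cfsg.Agent.Helper23

open Cfsg

open scoped commutatorElement

universe u

section InG

variable {G : Type u} [Group G] {p : ℕ}

/-- `W(P)` as a subgroup of `G`. -/
def sncOf (p : ℕ) (P : Subgroup G) : Subgroup G := (stableNormalClosure p ↥P).map P.subtype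

theorem sncOf_le (P : Subgroup G) : sncOf p P ≤ P := Subgroup.map_subtype_le _

theorem sncOf_conj_mem [Finite G] [Fact p.Prime] {P : Subgroup G} (hP : IsPGroup p P) :
    ∀ s ∈ P, ∀ w ∈ sncOf p P, s * w * s⁻¹ ∈ sncOf p P := by
  rintro s hs _ ⟨w, hw, rfl⟩
  have h := snc_normal hP
  exact ⟨⟨s, hs⟩ * w * ⟨s, hs⟩⁻¹, h.conj_mem w hw ⟨s, hs⟩, rfl⟩

theorem sncOf_comm [Finite G] (P : Subgroup G) :
    ∀ a ∈ sncOf p P, ∀ b ∈ sncOf p P, a * b = b * a := by
  rintro _ ⟨a, ha, rfl⟩ _ ⟨b, hb, rfl⟩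
  exact congrArg Subtype.val (snc_comm a ha b hb)

theorem sncOf_pow [Finite G] (P : Subgroup G) : ∀ a ∈ sncOf p P, a ^ p = 1 := by
  rintro _ ⟨a, ha, rfl⟩
  exact congrArg Subtype.val (snc_pow a ha)

theorem sncOf_comm_of_quadratic [Finite G] [Fact p.Prime] (P : Subgroup G) {y : G} (hy : y ∈ P)
    (hq : ⁅⁅sncOf p P, Subgroup.zpowers y⁆, Subgroup.zpowers y⁆ = ⊥) :
    ∀ w ∈ sncOf p P, y * w = w * y := by
  have h1 : ⁅⁅stableNormalClosure p ↥P, Subgroup.zpowers (⟨y, hy⟩ : ↥P)⁆,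
      Subgroup.zpowers (⟨y, hy⟩ : ↥P)⁆ = ⊥ :=
    quadratic_of_map P.subtype P.subtype_injective hq
  rintro _ ⟨w, hw, rfl⟩
  exact congrArg Subtype.val (snc_comm_of_quadratic _ h1 w hw)

theorem conj_comm_mem_of_mem_sectionKernel {K N : Subgroup G} [N.Normal] {g : G}
    (hg : g ∈ sectionKernel K N) {v : G} (hv : v ∈ K) : v⁻¹ * g * v * g⁻¹ ∈ N := by
  have h := Subgroup.mem_centralizer_iff.1 (Subgroup.mem_comap.1 hg) _
    (Subgroup.mem_map_of_mem (QuotientGroup.mk' N) hv)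
  rw [← QuotientGroup.eq_one_iff]
  have h2 : ((v⁻¹ * g * v * g⁻¹ : G) : G ⧸ N) = (QuotientGroup.mk' N v)⁻¹ *
      (QuotientGroup.mk' N g * QuotientGroup.mk' N v) * (QuotientGroup.mk' N g)⁻¹ := by
    simp [mul_assoc]
  rw [h2, ← h]; group

/-- The kernel of the action on the Frattini quotient of `O_p(G)` is a `p`-group when
`C_G(O_p(G)) ≤ O_p(G)`. -/
theorem sectionKernel_isPGroup [Finite G] [Fact p.Prime]
    (hc : Subgroup.centralizer (pCore p G : Set G) ≤ pCore p G) :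
    IsPGroup p ↥(sectionKernel (pCore p G)
      ((frattini ↥(pCore p G)).map (pCore p G).subtype)) := by
  have hp : p.Prime := Fact.out
  have hQp : IsPGroup p (pCore p G) := Cfsg.Agent.Helper14.pCore_isPGroup p G
  have hΦn : ((frattini ↥(pCore p G)).map (pCore p G).subtype).Normal := inferInstance
  have hΦQ : (frattini ↥(pCore p G)).map (pCore p G).subtype ≤ pCore p G :=
    Subgroup.map_subtype_le _
  have hkey : ∀ q : ℕ, q.Prime → q ∣ Nat.card ↥(sectionKernel (pCore p G)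
      ((frattini ↥(pCore p G)).map (pCore p G).subtype)) → q = p := by
    intro q hq hdvd
    by_contra hne
    have : Fact q.Prime := ⟨hq⟩
    obtain ⟨x, hx⟩ := exists_prime_orderOf_dvd_card' q hdvd
    obtain ⟨g, hg⟩ : ∃ g : G, g = (x : G) := ⟨_, rfl⟩
    have hgK : g ∈ sectionKernel (pCore p G)
        ((frattini ↥(pCore p G)).map (pCore p G).subtype) := by rw [hg]; exact x.2
    have hgo : orderOf g = q := by rw [hg, Subgroup.orderOf_coe]; exact hx
    have hPq : IsPGroup q (Subgroup.zpowers g) :=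
      IsPGroup.of_card (n := 1) (by rw [Nat.card_zpowers, hgo, pow_one])
    have hΦq : ¬ q ∣ Nat.card ↥((frattini ↥(pCore p G)).map (pCore p G).subtype) := by
      intro hd
      obtain ⟨m, hm⟩ := (hQp.to_le hΦQ).exists_card_eq
      rw [hm] at hd
      exact hne ((Nat.prime_dvd_prime_iff_eq hq hp).1 (hq.dvd_of_dvd_pow hd))
    have hfix : ∀ v ∈ pCore p G, ∃ n ∈ (frattini ↥(pCore p G)).map (pCore p G).subtype,
        g * (v * n) = (v * n) * g := by
      intro v hv
      obtain ⟨n, hn, hcn⟩ := exists_fixed_lift_gen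
        ((frattini ↥(pCore p G)).map (pCore p G).subtype) hΦq (Subgroup.zpowers g) hPq
        (fun c _ n hn => hΦn.conj_mem n hn c) v
        (fun c hc => conj_comm_mem_of_mem_sectionKernel
          ((Subgroup.zpowers_le.2 hgK) hc) hv)
      exact ⟨n, hn, hcn g (Subgroup.mem_zpowers g)⟩
    obtain ⟨X, hX⟩ : ∃ X : Subgroup ↥(pCore p G),
        X = (Subgroup.centralizer ({g} : Set G)).subgroupOf (pCore p G) := ⟨_, rfl⟩
    have hXsup : X ⊔ frattini ↥(pCore p G) = ⊤ := by
      rw [eq_top_iff]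
      intro v _
      obtain ⟨n, hn, hcn⟩ := hfix v v.2
      obtain ⟨n₀, hn₀, rfl⟩ := hn
      have h1 : v * n₀ ∈ X := by
        rw [hX, Subgroup.mem_subgroupOf, Subgroup.mem_centralizer_iff]
        intro h hh
        rw [Set.mem_singleton_iff.1 hh]
        exact hcn
      have h2 : v = (v * n₀) * n₀⁻¹ := by group
      rw [h2]
      exact Subgroup.mul_mem _ (Subgroup.mem_sup_left h1)
        (Subgroup.mem_sup_right (Subgroup.inv_mem _ hn₀))
    have hXtop : X = ⊤ := frattini_nongenerating hXsup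
    have hgC : g ∈ Subgroup.centralizer (pCore p G : Set G) := by
      rw [Subgroup.mem_centralizer_iff]
      intro v hv
      have h1 : (⟨v, hv⟩ : ↥(pCore p G)) ∈ X := by rw [hXtop]; exact Subgroup.mem_top _
      rw [hX, Subgroup.mem_subgroupOf, Subgroup.mem_centralizer_iff] at h1
      exact (h1 g rfl).symm
    have hgQ : g ∈ pCore p G := hc hgC
    obtain ⟨k, hk⟩ := hQp ⟨g, hgQ⟩
    have hk' : g ^ (p ^ k) = 1 := congrArg Subtype.val hk
    have hd : q ∣ p ^ k := by rw [← hgo]; exact orderOf_dvd_of_pow_eq_one hk'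
    exact hne ((Nat.prime_dvd_prime_iff_eq hq hp).1 (hq.dvd_of_dvd_pow hd))
  have hcard := Nat.eq_prime_pow_of_unique_prime_dvd (p := p) (Nat.card_pos (α := ↥(sectionKernel
    (pCore p G) ((frattini ↥(pCore p G)).map (pCore p G).subtype)))).ne'
    (fun {d} hd hdvd => hkey d hd hdvd)
  exact IsPGroup.of_card hcard

/-- `W(S) ≤ O_p(G)` when `G` acts `p`-stably on the Frattini quotient of `O_p(G)`. -/
theorem sncOf_le_pCore [Finite G] [Fact p.Prime]
    (hc : Subgroup.centralizer (pCore p G : Set G) ≤ pCore p G)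
    (hsec : IsPStableOnSection p (pCore p G)
      ((frattini ↥(pCore p G)).map (pCore p G).subtype))
    (S : Sylow p G) : sncOf p (S : Subgroup G) ≤ pCore p G := by
  intro a ha
  have hQS : pCore p G ≤ S := Cfsg.Agent.Helper14.pCore_le_sylow S
  have h1 : ⁅pCore p G, Subgroup.zpowers a⁆ ≤ sncOf p (S : Subgroup G) := by
    rw [Subgroup.commutator_le]
    intro v hv z hz
    have hzW : z ∈ sncOf p (S : Subgroup G) := (Subgroup.zpowers_le.2 ha) hz
    rw [commutatorElement_def]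
    exact Subgroup.mul_mem _ (sncOf_conj_mem S.isPGroup' v (hQS hv) z hzW)
      (Subgroup.inv_mem _ hzW)
  have h2 : ⁅sncOf p (S : Subgroup G), Subgroup.zpowers a⁆ = ⊥ := by
    rw [commutator_zpowers_eq_bot_iff]
    intro w hw
    exact sncOf_comm _ a ha w hw
  have h3 : ⁅⁅pCore p G, Subgroup.zpowers a⁆, Subgroup.zpowers a⁆ ≤
      (frattini ↥(pCore p G)).map (pCore p G).subtype := by
    refine le_trans (Subgroup.commutator_mono h1 le_rfl) ?_
    rw [h2]; exact bot_le
  obtain ⟨D, hDn, hKD, ⟨k, hk⟩, haD⟩ := hsec a h3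
  have hKp := sectionKernel_isPGroup (p := p) hc
  have hDp : IsPGroup p D := by
    obtain ⟨j, hj⟩ := hKp.exists_card_eq
    have h4 := card_eq_card_mul_relIndex hKD
    apply IsPGroup.of_card (n := j + k)
    rw [h4, hj, hk, pow_add]
  exact Cfsg.Agent.Helper14.le_pCore hDn hDp haD

/-- Conjugates of `W(S)` centralize `W(S)`. -/
theorem sncOf_conj_comm [Finite G] [Fact p.Prime] (S : Sylow p G)
    (hWQ : sncOf p (S : Subgroup G) ≤ pCore p G) (g : G) :
    ∀ w ∈ sncOf p (S : Subgroup G), ∀ w' ∈ sncOf p (S : Subgroup G),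
      (g * w' * g⁻¹) * w = w * (g * w' * g⁻¹) := by
  intro w hw w' hw'
  have hQn : (pCore p G).Normal := Cfsg.Agent.Helper14.pCore_normal p G
  have hQS : pCore p G ≤ S := Cfsg.Agent.Helper14.pCore_le_sylow S
  have hyQ : g * w' * g⁻¹ ∈ pCore p G := hQn.conj_mem w' (hWQ hw') g
  refine sncOf_comm_of_quadratic (S : Subgroup G) (hQS hyQ) ?_ w hw
  have h1 : ⁅sncOf p (S : Subgroup G), Subgroup.zpowers (g * w' * g⁻¹)⁆ ≤
      (sncOf p (S : Subgroup G)).map (MulAut.conj g).toMonoidHom := by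
    rw [Subgroup.commutator_le]
    intro v hv z hz
    obtain ⟨k, rfl⟩ := Subgroup.mem_zpowers_iff.1 hz
    rw [conj_zpow]
    have hu : w' ^ k ∈ sncOf p (S : Subgroup G) := Subgroup.zpow_mem _ hw' k
    have hv' : g⁻¹ * v * g ∈ (S : Subgroup G) := by
      have h := hQn.conj_mem v (hWQ hv) g⁻¹
      rw [inv_inv] at h
      exact hQS h
    have h3 := sncOf_conj_mem S.isPGroup' _ hv' _ hu
    refine ⟨(g⁻¹ * v * g) * w' ^ k * (g⁻¹ * v * g)⁻¹ * (w' ^ k)⁻¹,
      Subgroup.mul_mem _ h3 (Subgroup.inv_mem _ hu), ?_⟩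
    simp only [MulEquiv.coe_toMonoidHom, MulAut.conj_apply, commutatorElement_def]
    group
  have h2 : ⁅(sncOf p (S : Subgroup G)).map (MulAut.conj g).toMonoidHom,
      Subgroup.zpowers (g * w' * g⁻¹)⁆ = ⊥ := by
    rw [commutator_zpowers_eq_bot_iff]
    rintro _ ⟨x, hx, rfl⟩
    have h4 := sncOf_comm (p := p) (S : Subgroup G) w' hw' x hx
    simp only [MulEquiv.coe_toMonoidHom, MulAut.conj_apply]
    calc g * w' * g⁻¹ * (g * x * g⁻¹) = g * (w' * x) * g⁻¹ := by group
      _ = g * (x * w') * g⁻¹ := by rw [h4]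
      _ = g * x * g⁻¹ * (g * w' * g⁻¹) := by group
  rw [eq_bot_iff, ← h2]
  exact Subgroup.commutator_mono h1 le_rfl

/-- The normal closure of `W(P)` in `G`. -/
def wtil (p : ℕ) (P : Subgroup G) : Subgroup G :=
  Subgroup.closure {x | ∃ g : G, ∃ w ∈ sncOf p P, x = g * w * g⁻¹}

theorem wtil_normal (P : Subgroup G) : (wtil p P).Normal := by
  apply closure_normal_of_conj_mem
  rintro _ ⟨g, w, hw, rfl⟩ h
  exact ⟨h * g, w, hw, by group⟩

theorem sncOf_le_wtil (P : Subgroup G) : sncOf p P ≤ wtil p P := by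
  intro w hw
  exact Subgroup.subset_closure ⟨1, w, hw, by group⟩

theorem wtil_gen_comm [Finite G] [Fact p.Prime] (S : Sylow p G)
    (hWQ : sncOf p (S : Subgroup G) ≤ pCore p G) :
    ∀ a ∈ {x | ∃ g : G, ∃ w ∈ sncOf p (S : Subgroup G), x = g * w * g⁻¹},
    ∀ b ∈ {x | ∃ g : G, ∃ w ∈ sncOf p (S : Subgroup G), x = g * w * g⁻¹}, a * b = b * a := by
  rintro _ ⟨g, w, hw, rfl⟩ _ ⟨g', w', hw', rfl⟩
  have h := sncOf_conj_comm S hWQ (g'⁻¹ * g) w' hw' w hw
  calc g * w * g⁻¹ * (g' * w' * g'⁻¹)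
      = g' * ((g'⁻¹ * g) * w * (g'⁻¹ * g)⁻¹ * w') * g'⁻¹ := by group
    _ = g' * (w' * ((g'⁻¹ * g) * w * (g'⁻¹ * g)⁻¹)) * g'⁻¹ := by rw [h]
    _ = g' * w' * g'⁻¹ * (g * w * g⁻¹) := by group

theorem wtil_comm [Finite G] [Fact p.Prime] (S : Sylow p G)
    (hWQ : sncOf p (S : Subgroup G) ≤ pCore p G) :
    ∀ a ∈ wtil p (S : Subgroup G), ∀ b ∈ wtil p (S : Subgroup G), a * b = b * a :=
  comm_of_isMulCommutative (Subgroup.isMulCommutative_closure (wtil_gen_comm S hWQ))

theorem wtil_pow [Finite G] [Fact p.Prime] (S : Sylow p G)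
    (hWQ : sncOf p (S : Subgroup G) ≤ pCore p G) :
    ∀ a ∈ wtil p (S : Subgroup G), a ^ p = 1 :=
  pow_eq_one_of_mem_closure (wtil_gen_comm S hWQ) (by
    rintro _ ⟨g, w, hw, rfl⟩
    rw [conj_pow, sncOf_pow _ w hw]; group)

theorem wtil_le_pCore [Finite G] [Fact p.Prime] (S : Sylow p G)
    (hWQ : sncOf p (S : Subgroup G) ≤ pCore p G) : wtil p (S : Subgroup G) ≤ pCore p G := by
  unfold wtil; rw [Subgroup.closure_le]
  rintro _ ⟨g, w, hw, rfl⟩
  exact (Cfsg.Agent.Helper14.pCore_normal p G).conj_mem w (hWQ hw) g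

theorem mem_centralizer_wtil {P : Subgroup G} {a : G}
    (h : ∀ g : G, ∀ w ∈ sncOf p P, (g * w * g⁻¹) * a = a * (g * w * g⁻¹)) :
    a ∈ Subgroup.centralizer (wtil p P : Set G) := by
  have h1 : wtil p P ≤ Subgroup.centralizer ({a} : Set G) := by
    unfold wtil; rw [Subgroup.closure_le]
    rintro _ ⟨g, w, hw, rfl⟩
    rw [SetLike.mem_coe, Subgroup.mem_centralizer_iff]
    intro b hb
    rw [Set.mem_singleton_iff.1 hb]
    exact (h g w hw).symm
  rw [Subgroup.mem_centralizer_iff]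
  intro x hx
  exact (Subgroup.mem_centralizer_iff.1 (h1 hx) a rfl).symm

/-- Every elementary abelian subgroup of `S` of largest order centralizes the normal closure
of `W(S)`. -/
theorem zjFam_le_centralizer_wtil [Finite G] [Fact p.Prime]
    (hst : ∀ (V : Subgroup G) [V.Normal], IsElementaryAbelian p V → IsPStableOn p V)
    (S : Sylow p G) (hWQ : sncOf p (S : Subgroup G) ≤ pCore p G) :
    ∀ A ∈ zjFam p true (S : Subgroup G),
      A ≤ Subgroup.centralizer (wtil p (S : Subgroup G) : Set G) := by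
  intro A hA
  by_contra hAC
  have hQS : pCore p G ≤ S := Cfsg.Agent.Helper14.pCore_le_sylow S
  have hWn : (wtil p (S : Subgroup G)).Normal := wtil_normal _
  have hWc := wtil_comm S hWQ
  have hWp := wtil_pow S hWQ
  have hWS : wtil p (S : Subgroup G) ≤ S := (wtil_le_pCore S hWQ).trans hQS
  have hWgood : zjGood p true (wtil p (S : Subgroup G)) :=
    ⟨Subgroup.isMulCommutative_closure (wtil_gen_comm S hWQ), fun _ => hWp⟩
  obtain ⟨A₁, ⟨hA₁, hA₁C⟩, hmax⟩ := Set.exists_max_image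
    {A' : Subgroup G | A' ∈ zjFam p true (S : Subgroup G) ∧
      ¬ A' ≤ Subgroup.centralizer (wtil p (S : Subgroup G) : Set G)}
    (fun A' => Nat.card ↥(A' ⊓ wtil p (S : Subgroup G))) (Set.toFinite _) ⟨A, hA, hAC⟩
  have hA₁c := comm_of_isMulCommutative hA₁.2.1.1
  have hWN : wtil p (S : Subgroup G) ≤ Subgroup.normalizer (A₁ : Set G) := by
    by_contra hnot
    obtain ⟨A', hA', hlt, hA'N⟩ := thompson_replacement_zjFam' true S.isPGroup'
      (wtil p (S : Subgroup G)) (fun _ => Or.inr hWp) hWS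
      (fun x _ b hb => hWn.conj_mem b hb x) hWc hA₁ hnot
    by_cases hA'C : A' ≤ Subgroup.centralizer (wtil p (S : Subgroup G) : Set G)
    · have hgood : zjGood p true (A' ⊔ wtil p (S : Subgroup G)) :=
        zjGood_sup_of_comm hA'.2.1 hWgood
          (fun a ha b hb => (Subgroup.mem_centralizer_iff.1 (hA'C ha) b hb).symm)
      have hcard := hA'.2.2 _ (sup_le hA'.1 hWS) hgood
      have heq : A' = A' ⊔ wtil p (S : Subgroup G) :=
        Subgroup.eq_of_le_of_card_ge le_sup_left hcard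
      apply hnot
      refine le_trans ?_ hA'N
      rw [heq]; exact le_sup_right
    · have h5 := hmax A' ⟨hA', hA'C⟩
      omega
  apply hA₁C
  intro a ha
  have hq : ⁅⁅wtil p (S : Subgroup G), Subgroup.zpowers a⁆, Subgroup.zpowers a⁆ = ⊥ := by
    have h1 : ⁅wtil p (S : Subgroup G), Subgroup.zpowers a⁆ ≤ A₁ := by
      rw [Subgroup.commutator_le]
      intro w hw z hz
      have hzA : z ∈ A₁ := (Subgroup.zpowers_le.2 ha) hz
      rw [commutatorElement_def]
      exact Subgroup.mul_mem _ ((Subgroup.mem_normalizer_iff.1 (hWN hw) z).1 hzA)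
        (Subgroup.inv_mem _ hzA)
    have h2 : ⁅A₁, Subgroup.zpowers a⁆ = ⊥ := by
      rw [commutator_zpowers_eq_bot_iff]
      intro x hx
      exact hA₁c a ha x hx
    rw [eq_bot_iff, ← h2]
    exact Subgroup.commutator_mono h1 le_rfl
  apply mem_centralizer_wtil
  intro g w hw
  have hq' : ⁅⁅wtil p (S : Subgroup G), Subgroup.zpowers (g⁻¹ * a * g)⁆,
      Subgroup.zpowers (g⁻¹ * a * g)⁆ = ⊥ := by
    have h1 := quadratic_map (MulAut.conj g⁻¹).toMonoidHom hq
    rw [map_conj_eq_of_mem_normalizer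
      (by rw [Subgroup.normalizer_eq_top]; exact Subgroup.mem_top _)] at h1
    simpa using h1
  have hel : IsElementaryAbelian p (wtil p (S : Subgroup G)) := ⟨hWgood.1, hWp⟩
  have hmem := hst (wtil p (S : Subgroup G)) hel _ hq'
  obtain ⟨s, hs, hsa⟩ := pCore_quot_le_map_sylow
    (Subgroup.centralizer (wtil p (S : Subgroup G) : Set G)) S hmem
  have hC : (g⁻¹ * a * g)⁻¹ * s ∈ Subgroup.centralizer (wtil p (S : Subgroup G) : Set G) :=
    QuotientGroup.eq.1 hsa.symm
  have hsq := quadratic_of_agree (agree_of_mem_centralizer hC) hq'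
  have hsq' : ⁅⁅sncOf p (S : Subgroup G), Subgroup.zpowers s⁆, Subgroup.zpowers s⁆ = ⊥ := by
    rw [eq_bot_iff, ← hsq]
    exact Subgroup.commutator_mono (Subgroup.commutator_mono (sncOf_le_wtil _) le_rfl) le_rfl
  have hsw := sncOf_comm_of_quadratic (S : Subgroup G) hs hsq' w hw
  have hcw := Subgroup.mem_centralizer_iff.1 hC w (sncOf_le_wtil _ hw)
  have ha' : (g⁻¹ * a * g) * w = w * (g⁻¹ * a * g) := by
    obtain ⟨a', ha'⟩ : ∃ a', a' = g⁻¹ * a * g := ⟨_, rfl⟩
    rw [← ha'] at hcw ⊢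
    calc a' * w = a' * (w * (a'⁻¹ * s)) * s⁻¹ * a' := by group
      _ = a' * ((a'⁻¹ * s) * w) * s⁻¹ * a' := by rw [hcw]
      _ = (s * w) * s⁻¹ * a' := by group
      _ = (w * s) * s⁻¹ * a' := by rw [hsw]
      _ = w * a' := by group
  calc g * w * g⁻¹ * a = g * (w * (g⁻¹ * a * g)) * g⁻¹ := by group
    _ = g * ((g⁻¹ * a * g) * w) * g⁻¹ := by rw [ha']
    _ = a * (g * w * g⁻¹) := by group

theorem thompsonSubgroupOf_eq_sSup [Finite G] (P : Subgroup G) :
    thompsonSubgroupOf p P = sSup (zjFam p true P) := by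
  rw [thompsonSubgroupOf_eq_ind, ind_jW]

theorem zjFam_eq_of_le [Finite G] {e : Bool} {P R : Subgroup G} (hRP : R ≤ P)
    (hJ : ∀ A ∈ zjFam p e P, A ≤ R) : zjFam p e R = zjFam p e P := by
  ext A
  constructor
  · rintro ⟨hAR, hAg, hAmax⟩
    obtain ⟨A₀, hA₀⟩ := zjFam_nonempty p e P
    refine ⟨hAR.trans hRP, hAg, fun B hBP hBg => ?_⟩
    exact (hA₀.2.2 B hBP hBg).trans (hAmax A₀ (hJ A₀ hA₀) hA₀.2.1)
  · intro hA
    exact ⟨hJ A hA, hA.2.1, fun B hBR hBg => hA.2.2 B (hBR.trans hRP) hBg⟩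

/-- Frattini argument: if `J(S)` lies in the normal subgroup `C`, then `G = N_G(J(S)) C`. -/
theorem exists_mul_of_thompson_le [Finite G] [Fact p.Prime] (S : Sylow p G) (C : Subgroup G)
    [C.Normal] (hJ : ∀ A ∈ zjFam p true (S : Subgroup G), A ≤ C) :
    ∀ g : G, ∃ n ∈ Subgroup.normalizer (thompsonSubgroupOf p (S : Subgroup G) : Set G),
      ∃ c ∈ C, n * c = g := by
  intro g
  have h1 := frattini_inf S C
  have hg : g ∈ Subgroup.normalizer ((((S : Subgroup G) ⊓ C : Subgroup G)) : Set G) ⊔ C := by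
    rw [h1]; exact Subgroup.mem_top _
  obtain ⟨n, hn, c, hc, hnc⟩ := Subgroup.mem_sup_of_normal_right.1 hg
  refine ⟨n, ?_, c, hc, hnc⟩
  have hRp : IsPGroup p ↥((S : Subgroup G) ⊓ C) := S.isPGroup'.to_le inf_le_left
  have h2 := Cfsg.Agent.Helper10.normalizer_le_normalizer_ind (jW p true) (jW_char p true)
    ((S : Subgroup G) ⊓ C) hRp hn
  rw [← thompsonSubgroupOf_eq_ind, thompsonSubgroupOf_eq_sSup,
    zjFam_eq_of_le inf_le_left (fun A hA => le_inf hA.1 (hJ A hA)),
    ← thompsonSubgroupOf_eq_sSup] at h2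
  exact h2

/-- The inclusion of a Sylow `p`-subgroup `S` into `N_G(J(S))` is a stable embedding. -/
theorem isStableEmbedding_inclusion [Finite G] [Fact p.Prime]
    (hc : Subgroup.centralizer (pCore p G : Set G) ≤ pCore p G) (S : Sylow p G)
    (hst3 : ∀ (V : Subgroup ↥(Subgroup.normalizer
        (thompsonSubgroupOf p (S : Subgroup G) : Set G))) [V.Normal],
      V.map (Subgroup.normalizer (thompsonSubgroupOf p (S : Subgroup G) : Set G)).subtype ≤
        (omegaCenterThompson p ↥(S : Subgroup G)).map (S : Subgroup G).subtype →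
      IsPStableOn p V)
    (hSN : (S : Subgroup G) ≤
      Subgroup.normalizer (thompsonSubgroupOf p (S : Subgroup G) : Set G)) :
    IsStableEmbedding p (Subgroup.inclusion hSN) := by
  refine ⟨Subgroup.inclusion_injective hSN, inferInstance, ⟨S.subtype hSN, ?_⟩, ?_, ?_, ?_⟩
  · rw [Sylow.coe_subtype, Subgroup.inclusion_range]
  · intro x hx
    have hQn : (pCore p G).Normal := Cfsg.Agent.Helper14.pCore_normal p G
    have hQ'le : (pCore p G).subgroupOf
        (Subgroup.normalizer (thompsonSubgroupOf p (S : Subgroup G) : Set G)) ≤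
        pCore p ↥(Subgroup.normalizer (thompsonSubgroupOf p (S : Subgroup G) : Set G)) :=
      Cfsg.Agent.Helper14.le_pCore (hQn.subgroupOf _)
        ((Cfsg.Agent.Helper14.pCore_isPGroup p G).comap_subtype)
    have hxC : (x : G) ∈ Subgroup.centralizer (pCore p G : Set G) := by
      rw [Subgroup.mem_centralizer_iff]
      intro q hq
      have hqN : q ∈ Subgroup.normalizer (thompsonSubgroupOf p (S : Subgroup G) : Set G) :=
        hSN (Cfsg.Agent.Helper14.pCore_le_sylow S hq)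
      have h1 := Subgroup.mem_centralizer_iff.1 hx ⟨q, hqN⟩
        (hQ'le (Subgroup.mem_subgroupOf.2 hq))
      exact congrArg Subtype.val h1
    exact hQ'le (Subgroup.mem_subgroupOf.2 (hc hxC))
  · refine ⟨fun y hy n => ?_⟩
    obtain ⟨j, hj, rfl⟩ := hy
    have h1 : (j : G) ∈ thompsonSubgroupOf p (S : Subgroup G) := ⟨j, hj, rfl⟩
    have h2 := (Subgroup.mem_normalizer_iff.1 n.2 (j : G)).1 h1
    obtain ⟨j', hj', hj'e⟩ := h2
    exact ⟨j', hj', Subtype.ext hj'e⟩
  · intro V _ hV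
    apply hst3 V
    have h := Subgroup.map_mono
      (f := (Subgroup.normalizer (thompsonSubgroupOf p (S : Subgroup G) : Set G)).subtype) hV
    rw [Subgroup.map_map] at h
    exact h

/-- The `W(S)`-theorem. -/
theorem sncOf_normal [Finite G] [Fact p.Prime] (hst : IsActionPStable p G)
    (hc : Subgroup.centralizer (pCore p G : Set G) ≤ pCore p G) (S : Sylow p G) :
    (sncOf p (S : Subgroup G)).Normal := by
  obtain ⟨hst1, hst2, hst3⟩ := hst
  have hWQ := sncOf_le_pCore hc hst2 S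
  have hJ := zjFam_le_centralizer_wtil hst1 S hWQ
  have hWn : (wtil p (S : Subgroup G)).Normal := wtil_normal _
  have hfr := exists_mul_of_thompson_le S
    (Subgroup.centralizer (wtil p (S : Subgroup G) : Set G)) hJ
  have hSN : (S : Subgroup G) ≤
      Subgroup.normalizer (thompsonSubgroupOf p (S : Subgroup G) : Set G) := by
    have h := Cfsg.Agent.Helper10.normalizer_le_normalizer_ind (jW p true) (jW_char p true)
      (S : Subgroup G) S.isPGroup'
    rw [← thompsonSubgroupOf_eq_ind] at h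
    exact Subgroup.le_normalizer.trans h
  have hτ := isStableEmbedding_inclusion hc S (hst3 S) hSN
  have hn := snc_map_normal _ hτ
  refine ⟨fun w hw g => ?_⟩
  obtain ⟨n, hn', c, hc', rfl⟩ := hfr g
  have h1 : c * w * c⁻¹ = w := by
    have h := Subgroup.mem_centralizer_iff.1 hc' w (sncOf_le_wtil _ hw)
    rw [← h]; group
  have h2 : n * c * w * (n * c)⁻¹ = n * (c * w * c⁻¹) * n⁻¹ := by group
  rw [h2, h1]
  obtain ⟨w₀, hw₀, rfl⟩ := hw
  obtain ⟨w₁, hw₁, hw₁e⟩ := hn.conj_mem (Subgroup.inclusion hSN w₀)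
    (Subgroup.mem_map_of_mem _ hw₀) ⟨n, hn'⟩
  refine ⟨w₁, hw₁, ?_⟩
  have h := congrArg Subtype.val hw₁e
  simpa using h

end InG

end Cfsg.Agent.Helper23
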