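import Mathlib
import Cfsg.Agent.Helper23.Dk5

/-!
Helper library (helper23): explicit form of the Dickson-type theorem: a finite subgroup of `SL₂`
(odd characteristic `p`) generated by elements of order `p` and not a `p`-group contains two
elements of order `p` whose product has trace `3`.
-/

set_option autoImplicit false
set_option linter.unusedSimpArgs false

namespace Cfsg.Agent.Helper23.Dk

open Cfsg Cfsg.Agent.Helper12 Cfsg.Agent.Helper23.QP

section K1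

variable {L : Type*} [Field L] {p : ℕ} [Fact p.Prime] [CharP L p] {Y : Type*} [Group Y]
variable (ι : Y →* Matrix.SpecialLinearGroup (Fin 2) L) (hι : Function.Injective ι)
variable {u₀ : Y} {s₀ : L} (hu : ι u₀ = sl2U s₀) (hs : s₀ ≠ 0)
include hι hu hs

/-- If there are exactly `q + 1` cosets of the upper triangular subgroup, there is a pair of
elements of order `p` with product of trace `3`. -/
theorem pair_of_k1 [Finite Y] (hidx : (Bo ι).index = 1 + Nat.card (Pu ι)) :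
    ∃ x y : Y, x ^ p = 1 ∧ y ^ p = 1 ∧ trS (ι (x * y)) = 3 := by
  have hq1 : 1 ≤ Nat.card ↥(Pu ι) := Nat.card_pos
  obtain ⟨g, hg⟩ : ∃ g : Y, g ∉ Bo ι := by
    by_contra hcon
    push Not at hcon
    have h1 : Bo ι = ⊤ := by rw [eq_top_iff]; exact fun x _ => hcon x
    rw [← Subgroup.index_eq_one] at h1
    omega
  rw [mem_Bo] at hg
  obtain ⟨ψ, hψ⟩ : ∃ ψ : Option ↥(Pu ι) → Y ⧸ Bo ι,
      ψ = fun o => o.elim ((1 : Y) : Y ⧸ Bo ι) (fun v => (((v : Y) * g : Y) : Y ⧸ Bo ι)) :=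
    ⟨_, rfl⟩
  have hψi : Function.Injective ψ := by
    intro a b hab
    rw [hψ] at hab
    rcases a with _ | a <;> rcases b with _ | b
    · rfl
    · exfalso
      have h1 : ((1 : Y) : Y ⧸ Bo ι) = (((b : Y) * g : Y) : Y ⧸ Bo ι) := hab
      rw [QuotientGroup.eq, inv_one, one_mul] at h1
      have h2 : g ∈ Bo ι := by
        have := (Bo ι).mul_mem ((Bo ι).inv_mem (Pu_le_Bo ι b.2)) h1
        rwa [inv_mul_cancel_left] at this
      exact hg h2
    · exfalso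
      have h1 : (((a : Y) * g : Y) : Y ⧸ Bo ι) = ((1 : Y) : Y ⧸ Bo ι) := hab
      rw [eq_comm, QuotientGroup.eq, inv_one, one_mul] at h1
      have h2 : g ∈ Bo ι := by
        have := (Bo ι).mul_mem ((Bo ι).inv_mem (Pu_le_Bo ι a.2)) h1
        rwa [inv_mul_cancel_left] at this
      exact hg h2
    · have h1 : (((a : Y) * g : Y) : Y ⧸ Bo ι) = (((b : Y) * g : Y) : Y ⧸ Bo ι) := hab
      rw [QuotientGroup.eq, mem_Bo] at h1
      have hw : (a : Y)⁻¹ * (b : Y) ∈ Pu ι := (Pu ι).mul_mem ((Pu ι).inv_mem a.2) b.2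
      have h2 : ι (((a : Y) * g)⁻¹ * ((b : Y) * g)) =
          (ι g)⁻¹ * sl2U (e01 (ι ((a : Y)⁻¹ * (b : Y)))) * ι g := by
        rw [← Pu_eq_U ι hw, ← map_inv, ← map_mul, ← map_mul]
        congr 1
        group
      rw [h2, e10_conjU'] at h1
      rcases mul_eq_zero.1 h1 with h3 | h3
      · have h4 : e01 (ι ((a : Y)⁻¹ * (b : Y))) = 0 := neg_eq_zero.1 h3
        have h5 : (a : Y)⁻¹ * (b : Y) = 1 := by
          apply hι
          rw [Pu_eq_U ι hw, h4, sl2U_zero, map_one]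
        rw [inv_mul_eq_one] at h5
        rw [Subtype.ext h5]
      · exact absurd (pow_eq_zero_iff (two_ne_zero) |>.1 h3) hg
  have hψb : Function.Bijective ψ := by
    apply hψi.bijective_of_nat_card_le
    rw [Finite.card_option, ← Subgroup.index_eq_card, hidx]
    omega
  obtain ⟨o, ho⟩ := hψb.2 (((g * u₀ * g⁻¹ : Y)) : Y ⧸ Bo ι)
  have hu'B : e10 (ι (g * u₀ * g⁻¹)) ≠ 0 := by
    rw [map_mul, map_mul, map_inv, hu, e10_conjU]
    exact mul_ne_zero (neg_ne_zero.2 hs) (pow_ne_zero 2 hg)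
  rw [hψ] at ho
  rcases o with _ | v
  · exfalso
    have h1 : ((1 : Y) : Y ⧸ Bo ι) = ((g * u₀ * g⁻¹ : Y) : Y ⧸ Bo ι) := ho
    rw [QuotientGroup.eq, inv_one, one_mul] at h1
    exact hu'B h1
  · have h1 : (((v : Y) * g : Y) : Y ⧸ Bo ι) = ((g * u₀ * g⁻¹ : Y) : Y ⧸ Bo ι) := ho
    rw [eq_comm, QuotientGroup.eq, mem_Bo] at h1
    obtain ⟨x, hx⟩ : ∃ x : L, x = e01 (ι (v : Y)) := ⟨_, rfl⟩
    have hv : ι (v : Y) = sl2U x := by rw [hx]; exact Pu_eq_U ι v.2
    obtain ⟨c, hc⟩ : ∃ c : L, c = e10 (ι g) := ⟨_, rfl⟩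
    obtain ⟨a, ha⟩ : ∃ a : L, a = e00 (ι g) := ⟨_, rfl⟩
    rw [← hc] at hg
    have h2 : e10 (ι ((g * u₀ * g⁻¹)⁻¹ * ((v : Y) * g))) = c * (1 + s₀ * x * c ^ 2) := by
      rw [map_mul, map_inv, map_mul, map_mul, map_mul, map_inv, hu, hv, e10_mul, e10_inv,
        e11_inv, e10_conjU, e00_conjU, e00_mul, e10_mul, e00_U, e01_U, e10_U, e11_U, ← hc, ← ha]
      ring
    rw [h2] at h1
    have h3 : 1 + s₀ * x * c ^ 2 = 0 := (mul_eq_zero.1 h1).resolve_left hg
    refine ⟨(v : Y), g * u₀ * g⁻¹, Pu_pow ι hι v.2, ?_, ?_⟩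
    · rw [conj_pow, Pu_pow ι hι (u₀_mem_Pu ι hu), mul_one, mul_inv_cancel]
    · rw [trS_eq, map_mul, hv, e00_mul, e11_mul, e00_U, e01_U, e10_U, e11_U, map_mul, map_mul,
        map_inv, hu, e00_conjU, e10_conjU, e11_conjU, ← hc, ← ha]
      linear_combination (-1 : L) * h3

end K1

section Final

variable {L : Type*} [Field L] {p : ℕ} [Fact p.Prime] [CharP L p] {Y : Type*} [Group Y]
variable (ι : Y →* Matrix.SpecialLinearGroup (Fin 2) L) (hι : Function.Injective ι)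
include hι

/-- The case `N(P) = C(P)`: the `Q₈ ⋊ C₃` configuration. -/
theorem config_of_hb1 [Finite Y] {u₀ : Y} {s₀ : L} (hu : ι u₀ = sl2U s₀) (hs : s₀ ≠ 0) (hp2 : p ≠ 2)
    (hgen : Subgroup.closure {g : Y | g ^ p = 1} = ⊤) (hnp : ¬ IsPGroup p Y)
    (hb : Nat.card (sqHom ι).range = 1) :
    p = 3 ∧ ∃ y u : Y, y ^ 3 = 1 ∧ trS (ι (y * u * y⁻¹ * u⁻¹)) = 0 := by
  have hp : p.Prime := Fact.out
  have hBC : Subgroup.centralizer ({u₀} : Set Y) = Bo ι := by
    apply Subgroup.eq_of_le_of_card_ge (cent_le_Bo ι hι hu hs)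
    rw [card_Bo ι hι hu hs, hb, mul_one]
  obtain ⟨P, hPdef⟩ : ∃ P : Sylow p Y, P = PuSyl ι hι hu hs hp2 := ⟨_, rfl⟩
  have hPc : (P : Subgroup Y) = Pu ι := by rw [hPdef]; rfl
  have hP : Subgroup.normalizer ((P : Subgroup Y) : Set Y) ≤
      Subgroup.centralizer ((P : Subgroup Y) : Set Y) := by
    intro g hgN
    rw [hPc] at hgN ⊢
    have h1 : g * u₀ * g⁻¹ ∈ Pu ι := (Subgroup.mem_normalizer_iff.1 hgN u₀).1 (u₀_mem_Pu ι hu)
    have h2 : e10 (ι g) = 0 := by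
      have := h1.1
      rw [map_mul, map_mul, map_inv, hu, e10_conjU] at this
      rcases mul_eq_zero.1 this with h3 | h3
      · exact absurd (neg_eq_zero.1 h3) hs
      · exact pow_eq_zero_iff (two_ne_zero) |>.1 h3
    have h3 : g ∈ Subgroup.centralizer ({u₀} : Set Y) := by rw [hBC]; exact h2
    rw [Subgroup.mem_centralizer_singleton_iff] at h3
    rw [Subgroup.mem_centralizer_iff]
    intro v hv
    have hvC := Pu_le_cent ι hι hu hs hv
    rw [Subgroup.mem_centralizer_singleton_iff] at hvC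
    exact (ti ι hι).trans u₀ v g (u₀_not_mem_Zs ι hu hs) hvC h3
  have hc := MonoidHom.ker_transferSylow_isComplement' P hP
  obtain ⟨K, hK⟩ : ∃ K : Subgroup Y, K = (MonoidHom.transferSylow P hP).ker := ⟨_, rfl⟩
  have hKn : K.Normal := by rw [hK]; infer_instance
  rw [← hK] at hc
  have hcard := hc.card_mul_card
  have hPpos : 0 < Nat.card ↥(P : Subgroup Y) := Nat.card_pos
  have hKpos : 0 < Nat.card ↥K := Nat.card_pos
  have h1 : Nat.card K = (P : Subgroup Y).index := by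
    have h3 := Subgroup.card_mul_index (P : Subgroup Y)
    apply Nat.eq_of_mul_eq_mul_right hPpos
    rw [hcard, mul_comm, h3]
  have hcop : (Nat.card K).Coprime p := by
    rw [h1]
    exact ((Nat.Prime.coprime_iff_not_dvd hp).2 P.not_dvd_index).symm
  obtain ⟨m, hm⟩ := P.isPGroup'.exists_card_eq
  have hquot : Nat.card (Y ⧸ K) = p ^ m := by
    rw [← Subgroup.index_eq_card, ← hm]
    have h3 := Subgroup.card_mul_index K
    apply Nat.eq_of_mul_eq_mul_left hKpos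
    rw [h3, hcard]
  have hsol : IsPSolvable p Y :=
    Cfsg.Agent.Helper23.isPSolvable_of_bottom K (Or.inr hcop)
      (Cfsg.Agent.Helper10.isPSolvable_of_card_pow m hquot)
  obtain ⟨hp3, y, u, R, hR, hRn, huR, hy3, hu0, huq, huy⟩ :=
    psolv_config ι hι hp2 hsol hgen hnp
  exact ⟨hp3, y, u, hy3, huq⟩

/-- The exceptional case: the `Q₈ ⋊ C₃` configuration. -/
theorem config_of_exc [Finite Y] (hp3 : p = 3)
    (hgen : Subgroup.closure {g : Y | g ^ p = 1} = ⊤)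
    (hcard : Nat.card Y = 60 * Nat.card (Zs ι)) :
    ∃ y u : Y, y ^ 3 = 1 ∧ trS (ι (y * u * y⁻¹ * u⁻¹)) = 0 := by
  subst hp3
  have hp2 : (3 : ℕ) ≠ 2 := by norm_num
  have h2 : (2 : L) ≠ 0 := two_ne_zero_of_char hp2
  have hti := ti ι hι
  have hZn : (Zs ι).Normal := by
    refine ⟨fun n hn g => ?_⟩
    have h1 : g * n * g⁻¹ = n := by
      rw [← hti.central n hn g, mul_inv_cancel_right]
    rw [h1]; exact hn
  have hZsq : ∀ c ∈ Zs ι, c ^ 2 = 1 := by
    intro c hc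
    apply hι
    rw [map_pow, map_one]
    rcases scalar_cases _ ((mem_Zs ι).1 hc) with h | h
    · rw [h, one_pow]
    · rw [h, pow_two, sl2NegOne_mul_self]
  have hZ2 : IsPGroup 2 (Zs ι) := by
    rintro ⟨c, hc⟩
    exact ⟨1, Subtype.ext (by show c ^ 2 ^ 1 = 1; rw [pow_one]; exact hZsq c hc)⟩
  obtain ⟨j, hj⟩ := hZ2.exists_card_eq
  have hnp : ¬ IsPGroup 3 Y := by
    intro h
    obtain ⟨n, hn⟩ := h.exists_card_eq
    rw [hcard] at hn
    have h5 : 5 ∣ 3 ^ n := by rw [← hn]; exact Dvd.dvd.mul_right (by norm_num) _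
    have := Nat.Prime.dvd_of_dvd_pow (by norm_num : Nat.Prime 5) h5
    omega
  obtain ⟨T⟩ : Nonempty (Sylow 2 Y) := inferInstance
  have hTnc : ¬ ∀ a ∈ (T : Subgroup Y), ∀ b ∈ (T : Subgroup Y), a * b = b * a :=
    fun h => hnp (isPGroup_of_sylow2_comm ι hι hp2 hgen T h)
  push Not at hTnc
  obtain ⟨a, haT, b, hbT, hab⟩ := hTnc
  have hZT : Zs ι ≤ (T : Subgroup Y) := by
    intro c hc
    apply mem_sylow_of_mem_normalizer T (k := 1) _ (by rw [pow_one]; exact hZsq c hc)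
    rw [Subgroup.mem_normalizer_iff]
    intro h
    have h1 : c * h * c⁻¹ = h := by
      rw [hti.central c hc h, mul_inv_cancel_right]
    rw [h1]
  obtain ⟨π, hπ⟩ : ∃ π : Y →* Y ⧸ Zs ι, π = QuotientGroup.mk' (Zs ι) := ⟨_, rfl⟩
  have hπs : Function.Surjective π := by rw [hπ]; exact QuotientGroup.mk'_surjective _
  have hπk : π.ker = Zs ι := by rw [hπ]; exact QuotientGroup.ker_mk' _
  have hπeq : ∀ x y : Y, π x = π y → x⁻¹ * y ∈ Zs ι := by
    intro x y hxy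
    rw [hπ] at hxy
    exact QuotientGroup.eq.1 hxy
  have hT2 : IsPGroup 2 ((T : Subgroup Y).map π) := T.isPGroup'.map π
  have hidx : ¬ 2 ∣ ((T : Subgroup Y).map π).index := by
    rw [Subgroup.index_map, hπk, sup_of_le_left hZT, MonoidHom.range_eq_top.2 hπs,
      Subgroup.index_top, mul_one]
    exact T.not_dvd_index
  obtain ⟨TS, hTS⟩ : ∃ TS : Sylow 2 (Y ⧸ Zs ι), (TS : Subgroup (Y ⧸ Zs ι)) = (T : Subgroup Y).map π :=
    ⟨hT2.toSylow hidx, IsPGroup.toSylow_coe hT2 hidx⟩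
  -- the quotient has order 60
  have hq60 : Nat.card (Y ⧸ Zs ι) = 60 := by
    rw [← Subgroup.index_eq_card]
    have h3 := Subgroup.card_mul_index (Zs ι)
    have hzpos : 0 < Nat.card ↥(Zs ι) := Nat.card_pos
    apply Nat.eq_of_mul_eq_mul_left hzpos
    rw [h3, hcard, mul_comm]
  have hcomm : ∀ x ∈ (T : Subgroup Y).map π, ∀ y ∈ (T : Subgroup Y).map π, x * y = y * x := by
    obtain ⟨e, he⟩ := hT2.exists_card_eq
    have hdvd : 2 ^ e ∣ 60 := by
      rw [← he, ← hq60]; exact Subgroup.card_subgroup_dvd_card _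
    have he2 : e ≤ 2 := by
      by_contra hcon
      have h8 : 2 ^ 3 ∣ 2 ^ e := pow_dvd_pow 2 (by omega)
      have := dvd_trans h8 hdvd
      omega
    have key : ∀ x y : ↥((T : Subgroup Y).map π), x * y = y * x := by
      interval_cases e
      · have hsub : Subsingleton ↥((T : Subgroup Y).map π) :=
          (Nat.card_eq_one_iff_unique.1 (by rw [he]; rfl)).1
        intro x y
        rw [Subsingleton.elim x y]
      · have hcyc : IsCyclic ↥((T : Subgroup Y).map π) :=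
          isCyclic_of_prime_card (p := 2) (by rw [he]; rfl)
        exact fun x y => IsCyclic.commGroup.mul_comm x y
      · exact IsPGroup.commutative_of_card_eq_prime_sq (p := 2) he
    intro x hx y hy
    exact congrArg Subtype.val (key ⟨x, hx⟩ ⟨y, hy⟩)
  have hgenQ : Subgroup.closure {g : Y ⧸ Zs ι | g ^ 3 = 1} = ⊤ := by
    have h1 : (Subgroup.closure {g : Y | g ^ 3 = 1}).map π = ⊤ := by
      rw [hgen]; exact Subgroup.map_top_of_surjective _ hπs
    rw [MonoidHom.map_closure] at h1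
    rw [eq_top_iff, ← h1]
    apply Subgroup.closure_mono
    rintro _ ⟨x, hx, rfl⟩
    show π x ^ 3 = 1
    have hx' : x ^ 3 = 1 := hx
    rw [← map_pow, hx', map_one]
  have hTne : (TS : Subgroup (Y ⧸ Zs ι)) ≠ ⊥ := by
    intro hbot
    rw [hTS] at hbot
    have hle : (T : Subgroup Y) ≤ Zs ι := by
      intro t ht
      have h1 : π t ∈ (T : Subgroup Y).map π := Subgroup.mem_map_of_mem π ht
      rw [hbot, Subgroup.mem_bot] at h1
      rw [← hπk]; exact h1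
    exact hab (hti.central a (hle haT) b)
  have hN : ¬ Subgroup.normalizer ((TS : Subgroup (Y ⧸ Zs ι)) : Set (Y ⧸ Zs ι)) ≤
      Subgroup.centralizer ((TS : Subgroup (Y ⧸ Zs ι)) : Set (Y ⧸ Zs ι)) :=
    fun h => hTne (sylow_eq_bot_of_transfer (p := 3) (r := 2) (by norm_num) hgenQ TS h)
  obtain ⟨gq, hgN, hgC⟩ := SetLike.not_le_iff_exists.1 hN
  obtain ⟨g, rfl⟩ := hπs gq
  rw [hTS] at hgN hgC
  have hgT : ∀ t ∈ (T : Subgroup Y), g * t * g⁻¹ ∈ (T : Subgroup Y) := by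
    intro t ht
    have h1 : π (g * t * g⁻¹) ∈ (T : Subgroup Y).map π := by
      rw [map_mul, map_mul, map_inv]
      exact (Subgroup.mem_normalizer_iff.1 hgN (π t)).1 (Subgroup.mem_map_of_mem π ht)
    obtain ⟨t', ht', hteq⟩ := h1
    have h3 := hZT (hπeq _ _ hteq)
    have h4 := (T : Subgroup Y).mul_mem ht' h3
    rwa [mul_inv_cancel_left] at h4
  have hgNT : g ∈ Subgroup.normalizer ((T : Subgroup Y) : Set Y) :=
    Cfsg.Agent.Helper9.mem_normalizer_of_conj_le (T : Subgroup Y) g hgT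
  obtain ⟨g', hg'⟩ : ∃ g' : Y, g' = g ^ 2 ^ (j + 2) := ⟨_, rfl⟩
  have hg'15 : g' ^ 15 = 1 := by
    rw [hg', ← pow_mul]
    have h1 : 2 ^ (j + 2) * 15 = Nat.card Y := by rw [hcard, hj]; ring
    rw [h1]; exact pow_card_eq_one'
  have hg'1 : g' ≠ 1 := by
    intro h
    rw [hg'] at h
    have hgT' := mem_sylow_of_mem_normalizer T hgNT h
    apply hgC
    rw [Subgroup.mem_centralizer_iff]
    intro x hx
    exact hcomm x hx (π g) (Subgroup.mem_map_of_mem π hgT')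
  have hg'N : g' ∈ Subgroup.normalizer ((T : Subgroup Y) : Set Y) := by
    rw [hg']; exact Subgroup.pow_mem _ hgNT _
  have hnorm : ∀ y ∈ Subgroup.normalizer ((T : Subgroup Y) : Set Y),
      ∀ t ∈ (T : Subgroup Y), y * t * y⁻¹ ∈ (T : Subgroup Y) :=
    fun y hy t ht => (Subgroup.mem_normalizer_iff.1 hy t).1 ht
  have hncent : ∀ y : Y, y ≠ 1 → ∀ m : ℕ, y ^ m = 1 → Odd m →
      ∃ u ∈ (T : Subgroup Y), y * u ≠ u * y := by
    intro y hy m hm hodd
    by_contra hcon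
    push Not at hcon
    exact hab (comm_of_ns ι hι (ns_of_odd ι hι hy hm hodd) (hcon a haT) (hcon b hbT))
  have hodd15 : Odd 15 := by decide
  have hoo : Odd (orderOf g') := hodd15.of_dvd_nat (orderOf_dvd_of_pow_eq_one hg'15)
  obtain ⟨h3dvd, -⟩ := three_dvd_of_two_group ι hι hp2 (pow_orderOf_eq_one g') hoo
    (T : Subgroup Y) T.isPGroup' (hnorm g' hg'N) (hncent g' hg'1 _ (pow_orderOf_eq_one g') hoo)
  obtain ⟨y, hy⟩ : ∃ y : Y, y = g' ^ 5 := ⟨_, rfl⟩
  have hy1 : y ≠ 1 := by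
    intro h
    rw [hy] at h
    have := dvd_trans h3dvd (orderOf_dvd_of_pow_eq_one h)
    omega
  have hy3 : y ^ 3 = 1 := by rw [hy, ← pow_mul]; exact hg'15
  have hyN : y ∈ Subgroup.normalizer ((T : Subgroup Y) : Set Y) := by
    rw [hy]; exact Subgroup.pow_mem _ hg'N _
  have hodd3 : Odd 3 := by decide
  obtain ⟨-, u, huT, hu0, huq, huy⟩ := three_dvd_of_two_group ι hι hp2 hy3 hodd3
    (T : Subgroup Y) T.isPGroup' (hnorm y hyN) (hncent y hy1 3 hy3 hodd3)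
  exact ⟨y, u, hy3, huq⟩

/-- **Dickson-type theorem, explicit pair.** -/
theorem exists_pair [Finite Y] (hp2 : p ≠ 2)
    (hgen : Subgroup.closure {g : Y | g ^ p = 1} = ⊤) (hnp : ¬ IsPGroup p Y) :
    ∃ x y : Y, x ^ p = 1 ∧ y ^ p = 1 ∧ trS (ι (x * y)) = 3 := by
  have hconjtr : ∀ (c : Matrix.SpecialLinearGroup (Fin 2) L) (w : Y),
      trS ((MulAut.conj c).toMonoidHom.comp ι w) = trS (ι w) := fun c w => trS_conj c (ι w)
  have h2 : (2 : L) ≠ 0 := two_ne_zero_of_char hp2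
  obtain ⟨g₀, hg₀p, hg₀1⟩ : ∃ g : Y, g ^ p = 1 ∧ g ≠ 1 := by
    by_contra hcon
    push Not at hcon
    apply hnp
    have h1 : (⊤ : Subgroup Y) = ⊥ := by
      rw [← hgen, Subgroup.closure_eq_bot_iff]
      intro g hg
      exact hcon g hg
    intro y
    have hy : y ∈ (⊥ : Subgroup Y) := by rw [← h1]; exact Subgroup.mem_top y
    rw [Subgroup.mem_bot] at hy
    exact ⟨0, by rw [hy, one_pow]⟩
  have htr : trS (ι g₀) = 2 :=
    trace_eq_two_of_pow p (ι g₀) 1 (by rw [pow_one, ← map_pow, hg₀p, map_one])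
  have hne : ι g₀ ≠ 1 := fun h => hg₀1 (hι (by rw [h, map_one]))
  obtain ⟨s₀, hs, hconj⟩ := sl2_exists_conj_sl2U h2 (ι g₀) htr hne
  obtain ⟨c, hc⟩ := isConj_iff.1 hconj
  obtain ⟨ι', hι'⟩ : ∃ ι' : Y →* Matrix.SpecialLinearGroup (Fin 2) L,
      ι' = (MulAut.conj c).toMonoidHom.comp ι := ⟨_, rfl⟩
  have hι'inj : Function.Injective ι' := by
    rw [hι']; exact (MulAut.conj c).injective.comp hι
  have hu : ι' g₀ = sl2U s₀ := by rw [hι']; exact hc
  obtain ⟨k, hk, hG, hcases⟩ := count_cases ι' hι'inj hu hs hp2 hgen hnp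
  have h3L : ∀ (hp3 : p = 3), (0 : L) = 3 := by
    intro hp3
    have h := CharP.cast_eq_zero L p
    rw [hp3] at h
    rw [← h]; norm_num
  have hcfg : ∀ (hp3 : p = 3) (y u : Y), y ^ 3 = 1 → trS (ι' (y * u * y⁻¹ * u⁻¹)) = 0 →
      ∃ x y : Y, x ^ p = 1 ∧ y ^ p = 1 ∧ trS (ι (x * y)) = 3 := by
    intro hp3 y u hy3 huq
    refine ⟨y, u * y⁻¹ * u⁻¹, by rw [hp3]; exact hy3, ?_, ?_⟩
    · rw [hp3, conj_pow, inv_pow, hy3, inv_one, mul_one, mul_inv_cancel]
    · have e : y * (u * y⁻¹ * u⁻¹) = y * u * y⁻¹ * u⁻¹ := by group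
      rw [e, ← h3L hp3, ← huq, hι', hconjtr]
  rcases hcases with hb | hk1 | ⟨hq, hk3, hb⟩
  · obtain ⟨hp3, y, u, hy3, huq⟩ := config_of_hb1 ι' hι'inj hu hs hp2 hgen hnp hb
    exact hcfg hp3 y u hy3 huq
  · rw [hk1, one_mul] at hk
    obtain ⟨x, y, hx, hy, hxy⟩ := pair_of_k1 ι' hι'inj hu hs hk
    refine ⟨x, y, hx, hy, ?_⟩
    rw [← hxy, hι', hconjtr]
  · obtain ⟨-, m, hm⟩ := card_Pu_ge ι' hι'inj hu hs hp2
    have hp3 : p = 3 := by
      rw [hq] at hm
      have hdvd : p ∣ 3 := by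
        rcases m with _ | m
        · simp at hm
        · rw [hm]; exact dvd_pow_self p (Nat.succ_ne_zero m)
      exact (Nat.prime_dvd_prime_iff_eq Fact.out Nat.prime_three).1 hdvd
    obtain ⟨y, u, hy3, huq⟩ := config_of_exc ι' hι'inj hp3 hgen (by
      rw [hG, hq, hb, hk, hk3, hq]; ring)
    exact hcfg hp3 y u hy3 huq

end Final

end Cfsg.Agent.Helper23.Dk
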