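import Mathlib
import Cfsg.Agent.Helper23.Dk8

/-!
Helper library (helper23): every section of a group whose `p`-local subgroups do not involve
`SL₂(p)` is `p`-stable in the normalizer form.
-/

set_option autoImplicit false

namespace Cfsg.Agent.Helper23.Dk

open Cfsg Cfsg.Agent.Helper12 Cfsg.Agent.Helper23.QP
open scoped commutatorElement Pointwise

/-- **Frattini argument**: a nontrivial normal `p`-subgroup of a quotient lifts to a nontrivial
`p`-subgroup whose normalizer covers the quotient. -/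
theorem frattini_lift {Y Q : Type*} [Group Y] [Group Q] [Finite Y] {p : ℕ} [Fact p.Prime]
    (π : Y →* Q) (hπ : Function.Surjective π) (Pb : Subgroup Q) [hPbn : Pb.Normal]
    (hPb : IsPGroup p Pb) (hne : Pb ≠ ⊥) :
    ∃ P₁ : Subgroup Y, IsPGroup p P₁ ∧ P₁ ≠ ⊥ ∧
      ∀ q : Q, ∃ y ∈ Subgroup.normalizer (P₁ : Set Y), π y = q := by
  have hp : p.Prime := Fact.out
  have hFQ : Finite Q := Finite.of_surjective π hπ
  have hR₁n : (Pb.comap π).Normal := hPbn.comap π
  obtain ⟨P₁⟩ : Nonempty (Sylow p ↥(Pb.comap π)) := inferInstance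
  have hfr := Sylow.normalizer_sup_eq_top P₁
  obtain ⟨P', hP'⟩ : ∃ P' : Subgroup Y,
      P' = (P₁ : Subgroup ↥(Pb.comap π)).map (Pb.comap π).subtype := ⟨_, rfl⟩
  rw [← hP'] at hfr
  have hP'p : IsPGroup p P' := by rw [hP']; exact P₁.isPGroup'.map _
  have hψs : Function.Surjective (π.subgroupComap Pb) :=
    π.subgroupComap_surjective_of_surjective Pb hπ
  have himg : ∀ x ∈ Pb, ∃ y ∈ P', π y = x := by
    obtain ⟨T, hT⟩ : ∃ T : Subgroup ↥Pb,
        T = (P₁ : Subgroup ↥(Pb.comap π)).map (π.subgroupComap Pb) := ⟨_, rfl⟩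
    have hidx : T.index ∣ (P₁ : Subgroup ↥(Pb.comap π)).index := by
      rw [hT, Subgroup.index_map, MonoidHom.range_eq_top.2 hψs, Subgroup.index_top, mul_one]
      exact Subgroup.index_dvd_of_le le_sup_left
    have hnd : ¬ p ∣ T.index := fun h => P₁.not_dvd_index (dvd_trans h hidx)
    obtain ⟨k, hk⟩ := hPb.exists_card_eq
    have hT1 : T.index = 1 := by
      have h1 : T.index ∣ p ^ k := by rw [← hk]; exact Subgroup.index_dvd_card T
      obtain ⟨j, -, hj⟩ := (Nat.dvd_prime_pow hp).1 h1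
      rcases Nat.eq_zero_or_pos j with h0 | h0
      · rw [hj, h0, pow_zero]
      · exfalso
        apply hnd
        rw [hj]
        exact dvd_pow_self p h0.ne'
    have hTtop : T = ⊤ := Subgroup.index_eq_one.1 hT1
    intro x hx
    have hxT : (⟨x, hx⟩ : ↥Pb) ∈ T := by rw [hTtop]; exact Subgroup.mem_top _
    rw [hT] at hxT
    obtain ⟨y', hy', hy'x⟩ := hxT
    refine ⟨(y' : Y), ?_, ?_⟩
    · rw [hP']; exact ⟨y', hy', rfl⟩
    · exact congrArg Subtype.val hy'x
  refine ⟨P', hP'p, ?_, ?_⟩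
  · obtain ⟨x', hx'⟩ := (Subgroup.ne_bot_iff_exists_ne_one).1 hne
    obtain ⟨y, hy, hyx⟩ := himg (x' : Q) x'.2
    intro hbot
    rw [hbot, Subgroup.mem_bot] at hy
    rw [hy, map_one] at hyx
    exact hx' (Subtype.ext hyx.symm)
  · intro q
    obtain ⟨y, rfl⟩ := hπ q
    have hy : y ∈ (Subgroup.normalizer (P' : Set Y) ⊔ Pb.comap π : Subgroup Y) := by
      rw [hfr]; exact Subgroup.mem_top y
    rw [← SetLike.mem_coe, Subgroup.mul_normal] at hy
    obtain ⟨n, hn, r, hr, hnr⟩ := Set.mem_mul.1 hy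
    have hr' : π r ∈ Pb := hr
    obtain ⟨x, hxP', hx⟩ := himg (π r) hr'
    refine ⟨n * x, Subgroup.mul_mem _ hn (Subgroup.le_normalizer hxP'), ?_⟩
    rw [map_mul, hx, ← map_mul, hnr]

/-- Sections of normalizers pass along injective homomorphisms. -/
theorem sec_normalizer_map {M : Type*} [Group M] {Y G : Type*} [Group Y] [Group G] (ι : Y →* G)
    (hι : Function.Injective ι) (P : Subgroup Y)
    (h : Sec M ↥(Subgroup.normalizer (P : Set Y))) :
    Sec M ↥(Subgroup.normalizer ((P.map ι : Subgroup G) : Set G)) := by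
  have hle : ∀ y : ↥(Subgroup.normalizer (P : Set Y)),
      (ι.comp (Subgroup.normalizer (P : Set Y)).subtype) y ∈
        Subgroup.normalizer ((P.map ι : Subgroup G) : Set G) :=
    fun y => Subgroup.le_normalizer_map ι (Subgroup.mem_map_of_mem ι y.2)
  obtain ⟨ι₃, hι₃⟩ : ∃ ι₃ : ↥(Subgroup.normalizer (P : Set Y)) →*
      ↥(Subgroup.normalizer ((P.map ι : Subgroup G) : Set G)),
      ∀ y, ((ι₃ y : ↥(Subgroup.normalizer ((P.map ι : Subgroup G) : Set G))) : G) = ι (y : Y) :=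
    ⟨(ι.comp (Subgroup.normalizer (P : Set Y)).subtype).codRestrict _ hle, fun y => rfl⟩
  have hinj : Function.Injective ι₃ := by
    intro a b hab
    apply Subtype.ext
    apply hι
    rw [← hι₃, ← hι₃, hab]
  obtain ⟨H, f, hf, -⟩ := sec_map ι₃ hinj h
  exact ⟨H, f, hf⟩

/-- Frozen form of statement S2004. -/
theorem all_sections_stable {G : Type*} [Group G] [Finite G] {p : ℕ} [Fact p.Prime] (hp : p ≠ 2)
    (h : ∀ P : Subgroup G, IsPGroup p ↥P → P ≠ ⊥ →
      ¬ Cfsg.Involves (Matrix.SpecialLinearGroup (Fin 2) (ZMod p))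
        ↥(Subgroup.normalizer ((P : Subgroup G) : Set G)))
    (K R : Subgroup G) [hR : (R.subgroupOf K).Normal] :
    Cfsg.IsNormalizerPStable p (↥K ⧸ R.subgroupOf K) := by
  intro Pb hPb g hg hq
  by_cases hbot : Pb = ⊥
  · subst hbot
    have h1 : (QuotientGroup.mk (s := (Subgroup.centralizer
        (((⊥ : Subgroup (↥K ⧸ R.subgroupOf K)) : Set (↥K ⧸ R.subgroupOf K)))).subgroupOf
        (Subgroup.normalizer (((⊥ : Subgroup (↥K ⧸ R.subgroupOf K)) : Set (↥K ⧸ R.subgroupOf K)))))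
        (⟨g, hg⟩ : ↥(Subgroup.normalizer
          (((⊥ : Subgroup (↥K ⧸ R.subgroupOf K)) : Set (↥K ⧸ R.subgroupOf K)))))) = 1 := by
      rw [QuotientGroup.eq_one_iff, Subgroup.mem_subgroupOf, Subgroup.mem_centralizer_iff]
      intro x hx
      have hx1 : x = 1 := Subgroup.mem_bot.1 hx
      rw [hx1, one_mul, mul_one]
    rw [h1]
    exact Subgroup.one_mem _
  · apply normalizer_stable hp Pb hPb _ g hg hq
    intro hsec
    obtain ⟨π, hπdef⟩ : ∃ π : ↥K →* ↥K ⧸ R.subgroupOf K,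
        π = QuotientGroup.mk' (R.subgroupOf K) := ⟨_, rfl⟩
    have hπs : Function.Surjective π := by
      rw [hπdef]; exact QuotientGroup.mk'_surjective _
    obtain ⟨Mb, hMb⟩ : ∃ Mb : Subgroup (↥K ⧸ R.subgroupOf K),
        Mb = Subgroup.normalizer (Pb : Set (↥K ⧸ R.subgroupOf K)) := ⟨_, rfl⟩
    rw [← hMb] at hsec
    have hπ's : Function.Surjective (π.subgroupComap Mb) :=
      π.subgroupComap_surjective_of_surjective Mb hπs
    have hPbn : (Pb.subgroupOf Mb).Normal := by rw [hMb]; exact Subgroup.normal_in_normalizer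
    have hPbp : IsPGroup p ↥(Pb.subgroupOf Mb) := hPb.comap_subtype
    have hPbne : Pb.subgroupOf Mb ≠ ⊥ := by
      intro h0
      apply hbot
      rw [Subgroup.subgroupOf_eq_bot] at h0
      have hle : Pb ≤ Mb := by rw [hMb]; exact Subgroup.le_normalizer
      exact h0.eq_bot_of_le hle
    obtain ⟨P₁, hP₁p, hP₁ne, hP₁s⟩ :=
      frattini_lift (π.subgroupComap Mb) hπ's (Pb.subgroupOf Mb) hPbp hPbne
    have hρs : Function.Surjective ((π.subgroupComap Mb).comp
        (Subgroup.normalizer (P₁ : Set ↥(Mb.comap π))).subtype) := by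
      intro q
      obtain ⟨y, hy, hyq⟩ := hP₁s q
      exact ⟨⟨y, hy⟩, hyq⟩
    have hsec1 := sec_comap _ hρs hsec
    obtain ⟨ι₂, hι₂⟩ : ∃ ι₂ : ↥(Mb.comap π) →* G,
        ι₂ = K.subtype.comp (Mb.comap π).subtype := ⟨_, rfl⟩
    have hι₂i : Function.Injective ι₂ := by
      rw [hι₂]
      exact (Subgroup.subtype_injective _).comp (Subgroup.subtype_injective _)
    have hsec2 := sec_normalizer_map ι₂ hι₂i P₁ hsec1
    apply h (P₁.map ι₂) (hP₁p.map ι₂)
      (by rw [Ne, Subgroup.map_eq_bot_iff_of_injective _ hι₂i]; exact hP₁ne)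
    obtain ⟨H, f, hf⟩ := hsec2
    obtain ⟨L, hL, hne⟩ := section_of_surj H f hf
    exact ⟨H, L, hL, hne⟩

end Cfsg.Agent.Helper23.Dk
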