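import Mathlib
import Cfsg.Prelude.Def_ConjugacyFunctors
import Cfsg.Prelude.Def_BaumannBlocks
import Cfsg.Agent.Helper10.KTransfer
import Cfsg.Agent.Helper14.Conj
import Cfsg.Agent.Helper14.PIrred
import Cfsg.Agent.Helper14.Subnormal
import Cfsg.Agent.Helper6.PResidual

/-!
helper23: Sylow subgroups of class `< p`: control of transfer by the normalizer
(Part A of the Hall-Wielandt type statement S4226).
-/

set_option autoImplicit false

namespace Cfsg.Agent.Helper23.HW

open Cfsg Cfsg.Agent.Helper10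

universe u

variable {p : ℕ} [Fact p.Prime]

/-- every `p`-subgroup has class `< p` -/
def ClsP (p : ℕ) (H : Type*) [Group H] : Prop :=
  ∀ Q : Subgroup H, IsPGroup p Q → Q.lowerCentralSeries (p - 1) = ⊥

theorem ClsP.subgroup {H : Type*} [Group H] (h : ClsP p H) (L : Subgroup H) : ClsP p ↥L := by
  intro Q hQ
  have h1 := h (Q.map L.subtype) (hQ.map _)
  rw [← Subgroup.map_lowerCentralSeries] at h1
  exact (Subgroup.map_eq_bot_iff_of_injective _ L.subtype_injective).mp h1

theorem lcs_mono {H : Type*} [Group H] {A B : Subgroup H} (h : A ≤ B) (n : ℕ) :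
    A.lowerCentralSeries n ≤ B.lowerCentralSeries n := by
  induction n with
  | zero => exact h
  | succ n ih => exact Subgroup.commutator_mono ih h

theorem ClsP.of_sylow {H : Type*} [Group H] [Finite H] (P : Sylow p H)
    (h : (P : Subgroup H).lowerCentralSeries (p - 1) = ⊥) : ClsP p H := by
  intro Q hQ
  obtain ⟨g, hg⟩ := Helper14.exists_le_sylow_conj P Q hQ
  have h1 := lcs_mono hg (p - 1)
  rw [← Subgroup.map_lowerCentralSeries, h, Subgroup.map_bot] at h1
  exact le_bot_iff.mp h1

theorem ClsP.quotient {H : Type*} [Group H] [Finite H] (h : ClsP p H) (N : Subgroup H)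
    [N.Normal] : ClsP p (H ⧸ N) := by
  obtain ⟨P⟩ : Nonempty (Sylow p H) := inferInstance
  apply ClsP.of_sylow (P.mapSurjective (QuotientGroup.mk'_surjective N))
  rw [Sylow.coe_mapSurjective, ← Subgroup.map_lowerCentralSeries, h P P.2, Subgroup.map_bot]

/-- the functor `Q ↦ Q` -/
def topW : ∀ (Q : Type u) [Group Q], Subgroup Q := fun Q _ => ⊤

theorem topW_char : IsCharPFunctor.{u} p topW := by
  refine ⟨fun Q _ _ _ hnt => ?_, fun Q R _ _ _ _ φ => ?_⟩
  · show (⊤ : Subgroup Q) ≠ ⊥
    exact top_ne_bot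
  · show (⊤ : Subgroup Q).map φ.toMonoidHom = ⊤
    exact Subgroup.map_top_of_surjective _ φ.surjective

theorem ind_topW {X : Type u} [Group X] (T : Subgroup X) : inducedFunctor topW T = T := by
  show (⊤ : Subgroup ↥T).map T.subtype = T
  rw [← MonoidHom.range_eq_map, Subgroup.range_subtype]

/-- **Focal control**: if the `p`-subgroups have class `< p`, the normalizer of a Sylow
`p`-subgroup controls transfer. -/
theorem focal_ctl : ∀ (n : ℕ) (H : Type u) [Group H] [Finite H], Nat.card H = n → ClsP p H →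
    TCtl p {topW} H := by
  classical
  have h𝓦 : ∀ W' ∈ ({topW} : Set (∀ (Q : Type u) [Group Q], Subgroup Q)),
      IsCharPFunctor.{u} p W' := by
    intro W' hW'
    rw [Set.mem_singleton_iff.mp hW']; exact topW_char
  intro n
  induction n using Nat.strong_induction_on with
  | _ n ih =>
  intro H _ _ hcard hcl
  intro T
  by_contra hX
  have hsub : ∀ L : Subgroup H, L ≠ ⊤ → TCtl p {topW} ↥L := fun L hL =>
    ih _ (by rw [← hcard]; exact card_lt_of_ne_top hL) ↥L rfl (hcl.subgroup L)
  have hquot : ∀ (N : Subgroup H) [N.Normal], N ≠ ⊥ → TCtl p {topW} (H ⧸ N) := fun N _ hN =>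
    ih _ (by rw [← hcard]; exact card_quot_lt_of_ne_bot hN) _ rfl (hcl.quotient N)
  obtain ⟨hcons, -, -, -, hd⟩ := mincex_structure h𝓦 ⟨topW, rfl⟩ T hsub hquot hX
  by_cases hWn : (T : Subgroup H).Normal
  · apply hX
    refine le_trans ?_ (term_le_tfoc _ topW rfl)
    rw [ind_topW, Subgroup.normalizer_eq_top_iff.mpr hWn, ← _root_.commutator_def]
  · have hPT : pCore p H ≤ (T : Subgroup H) := Helper14.pCore_le_sylow T
    have hne : ¬ (T : Subgroup H) ≤ pCore p H := by
      intro hle
      apply hWn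
      have : (T : Subgroup H) = pCore p H := le_antisymm hle hPT
      rw [this]; exact Helper14.pCore_normal p H
    obtain ⟨g, hgT, hgP⟩ := SetLike.not_le_iff_exists.mp hne
    obtain ⟨U, V, hUV, hUP, hnot⟩ := hd g hgT hgP
    apply hnot
    have : ∀ i, iterCommutator U (Subgroup.zpowers g) i ≤
        (T : Subgroup H).lowerCentralSeries i := by
      intro i
      induction i with
      | zero => exact hUP.trans hPT
      | succ i ih2 =>
        exact Subgroup.commutator_mono ih2 (by rw [Subgroup.zpowers_le]; exact hgT)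
    exact (this (p - 1)).trans (by rw [hcl T T.2]; exact bot_le)

/-- If `O^p(H) = H` then a Sylow `p`-subgroup lies in the commutator subgroup. -/
theorem sylow_le_commutator_of_pResidual_top {H : Type*} [Group H] [Finite H] (T : Sylow p H)
    (h : pResidual p H = ⊤) : (T : Subgroup H) ≤ commutator H := by
  let S : Subgroup (Abelianization H) :=
    { carrier := {a | ∃ m : ℕ, m.Coprime p ∧ a ^ m = 1}
      one_mem' := ⟨1, Nat.coprime_one_left p, by simp⟩
      mul_mem' := by
        rintro a b ⟨m, hm, ha⟩ ⟨n, hn, hb⟩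
        refine ⟨m * n, Nat.Coprime.mul_left hm hn, ?_⟩
        rw [mul_pow, pow_mul, ha, one_pow, mul_comm m n, pow_mul, hb, one_pow, one_mul]
      inv_mem' := by
        rintro a ⟨m, hm, ha⟩
        exact ⟨m, hm, by rw [inv_pow, ha, inv_one]⟩ }
  have h1 : pResidual p H ≤ S.comap Abelianization.of := by
    unfold pResidual
    rw [Subgroup.closure_le]
    intro y hy
    exact ⟨orderOf y, hy, by rw [← map_pow, pow_orderOf_eq_one, map_one]⟩
  intro t ht
  have h2 : Abelianization.of t ∈ S := h1 (h ▸ Subgroup.mem_top t)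
  obtain ⟨m, hm, hpow⟩ := h2
  obtain ⟨k, hk⟩ := T.2 ⟨t, ht⟩
  have hk' : t ^ p ^ k = 1 := congrArg Subtype.val hk
  have h3 : (Abelianization.of t) ^ (p ^ k) = 1 := by rw [← map_pow, hk', map_one]
  have h4 : Abelianization.of t = 1 := Helper14.eq_one_of_pow_coprime _ m k hm hpow h3
  rw [← Abelianization.ker_of]
  exact h4

theorem pResidualOf_eq_resC {H : Type*} [Group H] (B : Subgroup H) :
    pResidualOf p B = Helper14.resC p B := (Helper14.resC_eq p B).symm

theorem pResidualOf_mono {H : Type*} [Group H] {B M : Subgroup H} (h : B ≤ M) :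
    pResidualOf p B ≤ pResidualOf p M := by
  rw [pResidualOf_eq_resC, pResidualOf_eq_resC]; exact Helper14.resC_mono p h

theorem mem_pResidualOf {H : Type*} [Group H] (B : Subgroup H) {y : H} (hy : y ∈ B)
    (hc : Nat.Coprime (orderOf y) p) : y ∈ pResidualOf p B := by
  rw [pResidualOf_eq_resC]; exact Helper14.mem_resC p B y hy hc

theorem pResidualOf_le {H : Type*} [Group H] (B : Subgroup H) : pResidualOf p B ≤ B := by
  rw [pResidualOf_eq_resC]; exact Helper14.resC_le p B

/-- The case `O^p(H) = H`. -/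
theorem hf_top {H : Type u} [Group H] [Finite H] (hcl : ClsP p H) (T : Sylow p H)
    (h : pResidual p H = ⊤) :
    (T : Subgroup H) ≤ pResidualOf p (Subgroup.normalizer ((T : Subgroup H) : Set H)) := by
  have hA := focal_ctl (p := p) _ H rfl hcl T
  have h1 : (T : Subgroup H) ≤ ⁅Subgroup.normalizer ((T : Subgroup H) : Set H),
      Subgroup.normalizer ((T : Subgroup H) : Set H)⁆ := by
    have h2 : (T : Subgroup H) ≤ (T : Subgroup H) ⊓ commutator H :=
      le_inf le_rfl (sylow_le_commutator_of_pResidual_top T h)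
    refine (h2.trans hA).trans ?_
    apply tfoc_le_of
    intro W' hW'
    rw [Set.mem_singleton_iff.mp hW', ind_topW]
    exact inf_le_right
  obtain ⟨N, hN⟩ : ∃ N : Subgroup H, N = Subgroup.normalizer ((T : Subgroup H) : Set H) :=
    ⟨_, rfl⟩
  rw [← hN] at h1 ⊢
  have hTN : (T : Subgroup H) ≤ N := hN ▸ Subgroup.le_normalizer
  obtain ⟨T', hT'⟩ : ∃ T' : Sylow p ↥N, (T' : Subgroup ↥N) = (T : Subgroup H).subgroupOf N :=
    ⟨T.subtype hTN, rfl⟩
  have h3 : pResidual p ↥N ⊔ (T' : Subgroup ↥N) = ⊤ := Helper14.pResidual_sup_sylow T'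
  have h4 : (T' : Subgroup ↥N) ≤ commutator ↥N := by
    intro x hx
    rw [hT'] at hx
    have hx' : (x : H) ∈ (T : Subgroup H) := hx
    have h5 := h1 hx'
    rw [← Subgroup.map_subtype_commutator] at h5
    obtain ⟨y, hy, hyx⟩ := h5
    have h6 : y = x := Subtype.ext hyx
    rw [← h6]; exact hy
  have h5 : pResidual p ↥N = ⊤ := by
    apply Helper6.pResidual_eq_top_of_sup_commutator
    apply top_le_iff.mp
    rw [← h3]
    exact sup_le_sup_left h4 _
  unfold pResidualOf
  rw [h5, ← MonoidHom.range_eq_map, Subgroup.range_subtype]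
  exact hTN

end Cfsg.Agent.Helper23.HW
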