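import Mathlib
import Cfsg.Agent.Helper14.Coprime

/-!
helper23: a fixed-point-free / norm argument for `p'`-groups of automorphisms of an
elementary abelian `p`-group normalized by a `p`-group all of whose elements have trivial norm.
-/

set_option autoImplicit false

namespace Cfsg.Agent.Helper23.HW

section Mod

variable {A : Type*} [CommGroup A]

/-- automorphisms stabilizing the subgroup `U` -/
def stabSub (U : Subgroup A) : Subgroup (MulAut A) where
  carrier := {e | ∀ u, e u ∈ U ↔ u ∈ U}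
  one_mem' := fun _ => Iff.rfl
  mul_mem' := by
    intro a b ha hb u
    rw [MulAut.mul_apply, ha, hb]
  inv_mem' := by
    intro a ha u
    have h := ha (a⁻¹ u)
    rw [MulAut.apply_inv_self] at h
    exact h.symm

theorem le_stabSub (U : Subgroup A) (L : Subgroup (MulAut A))
    (h : ∀ x ∈ L, ∀ u ∈ U, x u ∈ U) : L ≤ stabSub U := by
  intro x hx u
  refine ⟨fun hu => ?_, h x hx u⟩
  have h1 := h x⁻¹ (inv_mem hx) _ hu
  rwa [MulAut.inv_apply_self] at h1

/-- restriction to an invariant subgroup -/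
def resAut (U : Subgroup A) : ↥(stabSub U) →* MulAut ↥U where
  toFun e :=
    { toFun := fun u => ⟨e.1 u, (e.2 u).mpr u.2⟩
      invFun := fun u => ⟨e.1⁻¹ u, ((inv_mem e.2 : e.1⁻¹ ∈ stabSub U) u).mpr u.2⟩
      left_inv := fun u => Subtype.ext (MulAut.inv_apply_self _ _ _)
      right_inv := fun u => Subtype.ext (MulAut.apply_inv_self _ _ _)
      map_mul' := fun u v => Subtype.ext (map_mul e.1 (u : A) (v : A)) }
  map_one' := MulEquiv.ext (fun _ => Subtype.ext rfl)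
  map_mul' := fun _ _ => MulEquiv.ext (fun _ => Subtype.ext rfl)

theorem resAut_apply (U : Subgroup A) (e : ↥(stabSub U)) (u : ↥U) :
    ((resAut U e u : ↥U) : A) = e.1 u := rfl

end Mod

theorem norm_lemma {B : Type*} [CommGroup B] {p : ℕ} [Fact p.Prime] (hB : ∀ b : B, b ^ p = 1)
    (E : Subgroup (MulAut B)) [Finite E] (hE : (Nat.card E).Coprime p)
    (γ : MulAut B) (hγE : ∀ e ∈ E, γ * e * γ⁻¹ ∈ E)
    (hfix : ∀ i : ℕ, 0 < i → i < p → ∀ e ∈ E, γ ^ i * e = e * γ ^ i → e = 1)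
    (hN : ∀ b : B, ∏ i ∈ Finset.range p, (γ ^ i) b = 1) : E = ⊥ := by
  classical
  haveI : Fintype ↥E := Fintype.ofFinite _
  have hp : p.Prime := Fact.out
  have hγi : ∀ i : ℕ, ∀ e ∈ E, γ ^ i * e * (γ ^ i)⁻¹ ∈ E := by
    intro i
    induction i with
    | zero => intro e he; simpa using he
    | succ i ih =>
      intro e he
      have h1 : γ ^ (i + 1) * e * (γ ^ (i + 1))⁻¹ = γ * (γ ^ i * e * (γ ^ i)⁻¹) * γ⁻¹ := by
        rw [pow_succ']; group
      rw [h1]; exact hγE _ (ih e he)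
  obtain ⟨τ, hτ⟩ : ∃ τ : B → B, τ = fun b => ∏ e : ↥E, (e : MulAut B) b := ⟨_, rfl⟩
  have hτfix : ∀ e' ∈ E, ∀ b, e' (τ b) = τ b := by
    intro e' he' b
    rw [hτ]
    show e' (∏ e : ↥E, (e : MulAut B) b) = ∏ e : ↥E, (e : MulAut B) b
    rw [map_prod]
    exact Fintype.prod_bijective (fun e : ↥E => (⟨e', he'⟩ : ↥E) * e)
      (Group.mulLeft_bijective _) _ _ (fun e => rfl)
  have key : ∀ b : B, ∀ i ∈ Finset.range p, i ≠ 0 →
      ∏ e : ↥E, ((e : MulAut B)⁻¹ * γ ^ i * (e : MulAut B)) b = τ ((γ ^ i) b) := by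
    intro b i hi hi0
    have hip : i < p := Finset.mem_range.mp hi
    obtain ⟨ψ, hψ⟩ : ∃ ψ : ↥E → ↥E, ψ = fun e =>
        ⟨(e : MulAut B)⁻¹ * (γ ^ i * (e : MulAut B) * (γ ^ i)⁻¹),
          E.mul_mem (E.inv_mem e.2) (hγi i e e.2)⟩ := ⟨_, rfl⟩
    have hinj : Function.Injective ψ := by
      intro e1 e2 h12
      have h1 : (e1 : MulAut B)⁻¹ * (γ ^ i * (e1 : MulAut B) * (γ ^ i)⁻¹) =
          (e2 : MulAut B)⁻¹ * (γ ^ i * (e2 : MulAut B) * (γ ^ i)⁻¹) := by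
        have h0 := congrArg Subtype.val h12
        rw [hψ] at h0
        exact h0
      have h2 : γ ^ i * ((e2 : MulAut B) * (e1 : MulAut B)⁻¹) =
          ((e2 : MulAut B) * (e1 : MulAut B)⁻¹) * γ ^ i := by
        have h3 : (e2 : MulAut B) * (e1 : MulAut B)⁻¹ =
            γ ^ i * ((e2 : MulAut B) * (e1 : MulAut B)⁻¹) * (γ ^ i)⁻¹ := by
          have h4 : (e2 : MulAut B) * ((e1 : MulAut B)⁻¹ *
              (γ ^ i * (e1 : MulAut B) * (γ ^ i)⁻¹)) = γ ^ i * (e2 : MulAut B) * (γ ^ i)⁻¹ := by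
            rw [h1]; group
          calc (e2 : MulAut B) * (e1 : MulAut B)⁻¹
              = ((e2 : MulAut B) * ((e1 : MulAut B)⁻¹ *
                  (γ ^ i * (e1 : MulAut B) * (γ ^ i)⁻¹))) *
                  (γ ^ i * (e1 : MulAut B) * (γ ^ i)⁻¹)⁻¹ := by group
            _ = γ ^ i * (e2 : MulAut B) * (γ ^ i)⁻¹ *
                  (γ ^ i * (e1 : MulAut B) * (γ ^ i)⁻¹)⁻¹ := by rw [h4]
            _ = γ ^ i * ((e2 : MulAut B) * (e1 : MulAut B)⁻¹) * (γ ^ i)⁻¹ := by group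
        calc γ ^ i * ((e2 : MulAut B) * (e1 : MulAut B)⁻¹)
            = (γ ^ i * ((e2 : MulAut B) * (e1 : MulAut B)⁻¹) * (γ ^ i)⁻¹) * γ ^ i := by group
          _ = ((e2 : MulAut B) * (e1 : MulAut B)⁻¹) * γ ^ i := by rw [← h3]
      have h5 := hfix i (Nat.pos_of_ne_zero hi0) hip _ (E.mul_mem e2.2 (E.inv_mem e1.2)) h2
      apply Subtype.ext
      exact (mul_inv_eq_one.mp h5).symm
    have hbij : Function.Bijective ψ := Finite.injective_iff_bijective.mp hinj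
    rw [hτ]
    show _ = ∏ e : ↥E, (e : MulAut B) ((γ ^ i) b)
    refine Fintype.prod_bijective ψ hbij _ _ (fun e => ?_)
    rw [hψ]
    show ((e : MulAut B)⁻¹ * γ ^ i * (e : MulAut B)) b =
      ((e : MulAut B)⁻¹ * (γ ^ i * (e : MulAut B) * (γ ^ i)⁻¹)) ((γ ^ i) b)
    rw [← MulAut.mul_apply]
    congr 1
    group
  have main : ∀ b : B, b ^ Nat.card ↥E * ∏ i ∈ (Finset.range p).erase 0, τ ((γ ^ i) b) = 1 := by
    intro b
    have h1 : ∏ e : ↥E, ∏ i ∈ Finset.range p,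
        ((e : MulAut B)⁻¹ * γ ^ i * (e : MulAut B)) b = 1 := by
      apply Finset.prod_eq_one
      intro e _
      have h2 : ∏ i ∈ Finset.range p, ((e : MulAut B)⁻¹ * γ ^ i * (e : MulAut B)) b =
          (e : MulAut B)⁻¹ (∏ i ∈ Finset.range p, (γ ^ i) ((e : MulAut B) b)) := by
        rw [map_prod]
        rfl
      rw [h2, hN, map_one]
    rw [Finset.prod_comm] at h1
    have h1' := Finset.mul_prod_erase (Finset.range p)
      (fun i => ∏ e : ↥E, ((e : MulAut B)⁻¹ * γ ^ i * (e : MulAut B)) b)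
      (Finset.mem_range.mpr hp.pos)
    beta_reduce at h1'
    rw [h1] at h1'
    have h3 : ∏ e : ↥E, ((e : MulAut B)⁻¹ * γ ^ 0 * (e : MulAut B)) b = b ^ Nat.card ↥E := by
      have h4 : ∀ e : ↥E, ((e : MulAut B)⁻¹ * γ ^ 0 * (e : MulAut B)) b = b := by
        intro e
        rw [pow_zero, mul_one, inv_mul_cancel]; rfl
      rw [Finset.prod_congr rfl (fun e _ => h4 e), Finset.prod_const, Finset.card_univ,
        Nat.card_eq_fintype_card]
    rw [h3] at h1'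
    rw [← h1']
    congr 1
    apply Finset.prod_congr rfl
    intro i hi
    have hi' := Finset.mem_erase.mp hi
    exact (key b i hi'.2 hi'.1).symm
  rw [Subgroup.eq_bot_iff_forall]
  intro e' he'
  apply MulEquiv.ext
  intro b
  show e' b = b
  have hR : e' (∏ i ∈ (Finset.range p).erase 0, τ ((γ ^ i) b)) =
      ∏ i ∈ (Finset.range p).erase 0, τ ((γ ^ i) b) := by
    rw [map_prod]
    exact Finset.prod_congr rfl (fun i _ => hτfix e' he' _)
  have h1 := main b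
  have h2 : e' (b ^ Nat.card ↥E) = b ^ Nat.card ↥E := by
    have h3 : b ^ Nat.card ↥E = (∏ i ∈ (Finset.range p).erase 0, τ ((γ ^ i) b))⁻¹ :=
      eq_inv_of_mul_eq_one_left h1
    rw [h3, map_inv, hR]
  rw [map_pow] at h2
  have h4 : (e' b * b⁻¹) ^ Nat.card ↥E = 1 := by
    rw [mul_pow, h2, inv_pow, mul_inv_cancel]
  have h5 : (e' b * b⁻¹) ^ p ^ 1 = 1 := by rw [pow_one]; exact hB _
  have h6 := Helper14.eq_one_of_pow_coprime _ _ 1 hE h4 h5
  exact mul_inv_eq_one.mp h6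

theorem lemma_N {B : Type*} [CommGroup B] [Finite B] {p : ℕ} [Fact p.Prime]
    (hB : ∀ b : B, b ^ p = 1)
    (E P : Subgroup (MulAut B)) (hE : (Nat.card E).Coprime p) (hP : IsPGroup p P)
    (hPE : ∀ t ∈ P, ∀ e ∈ E, t * e * t⁻¹ ∈ E)
    (hnorm : ∀ t ∈ P, ∀ b : B, ∏ i ∈ Finset.range p, (t ^ i) b = 1)
    (hfix : ∀ e ∈ E, (∀ t ∈ P, t * e = e * t) → e = 1)
    (hirr : ∀ F : Subgroup (MulAut B), F ≤ E → (∀ t ∈ P, ∀ e ∈ F, t * e * t⁻¹ ∈ F) →
      F ≠ E → F = ⊥) :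
    E = ⊥ := by
  classical
  by_contra hne
  have hp : p.Prime := Fact.out
  obtain ⟨P₀, hP₀⟩ : ∃ P₀ : Subgroup (MulAut B),
      P₀ = P ⊓ Subgroup.centralizer (E : Set (MulAut B)) := ⟨_, rfl⟩
  have hP₀mem : ∀ x, x ∈ P₀ ↔ x ∈ P ∧ ∀ e ∈ E, e * x = x * e := by
    intro x; rw [hP₀, Subgroup.mem_inf, Subgroup.mem_centralizer_iff]; rfl
  have hP₀ne : ¬ P ≤ P₀ := by
    intro hle
    apply hne
    rw [Subgroup.eq_bot_iff_forall]
    intro e he
    exact hfix e he (fun t ht => (((hP₀mem t).mp (hle ht)).2 e he).symm)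
  haveI hnorm0 : (P₀.subgroupOf P).Normal := by
    constructor
    intro x hx g
    rw [Subgroup.mem_subgroupOf] at hx ⊢
    rw [hP₀mem] at hx ⊢
    refine ⟨(g * x * g⁻¹).2, fun e he => ?_⟩
    have h0 : (g : MulAut B)⁻¹ * e * (g : MulAut B) ∈ E := by
      have := hPE (g : MulAut B)⁻¹ (P.inv_mem g.2) e he
      rwa [inv_inv] at this
    have h1 := hx.2 _ h0
    show e * ((g : MulAut B) * (x : MulAut B) * (g : MulAut B)⁻¹) =
      ((g : MulAut B) * (x : MulAut B) * (g : MulAut B)⁻¹) * e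
    calc e * ((g : MulAut B) * (x : MulAut B) * (g : MulAut B)⁻¹)
        = (g : MulAut B) * (((g : MulAut B)⁻¹ * e * (g : MulAut B)) * (x : MulAut B)) *
            (g : MulAut B)⁻¹ := by group
      _ = (g : MulAut B) * ((x : MulAut B) * ((g : MulAut B)⁻¹ * e * (g : MulAut B))) *
            (g : MulAut B)⁻¹ := by rw [h1]
      _ = ((g : MulAut B) * (x : MulAut B) * (g : MulAut B)⁻¹) * e := by group
  have hQp : IsPGroup p (↥P ⧸ P₀.subgroupOf P) := hP.to_quotient _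
  haveI : Nontrivial (↥P ⧸ P₀.subgroupOf P) := by
    by_contra hnt
    rw [not_nontrivial_iff_subsingleton] at hnt
    apply hP₀ne
    intro x hx
    have h0 : (QuotientGroup.mk (⟨x, hx⟩ : ↥P) : ↥P ⧸ P₀.subgroupOf P) = 1 :=
      Subsingleton.elim _ _
    exact (QuotientGroup.eq_one_iff (N := P₀.subgroupOf P) (⟨x, hx⟩ : ↥P)).mp h0
  haveI := hQp.center_nontrivial
  have hcp : IsPGroup p ↥(Subgroup.center (↥P ⧸ P₀.subgroupOf P)) := hQp.to_subgroup _
  have hdvd : p ∣ Nat.card ↥(Subgroup.center (↥P ⧸ P₀.subgroupOf P)) := by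
    rcases hcp.card_eq_or_dvd with h1 | h1
    · exact absurd h1 (Finite.one_lt_card).ne'
    · exact h1
  obtain ⟨z', hz'⟩ := exists_prime_orderOf_dvd_card' p hdvd
  obtain ⟨g, hg⟩ := QuotientGroup.mk_surjective (z' : ↥P ⧸ P₀.subgroupOf P)
  have hγ1 : ∀ i : ℕ, (g : MulAut B) ^ i ∈ P₀ → p ∣ i := by
    intro i hi
    have h0 : g ^ i ∈ P₀.subgroupOf P := by
      rw [Subgroup.mem_subgroupOf]; exact hi
    have h1 : (QuotientGroup.mk (g ^ i) : ↥P ⧸ P₀.subgroupOf P) = 1 :=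
      (QuotientGroup.eq_one_iff _).mpr h0
    rw [QuotientGroup.mk_pow, hg] at h1
    have h2 : z' ^ i = 1 := Subtype.ext h1
    rw [← hz']
    exact orderOf_dvd_of_pow_eq_one h2
  have hγ2 : ∀ i : ℕ, ∀ t ∈ P, (g : MulAut B) ^ i * t * ((g : MulAut B) ^ i)⁻¹ * t⁻¹ ∈ P₀ := by
    intro i t ht
    have h0 : (QuotientGroup.mk (g ^ i) : ↥P ⧸ P₀.subgroupOf P) ∈
        Subgroup.center (↥P ⧸ P₀.subgroupOf P) := by
      rw [QuotientGroup.mk_pow, hg]
      exact (z' ^ i).2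
    have h1 := Subgroup.mem_center_iff.mp h0 (QuotientGroup.mk (⟨t, ht⟩ : ↥P))
    have h2 : (QuotientGroup.mk (g ^ i * ⟨t, ht⟩ * (g ^ i)⁻¹ * (⟨t, ht⟩ : ↥P)⁻¹) :
        ↥P ⧸ P₀.subgroupOf P) = 1 := by
      rw [QuotientGroup.mk_mul, QuotientGroup.mk_mul, QuotientGroup.mk_mul,
        QuotientGroup.mk_inv, QuotientGroup.mk_inv, ← h1]
      group
    exact (QuotientGroup.eq_one_iff (N := P₀.subgroupOf P) _).mp h2
  apply hne
  apply norm_lemma hB E hE (g : MulAut B) (hPE _ g.2) ?_ (hnorm _ g.2)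
  intro i hi0 hip e he hcomm
  have hF := hirr (E ⊓ Subgroup.centralizer {(g : MulAut B) ^ i}) inf_le_left ?_ ?_
  · have h0 : e ∈ E ⊓ Subgroup.centralizer {(g : MulAut B) ^ i} := by
      refine Subgroup.mem_inf.mpr ⟨he, Subgroup.mem_centralizer_iff.mpr ?_⟩
      intro x hx
      rw [Set.mem_singleton_iff.mp hx]; exact hcomm
    rw [hF] at h0
    exact Subgroup.mem_bot.mp h0
  · intro t ht e' he'
    have he'' := Subgroup.mem_inf.mp he'
    have ha : (g : MulAut B) ^ i * e' = e' * (g : MulAut B) ^ i :=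
      Subgroup.mem_centralizer_iff.mp he''.2 _ rfl
    have hy := hγ2 i t ht
    have hX : t * e' * t⁻¹ ∈ E := hPE t ht e' he''.1
    have hyX := ((hP₀mem _).mp hy).2 _ hX
    refine Subgroup.mem_inf.mpr ⟨hX, Subgroup.mem_centralizer_iff.mpr ?_⟩
    intro x hx
    rw [Set.mem_singleton_iff.mp hx]
    have h1 : (g : MulAut B) ^ i * e' * ((g : MulAut B) ^ i)⁻¹ = e' := by
      rw [ha, mul_inv_cancel_right]
    have h2 : (g : MulAut B) ^ i * (t * e' * t⁻¹) * ((g : MulAut B) ^ i)⁻¹ =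
        ((g : MulAut B) ^ i * t * ((g : MulAut B) ^ i)⁻¹ * t⁻¹) *
          (t * ((g : MulAut B) ^ i * e' * ((g : MulAut B) ^ i)⁻¹) * t⁻¹) *
          ((g : MulAut B) ^ i * t * ((g : MulAut B) ^ i)⁻¹ * t⁻¹)⁻¹ := by group
    rw [h1] at h2
    have h3 : (g : MulAut B) ^ i * (t * e' * t⁻¹) * ((g : MulAut B) ^ i)⁻¹ = t * e' * t⁻¹ := by
      rw [h2, ← hyX, mul_inv_cancel_right]
    exact mul_inv_eq_iff_eq_mul.mp h3
  · intro hEq
    have h0 : (g : MulAut B) ^ i ∈ P₀ := by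
      rw [hP₀mem]
      refine ⟨P.pow_mem g.2 i, fun e' he' => ?_⟩
      have h1 : e' ∈ E ⊓ Subgroup.centralizer {(g : MulAut B) ^ i} := by rw [hEq]; exact he'
      exact (Subgroup.mem_centralizer_iff.mp (Subgroup.mem_inf.mp h1).2 _ rfl).symm
    have h1 := hγ1 i h0
    exact absurd (Nat.le_of_dvd hi0 h1) (not_le.mpr hip)

end Cfsg.Agent.Helper23.HW
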