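import Mathlib
import Cfsg.Agent.Helper3.ActBridge2
import Cfsg.Agent.Helper23.HW2

/-!
helper23: coprime action on a module with trivial norms: fixed points of `C_K(T₀)` are fixed
by `K`.
-/

set_option autoImplicit false

namespace Cfsg.Agent.Helper23.HW

open scoped commutatorElement

/-- conjugation action of a normalizing subgroup -/
def conjMDMA {Γ : Type*} [Group Γ] (K T₀ : Subgroup Γ)
    (h : ∀ t ∈ T₀, ∀ k ∈ K, t * k * t⁻¹ ∈ K) : MulDistribMulAction ↥T₀ ↥K where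
  smul t k := ⟨(t : Γ) * k * (t : Γ)⁻¹, h t t.2 k k.2⟩
  one_smul k := Subtype.ext (by show (1 : Γ) * k * (1 : Γ)⁻¹ = k; group)
  mul_smul a b k := Subtype.ext (by
    show ((a : Γ) * b) * k * ((a : Γ) * b)⁻¹ = (a : Γ) * ((b : Γ) * k * (b : Γ)⁻¹) * (a : Γ)⁻¹
    group)
  smul_mul a k1 k2 := Subtype.ext (by
    show (a : Γ) * (k1 * k2) * (a : Γ)⁻¹ =
      ((a : Γ) * k1 * (a : Γ)⁻¹) * ((a : Γ) * k2 * (a : Γ)⁻¹)
    group)
  smul_one a := Subtype.ext (by show (a : Γ) * 1 * (a : Γ)⁻¹ = 1; group)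

theorem exists_inv_sylow {Γ : Type*} [Group Γ] [Finite Γ] {p : ℕ} [Fact p.Prime]
    (K T₀ : Subgroup Γ) (hK : (Nat.card K).Coprime p) (hT : IsPGroup p T₀)
    (hTK : ∀ t ∈ T₀, ∀ k ∈ K, t * k * t⁻¹ ∈ K) (q : ℕ) [Fact q.Prime] :
    ∃ Q : Subgroup Γ, Q ≤ K ∧ Nat.card Q = q ^ (Nat.card K).factorization q ∧
      ∀ t ∈ T₀, ∀ x ∈ Q, t * x * t⁻¹ ∈ Q := by
  letI := conjMDMA K T₀ hTK
  have hcop : (Nat.card ↥T₀).Coprime (Nat.card ↥K) := by
    obtain ⟨n, hn⟩ := IsPGroup.iff_card.mp hT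
    rw [hn]
    exact Nat.Coprime.pow_left n hK.symm
  haveI : Group.IsNilpotent ↥T₀ := hT.isNilpotent
  obtain ⟨P, hP1, hP2⟩ := Cfsg.Agent.Helper3.ActBridge.exists_invariant_sylow
    (G := ↥K) (A := ↥T₀) hcop (Or.inl inferInstance) q
  refine ⟨P.map K.subtype, Subgroup.map_subtype_le P, ?_, ?_⟩
  · rw [Subgroup.card_map_of_injective K.subtype_injective]; exact hP1
  · rintro t ht x ⟨y, hy, rfl⟩
    exact ⟨(⟨t, ht⟩ : ↥T₀) • y, hP2 ⟨t, ht⟩ y hy, rfl⟩

theorem lift_fix {A : Type*} [CommGroup A] [Finite A] {p : ℕ} [Fact p.Prime]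
    (K T₀ : Subgroup (MulAut A)) (hK : (Nat.card K).Coprime p) (hT : IsPGroup p T₀)
    (hTK : ∀ t ∈ T₀, ∀ k ∈ K, t * k * t⁻¹ ∈ K) (U : Subgroup A)
    (hTU : ∀ t ∈ T₀, ∀ u ∈ U, t u ∈ U) (k : MulAut A) (hk : k ∈ K)
    (h : ∀ t ∈ T₀, ∀ u ∈ U, (t * k * t⁻¹) u = k u) :
    ∃ c ∈ K, (∀ t ∈ T₀, t * c = c * t) ∧ ∀ u ∈ U, c u = k u := by
  classical
  let D : Subgroup (MulAut A) :=
    { carrier := {d | d ∈ K ∧ ∀ u ∈ U, d u = u}
      one_mem' := ⟨K.one_mem, fun u _ => rfl⟩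
      mul_mem' := by
        rintro a b ⟨ha, ha'⟩ ⟨hb, hb'⟩
        refine ⟨K.mul_mem ha hb, fun u hu => ?_⟩
        rw [MulAut.mul_apply, hb' u hu, ha' u hu]
      inv_mem' := by
        rintro a ⟨ha, ha'⟩
        refine ⟨K.inv_mem ha, fun u hu => ?_⟩
        have h0 := congrArg (a⁻¹ : MulAut A) (ha' u hu)
        rw [MulAut.inv_apply_self] at h0
        exact h0.symm }
  have hDK : D ≤ K := fun d hd => hd.1
  let α := {x : MulAut A // x ∈ K ∧ ∀ u ∈ U, x u = k u}
  letI : MulAction ↥T₀ α :=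
    { smul := fun t x => ⟨(t : MulAut A) * x.1 * (t : MulAut A)⁻¹, hTK t t.2 x.1 x.2.1,
        fun u hu => by
          have hu' : (t : MulAut A)⁻¹ u ∈ U := hTU _ (T₀.inv_mem t.2) u hu
          have h1 := h t t.2 u hu
          show (t : MulAut A) (x.1 ((t : MulAut A)⁻¹ u)) = k u
          rw [x.2.2 _ hu']
          exact h1⟩
      one_smul := fun x => Subtype.ext (by
        show (1 : MulAut A) * x.1 * (1 : MulAut A)⁻¹ = x.1
        group)
      mul_smul := fun a b x => Subtype.ext (by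
        show ((a : MulAut A) * (b : MulAut A)) * x.1 * ((a : MulAut A) * (b : MulAut A))⁻¹ =
          (a : MulAut A) * ((b : MulAut A) * x.1 * (b : MulAut A)⁻¹) * (a : MulAut A)⁻¹
        group) }
  have hcard : Nat.card α = Nat.card ↥D := by
    apply Nat.card_congr
    exact
      { toFun := fun x => ⟨k⁻¹ * x.1, K.mul_mem (K.inv_mem hk) x.2.1, fun u hu => by
          show k⁻¹ (x.1 u) = u
          rw [x.2.2 u hu, MulAut.inv_apply_self]⟩
        invFun := fun d => ⟨k * d.1, K.mul_mem hk d.2.1, fun u hu => by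
          show k (d.1 u) = k u
          rw [d.2.2 u hu]⟩
        left_inv := fun x => Subtype.ext (by show k * (k⁻¹ * x.1) = x.1; group)
        right_inv := fun d => Subtype.ext (by show k⁻¹ * (k * d.1) = d.1; group) }
  have hnd : ¬ p ∣ Nat.card α := by
    rw [hcard]
    intro hdvd
    have h1 : p ∣ Nat.card ↥K := hdvd.trans (Subgroup.card_dvd_of_le hDK)
    exact (Nat.Prime.coprime_iff_not_dvd Fact.out).mp hK.symm h1
  obtain ⟨c, hc⟩ := hT.nonempty_fixed_point_of_prime_not_dvd_card α hnd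
  refine ⟨c.1, c.2.1, fun t ht => ?_, c.2.2⟩
  have h1 := hc ⟨t, ht⟩
  have h2 : t * c.1 * t⁻¹ = c.1 := congrArg Subtype.val h1
  exact mul_inv_eq_iff_eq_mul.mp h2

theorem lemma_M {A : Type*} [CommGroup A] [Finite A] {p : ℕ} [Fact p.Prime]
    (hA : ∀ a : A, a ^ p = 1) (T₀ : Subgroup (MulAut A)) (hT : IsPGroup p T₀) :
    ∀ (n : ℕ) (K : Subgroup (MulAut A)), Nat.card K = n → (Nat.card K).Coprime p →
      (∀ t ∈ T₀, ∀ k ∈ K, t * k * t⁻¹ ∈ K) →
      ∀ W : Subgroup A, (∀ k ∈ K, ∀ w ∈ W, k w ∈ W) → (∀ t ∈ T₀, ∀ w ∈ W, t w ∈ W) →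
      (∀ t ∈ T₀, ∀ w ∈ W, ∏ i ∈ Finset.range p, (t ^ i) w = 1) →
      ∀ w ∈ W, (∀ c ∈ K, (∀ t ∈ T₀, t * c = c * t) → c w = w) → ∀ k ∈ K, k w = w := by
  classical
  intro n
  induction n using Nat.strong_induction_on with
  | _ n ih =>
  intro K hn hK hTK W hKW hTW hnorm w hw hwC k hk
  have hp : p.Prime := Fact.out
  by_cases hq : ∃ q : ℕ, q.Prime ∧ IsPGroup q K
  swap
  · -- not of prime power order: invariant Sylow subgroups
    obtain ⟨St, hSt⟩ : ∃ St : Subgroup (MulAut A), ∀ x, x ∈ St ↔ x ∈ K ∧ x w = w :=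
      ⟨{ carrier := {x | x ∈ K ∧ x w = w}
         one_mem' := ⟨K.one_mem, rfl⟩
         mul_mem' := by
           rintro a b ⟨ha, ha'⟩ ⟨hb, hb'⟩
           exact ⟨K.mul_mem ha hb, by rw [MulAut.mul_apply, hb', ha']⟩
         inv_mem' := by
           rintro a ⟨ha, ha'⟩
           refine ⟨K.inv_mem ha, ?_⟩
           have h0 := congrArg (a⁻¹ : MulAut A) ha'
           rw [MulAut.inv_apply_self] at h0
           exact h0.symm }, fun x => Iff.rfl⟩
    have hStK : St ≤ K := fun x hx => ((hSt x).mp hx).1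
    have hdvd : Nat.card ↥K ∣ Nat.card ↥St := by
      rw [← Nat.factorization_le_iff_dvd Nat.card_pos.ne' Nat.card_pos.ne']
      refine Finsupp.le_def.mpr (fun q => ?_)
      by_cases hqp : q.Prime
      · haveI : Fact q.Prime := ⟨hqp⟩
        obtain ⟨Q, hQK, hQc, hQT⟩ := exists_inv_sylow K T₀ hK hT hTK q
        have hQne : Q ≠ K := by
          intro h
          apply hq
          refine ⟨q, hqp, ?_⟩
          rw [← h]
          exact IsPGroup.of_card hQc
        have hlt : Nat.card ↥Q < n := by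
          rw [← hn]
          by_contra hge
          exact hQne (Subgroup.eq_of_le_of_card_ge hQK (not_lt.mp hge))
        have hQSt : Q ≤ St := by
          intro x hx
          refine (hSt x).mpr ⟨hQK hx, ?_⟩
          exact ih _ hlt Q rfl
            (Nat.Coprime.coprime_dvd_left (Subgroup.card_dvd_of_le hQK) hK) hQT W
            (fun y hy => hKW y (hQK hy)) hTW hnorm w hw
            (fun c hc hcT => hwC c (hQK hc) hcT) x hx
        have h1 : q ^ (Nat.card ↥K).factorization q ∣ Nat.card ↥St := by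
          rw [← hQc]; exact Subgroup.card_dvd_of_le hQSt
        exact (Nat.Prime.pow_dvd_iff_le_factorization hqp Nat.card_pos.ne').mp h1
      · rw [Nat.factorization_eq_zero_of_not_prime _ hqp]
        exact Nat.zero_le _
    have hEq : St = K := Subgroup.eq_of_le_of_card_ge hStK (Nat.le_of_dvd Nat.card_pos hdvd)
    have hkSt : k ∈ St := by rw [hEq]; exact hk
    exact ((hSt k).mp hkSt).2
  · -- prime power order
    obtain ⟨q, hqp, hKq⟩ := hq
    haveI : Fact q.Prime := ⟨hqp⟩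
    by_cases hKbot : K = ⊥
    · rw [hKbot, Subgroup.mem_bot] at hk
      rw [hk]; rfl
    haveI : Nontrivial ↥K := (Subgroup.nontrivial_iff_ne_bot K).mpr hKbot
    haveI : Group.IsNilpotent ↥K := hKq.isNilpotent
    have hlt0 := Group.IsSolvable.commutator_lt_top_of_nontrivial ↥K
    have hK'le : ⁅K, K⁆ ≤ K := by
      rw [← Subgroup.map_subtype_commutator]; exact Subgroup.map_subtype_le _
    have hK'ne : ⁅K, K⁆ ≠ K := by
      intro h
      apply hlt0.ne
      rw [← Subgroup.map_subtype_commutator] at h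
      apply Subgroup.map_injective K.subtype_injective
      rw [h, ← MonoidHom.range_eq_map, Subgroup.range_subtype]
    have hK'T : ∀ t ∈ T₀, ∀ x ∈ ⁅K, K⁆, t * x * t⁻¹ ∈ ⁅K, K⁆ := by
      intro t ht x hx
      have h1 : (MulAut.conj t).toMonoidHom x ∈ (⁅K, K⁆).map (MulAut.conj t).toMonoidHom :=
        Subgroup.mem_map_of_mem _ hx
      rw [Subgroup.map_commutator] at h1
      have h2 : K.map (MulAut.conj t).toMonoidHom ≤ K := by
        rintro _ ⟨y, hy, rfl⟩
        exact hTK t ht y hy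
      exact Subgroup.commutator_mono h2 h2 h1
    obtain ⟨U, hU⟩ : ∃ U : Subgroup A, ∀ u, u ∈ U ↔
        u ∈ W ∧ ∀ c ∈ K, (∀ t ∈ T₀, t * c = c * t) → c u = u :=
      ⟨{ carrier := {u | u ∈ W ∧ ∀ c ∈ K, (∀ t ∈ T₀, t * c = c * t) → c u = u}
         one_mem' := ⟨W.one_mem, fun c _ _ => map_one c⟩
         mul_mem' := by
           rintro a b ⟨ha, ha'⟩ ⟨hb, hb'⟩
           exact ⟨W.mul_mem ha hb, fun c hc hcT => by
             rw [map_mul, ha' c hc hcT, hb' c hc hcT]⟩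
         inv_mem' := by
           rintro a ⟨ha, ha'⟩
           exact ⟨W.inv_mem ha, fun c hc hcT => by rw [map_inv, ha' c hc hcT]⟩ },
        fun u => Iff.rfl⟩
    have hwU : w ∈ U := (hU w).mpr ⟨hw, hwC⟩
    have hUfix : ∀ u ∈ U, ∀ c ∈ K, (∀ t ∈ T₀, t * c = c * t) → c u = u :=
      fun u hu => ((hU u).mp hu).2
    have hUW : ∀ u ∈ U, u ∈ W := fun u hu => ((hU u).mp hu).1
    have hK'U : ∀ x ∈ ⁅K, K⁆, ∀ u ∈ U, x u = u := by
      intro x hx u hu
      have hlt : Nat.card ↥(⁅K, K⁆) < n := by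
        rw [← hn]
        by_contra hge
        exact hK'ne (Subgroup.eq_of_le_of_card_ge hK'le (not_lt.mp hge))
      exact ih _ hlt ⁅K, K⁆ rfl
        (Nat.Coprime.coprime_dvd_left (Subgroup.card_dvd_of_le hK'le) hK) hK'T W
        (fun y hy => hKW y (hK'le hy)) hTW hnorm u (hUW u hu)
        (fun c hc hcT => hUfix u hu c (hK'le hc) hcT) x hx
    have hKU : ∀ x ∈ K, ∀ u ∈ U, x u ∈ U := by
      intro x hx u hu
      refine (hU _).mpr ⟨hKW x hx u (hUW u hu), fun c hc hcT => ?_⟩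
      have h1 : c * x = x * c * ⁅c⁻¹, x⁻¹⁆ := by rw [commutatorElement_def]; group
      have h2 : ⁅c⁻¹, x⁻¹⁆ ∈ ⁅K, K⁆ :=
        Subgroup.commutator_mem_commutator (K.inv_mem hc) (K.inv_mem hx)
      calc c (x u) = (c * x) u := rfl
        _ = (x * c * ⁅c⁻¹, x⁻¹⁆) u := by rw [h1]
        _ = x (c (⁅c⁻¹, x⁻¹⁆ u)) := rfl
        _ = x (c u) := by rw [hK'U _ h2 u hu]
        _ = x u := by rw [hUfix u hu c hc hcT]
    have hTU : ∀ t ∈ T₀, ∀ u ∈ U, t u ∈ U := by
      intro t ht u hu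
      refine (hU _).mpr ⟨hTW t ht u (hUW u hu), fun c hc hcT => ?_⟩
      calc c (t u) = (c * t) u := rfl
        _ = (t * c) u := by rw [hcT t ht]
        _ = t (c u) := rfl
        _ = t u := by rw [hUfix u hu c hc hcT]
    have hKS : K ≤ stabSub U := le_stabSub U K hKU
    have hTS : T₀ ≤ stabSub U := le_stabSub U T₀ hTU
    obtain ⟨E, hE⟩ : ∃ E : Subgroup (MulAut ↥U),
        E = (K.subgroupOf (stabSub U)).map (resAut U) := ⟨_, rfl⟩
    obtain ⟨P, hP⟩ : ∃ P : Subgroup (MulAut ↥U),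
        P = (T₀.subgroupOf (stabSub U)).map (resAut U) := ⟨_, rfl⟩
    have hEmem : ∀ e, e ∈ E ↔ ∃ x, ∃ hx : x ∈ K, e = resAut U ⟨x, hKS hx⟩ := by
      intro e
      rw [hE]
      constructor
      · rintro ⟨y, hy, rfl⟩
        exact ⟨y.1, hy, rfl⟩
      · rintro ⟨x, hx, rfl⟩
        exact ⟨⟨x, hKS hx⟩, hx, rfl⟩
    have hPmem : ∀ e, e ∈ P ↔ ∃ x, ∃ hx : x ∈ T₀, e = resAut U ⟨x, hTS hx⟩ := by
      intro e
      rw [hP]
      constructor
      · rintro ⟨y, hy, rfl⟩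
        exact ⟨y.1, hy, rfl⟩
      · rintro ⟨x, hx, rfl⟩
        exact ⟨⟨x, hTS hx⟩, hx, rfl⟩
    have hEbot : E = ⊥ := by
      apply lemma_N (B := ↥U) (p := p) (fun b => Subtype.ext (hA (b : A))) E P
      · -- coprime
        rw [hE]
        refine Nat.Coprime.coprime_dvd_left (Subgroup.card_map_dvd _ _) ?_
        rw [Nat.card_congr (Subgroup.subgroupOfEquivOfLe hKS).toEquiv]; exact hK
      · rw [hP]
        exact (hT.comap_of_injective (stabSub U).subtype Subtype.coe_injective).map _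
      · intro t ht e he
        obtain ⟨t', ht', rfl⟩ := (hPmem t).mp ht
        obtain ⟨x, hx, rfl⟩ := (hEmem e).mp he
        refine (hEmem _).mpr ⟨t' * x * t'⁻¹, hTK t' ht' x hx, ?_⟩
        rw [← map_inv, ← map_mul, ← map_mul]
        rfl
      · intro t ht b
        obtain ⟨t', ht', rfl⟩ := (hPmem t).mp ht
        have h1 : ∀ i : ℕ, ((((resAut U ⟨t', hTS ht'⟩) ^ i) b : ↥U) : A) = (t' ^ i) (b : A) := by
          intro i
          rw [← map_pow]
          rfl
        apply Subtype.ext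
        rw [SubmonoidClass.coe_finsetProd, Finset.prod_congr rfl (fun i _ => h1 i)]
        exact hnorm t' ht' b (hUW b b.2)
      · intro e he hcomm
        obtain ⟨x, hx, rfl⟩ := (hEmem e).mp he
        have hx' : ∀ t ∈ T₀, ∀ u ∈ U, (t * x * t⁻¹) u = x u := by
          intro t ht u hu
          have hu' : (t⁻¹ : MulAut A) u ∈ U := hTU _ (T₀.inv_mem ht) u hu
          have h1 := hcomm _ ((hPmem _).mpr ⟨t, ht, rfl⟩)
          have h2 := congrArg
            (fun e : MulAut ↥U => ((e ⟨(t⁻¹ : MulAut A) u, hu'⟩ : ↥U) : A)) h1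
          have h3 : t (x ((t⁻¹ : MulAut A) u)) = x (t ((t⁻¹ : MulAut A) u)) := h2
          rw [MulAut.apply_inv_self] at h3
          exact h3
        obtain ⟨c, hcK, hcT, hcu⟩ := lift_fix K T₀ hK hT hTK U hTU x hx hx'
        exact MulEquiv.ext (fun u => Subtype.ext
          ((hcu u u.2).symm.trans (hUfix u u.2 c hcK hcT)))
      · intro F hFE hFinv hFne
        obtain ⟨K₁, hK₁mem⟩ : ∃ K₁ : Subgroup (MulAut A),
            ∀ x, x ∈ K₁ ↔ ∃ hx : x ∈ K, resAut U ⟨x, hKS hx⟩ ∈ F := by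
          refine ⟨((F.comap (resAut U)) ⊓ K.subgroupOf (stabSub U)).map (stabSub U).subtype,
            fun x => ?_⟩
          constructor
          · rintro ⟨y, hy, rfl⟩
            obtain ⟨hy1, hy2⟩ := Subgroup.mem_inf.mp hy
            exact ⟨hy2, hy1⟩
          · rintro ⟨hx, hxF⟩
            exact ⟨⟨x, hKS hx⟩, Subgroup.mem_inf.mpr ⟨hxF, hx⟩, rfl⟩
        have hK₁K : K₁ ≤ K := fun x hx => ((hK₁mem x).mp hx).1
        have hK₁ne : K₁ ≠ K := by
          intro h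
          apply hFne
          apply le_antisymm hFE
          intro e he
          obtain ⟨x, hx, rfl⟩ := (hEmem e).mp he
          have hx1 : x ∈ K₁ := by rw [h]; exact hx
          exact ((hK₁mem x).mp hx1).2
        have hlt : Nat.card ↥K₁ < n := by
          rw [← hn]
          by_contra hge
          exact hK₁ne (Subgroup.eq_of_le_of_card_ge hK₁K (not_lt.mp hge))
        have hK₁T : ∀ t ∈ T₀, ∀ x ∈ K₁, t * x * t⁻¹ ∈ K₁ := by
          intro t ht x hx
          obtain ⟨hxK, hxF⟩ := (hK₁mem x).mp hx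
          refine (hK₁mem _).mpr ⟨hTK t ht x hxK, ?_⟩
          have h1 := hFinv _ ((hPmem _).mpr ⟨t, ht, rfl⟩) _ hxF
          rw [← map_inv, ← map_mul, ← map_mul] at h1
          exact h1
        have hK₁U : ∀ x ∈ K₁, ∀ u ∈ U, x u = u := by
          intro x hx u hu
          exact ih _ hlt K₁ rfl
            (Nat.Coprime.coprime_dvd_left (Subgroup.card_dvd_of_le hK₁K) hK) hK₁T W
            (fun y hy => hKW y (hK₁K hy)) hTW hnorm u (hUW u hu)
            (fun c hc hcT => hUfix u hu c (hK₁K hc) hcT) x hx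
        rw [Subgroup.eq_bot_iff_forall]
        intro f hf
        obtain ⟨x, hx, rfl⟩ := (hEmem f).mp (hFE hf)
        have hx1 : x ∈ K₁ := (hK₁mem x).mpr ⟨hx, hf⟩
        exact MulEquiv.ext (fun u => Subtype.ext (hK₁U x hx1 u u.2))
    have h1 : resAut U ⟨k, hKS hk⟩ ∈ E := (hEmem _).mpr ⟨k, hk, rfl⟩
    rw [hEbot, Subgroup.mem_bot] at h1
    have h2 := congrArg (fun e : MulAut ↥U => ((e ⟨w, hwU⟩ : ↥U) : A)) h1
    exact h2

end Cfsg.Agent.Helper23.HW
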