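import Mathlib
import Cfsg.Agent.Helper23.HW1
import Cfsg.Agent.Helper23.HW3
import Cfsg.Agent.Helper19.Basic

/-!
helper23: the base case of the hyperfocal induction for Sylow subgroups of class `< p`:
`V = T ∩ R` normal and elementary abelian.
-/

set_option autoImplicit false

namespace Cfsg.Agent.Helper23.HW

open Cfsg
open scoped commutatorElement

theorem geom_sum_add_one {R : Type*} [Ring R] (d : R) (n : ℕ) :
    ∑ i ∈ Finset.range n, (d + 1) ^ i = ∑ m ∈ Finset.range n, (n.choose (m + 1)) • d ^ m := by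
  induction n with
  | zero => simp
  | succ n ih =>
    rw [Finset.sum_range_succ, ih, (Commute.one_right d).add_pow]
    have h1 : ∑ m ∈ Finset.range (n + 1), d ^ m * 1 ^ (n - m) * ((n.choose m : ℕ) : R) =
        ∑ m ∈ Finset.range (n + 1), (n.choose m) • d ^ m := by
      apply Finset.sum_congr rfl
      intro m _
      rw [one_pow, mul_one, nsmul_eq_mul, Nat.cast_comm]
    have h2 : ∑ m ∈ Finset.range (n + 1), ((n + 1).choose (m + 1)) • d ^ m =
        ∑ m ∈ Finset.range (n + 1), (n.choose m) • d ^ m +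
          ∑ m ∈ Finset.range (n + 1), (n.choose (m + 1)) • d ^ m := by
      rw [← Finset.sum_add_distrib]
      apply Finset.sum_congr rfl
      intro m _
      rw [Nat.choose_succ_succ, add_smul]
    have h3 : ∑ m ∈ Finset.range (n + 1), (n.choose (m + 1)) • d ^ m =
        ∑ m ∈ Finset.range n, (n.choose (m + 1)) • d ^ m := by
      rw [Finset.sum_range_succ, Nat.choose_succ_self, zero_smul, add_zero]
    rw [h1, h2, h3, add_comm]

/-- In an abelian group of exponent `p`, an automorphism `θ` with `(θ - 1)^(p-1) = 0` has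
trivial norm `1 + θ + ... + θ^(p-1)`. -/
theorem prod_pow_eq_one {A : Type*} [CommGroup A] {p : ℕ} [Fact p.Prime]
    (hA : ∀ a : A, a ^ p = 1) (θ : MulAut A)
    (hnil : ∀ a : A, (fun x => θ x * x⁻¹)^[p - 1] a = 1) (a : A) :
    ∏ i ∈ Finset.range p, (θ ^ i) a = 1 := by
  have hp : p.Prime := Fact.out
  obtain ⟨θ', hθ'⟩ : ∃ θ' : AddMonoid.End (Additive A),
      ∀ x : A, θ' (Additive.ofMul x) = Additive.ofMul (θ x) :=
    ⟨MonoidHom.toAdditive θ.toMonoidHom, fun x => rfl⟩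
  obtain ⟨d, hd⟩ : ∃ d : AddMonoid.End (Additive A), d = θ' - 1 := ⟨_, rfl⟩
  have hd1 : d + 1 = θ' := by rw [hd, sub_add_cancel]
  have hθpow : ∀ (i : ℕ) (x : A),
      (θ' ^ i) (Additive.ofMul x) = Additive.ofMul ((θ ^ i) x) := by
    intro i
    induction i with
    | zero => intro x; rfl
    | succ i ih =>
      intro x
      rw [pow_succ, pow_succ]
      show (θ' ^ i) (θ' (Additive.ofMul x)) = Additive.ofMul ((θ ^ i) (θ x))
      rw [hθ', ih]
  have hdpow : ∀ (m : ℕ) (x : A), (d ^ m) (Additive.ofMul x) =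
      Additive.ofMul ((fun y => θ y * y⁻¹)^[m] x) := by
    intro m
    induction m with
    | zero => intro x; rfl
    | succ m ih =>
      intro x
      rw [pow_succ, Function.iterate_succ_apply]
      show (d ^ m) (d (Additive.ofMul x)) = _
      have h1 : d (Additive.ofMul x) = Additive.ofMul (θ x * x⁻¹) := by
        rw [hd]
        show θ' (Additive.ofMul x) - Additive.ofMul x = _
        rw [hθ', ← ofMul_div, div_eq_mul_inv]
      rw [h1, ih]
  have key := geom_sum_add_one d p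
  rw [hd1] at key
  have key2 : (∑ i ∈ Finset.range p, θ' ^ i) (Additive.ofMul a) =
      (∑ m ∈ Finset.range p, p.choose (m + 1) • d ^ m) (Additive.ofMul a) := by rw [key]
  have hev : ∀ (f : ℕ → AddMonoid.End (Additive A)) (s : Finset ℕ) (x : Additive A),
      (∑ i ∈ s, f i) x = ∑ i ∈ s, (f i) x := by
    intro f s x
    exact AddMonoidHom.finsetSum_apply f s x
  rw [hev, hev] at key2
  have hL : ∑ i ∈ Finset.range p, (θ' ^ i) (Additive.ofMul a) =
      Additive.ofMul (∏ i ∈ Finset.range p, (θ ^ i) a) := by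
    rw [ofMul_prod]
    exact Finset.sum_congr rfl (fun i _ => hθpow i a)
  have hR : ∑ m ∈ Finset.range p, (p.choose (m + 1) • d ^ m) (Additive.ofMul a) = 0 := by
    apply Finset.sum_eq_zero
    intro m hm
    have hm' : m < p := Finset.mem_range.mp hm
    show p.choose (m + 1) • (d ^ m) (Additive.ofMul a) = 0
    rw [hdpow]
    by_cases hmp : m + 1 < p
    · obtain ⟨c, hc⟩ := hp.dvd_choose_self (Nat.succ_ne_zero m) hmp
      rw [hc, mul_comm, mul_smul, ← ofMul_pow, hA]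
      simp
    · have hmeq : m = p - 1 := by omega
      rw [hmeq, hnil]
      simp
  rw [hL, hR] at key2
  exact key2

theorem exists_p_decomp {G : Type*} [Group G] [Finite G] (p : ℕ) [hp : Fact p.Prime] (g : G) :
    ∃ a b : G, a * b = g ∧ (∃ e : ℕ, a ^ (p ^ e) = 1) ∧ (orderOf b).Coprime p ∧
      a ∈ Subgroup.zpowers g ∧ b ∈ Subgroup.zpowers g := by
  obtain ⟨e, m, hm, ho⟩ :=
    Nat.exists_eq_pow_mul_and_not_dvd (orderOf_pos g).ne' p hp.out.ne_one
  have hcop : Nat.Coprime (p ^ e) m :=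
    Nat.Coprime.pow_left e ((Nat.Prime.coprime_iff_not_dvd hp.out).mpr hm)
  obtain ⟨k, hk0, hk1⟩ := Nat.chineseRemainder hcop 0 1
  obtain ⟨j, hj1, hj0⟩ := Nat.chineseRemainder hcop 1 0
  refine ⟨g ^ j, g ^ k, ?_, ⟨e, ?_⟩, ?_, Subgroup.pow_mem _ (Subgroup.mem_zpowers g) j,
    Subgroup.pow_mem _ (Subgroup.mem_zpowers g) k⟩
  · rw [← pow_add]
    have h1 : j + k ≡ 1 [MOD p ^ e * m] := by
      rw [← Nat.modEq_and_modEq_iff_modEq_mul hcop]
      exact ⟨by simpa using hj1.add hk0, by simpa using hj0.add hk1⟩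
    rw [← ho] at h1
    have h2 := (pow_eq_pow_iff_modEq (x := g)).mpr h1
    rw [h2, pow_one]
  · rw [← pow_mul]
    apply orderOf_dvd_iff_pow_eq_one.mp
    rw [ho, mul_comm j]
    exact Nat.mul_dvd_mul_left _ ((Nat.modEq_zero_iff_dvd).mp hj0)
  · have h1 : (g ^ k) ^ m = 1 := by
      rw [← pow_mul]
      apply orderOf_dvd_iff_pow_eq_one.mp
      rw [ho]
      exact Nat.mul_dvd_mul_right ((Nat.modEq_zero_iff_dvd).mp hk0) m
    exact Nat.Coprime.coprime_dvd_left (orderOf_dvd_of_pow_eq_one h1)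
      ((Nat.Prime.coprime_iff_not_dvd hp.out).mpr hm).symm

theorem mem_of_pow_mem_of_coprime {G : Type*} [Group G] (K : Subgroup G) (v : G) (m p : ℕ)
    (hc : m.Coprime p) (h1 : v ^ m ∈ K) (h2 : v ^ p ∈ K) : v ∈ K := by
  have h := Nat.gcd_eq_gcd_ab m p
  rw [Nat.Coprime.gcd_eq_one hc] at h
  have h3 : v = (v ^ m) ^ (Nat.gcdA m p) * (v ^ p) ^ (Nat.gcdB m p) := by
    rw [← zpow_natCast v m, ← zpow_natCast v p, ← zpow_mul, ← zpow_mul, ← zpow_add, ← h]
    simp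
  rw [h3]; exact K.mul_mem (K.zpow_mem h1 _) (K.zpow_mem h2 _)

/-- **Base case**: `V = T ∩ R` is normal, abelian of exponent `p`, with `V ≤ [V, R]`. -/
theorem base_elem {H : Type*} [Group H] [Finite H] {p : ℕ} [Fact p.Prime] (T : Sylow p H)
    (hcl : (T : Subgroup H).lowerCentralSeries (p - 1) = ⊥)
    (R V : Subgroup H) [hRn : R.Normal] [hVn : V.Normal] (hV : V = (T : Subgroup H) ⊓ R)
    (hVc : ∀ a ∈ V, ∀ b ∈ V, a * b = b * a) (hVp : ∀ a ∈ V, a ^ p = 1)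
    (hVR : V ≤ ⁅V, R⁆) :
    V ≤ pResidualOf p (Subgroup.normalizer ((T : Subgroup H) : Set H)) := by
  classical
  have hp : p.Prime := Fact.out
  letI : CommGroup ↥V :=
    { (inferInstance : Group ↥V) with mul_comm := fun a b => Subtype.ext (hVc a a.2 b b.2) }
  have hVT : V ≤ (T : Subgroup H) := hV ▸ inf_le_left
  obtain ⟨ρ, hρ⟩ : ∃ ρ : H →* MulAut ↥V,
      ∀ (g : H) (v : ↥V), ((ρ g v : ↥V) : H) = g * v * g⁻¹ :=
    ⟨MulAut.conjNormal, fun g v => MulAut.conjNormal_apply g v⟩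
  obtain ⟨N, hN⟩ : ∃ N : Subgroup H, N = Subgroup.normalizer ((T : Subgroup H) : Set H) :=
    ⟨_, rfl⟩
  rw [← hN]
  have hTN : (T : Subgroup H) ≤ N := hN ▸ Subgroup.le_normalizer
  have hA : ∀ a : ↥V, a ^ p = 1 := fun a => Subtype.ext (hVp a a.2)
  have hρV : ∀ x ∈ V, ρ x = 1 := by
    intro x hx
    apply MulEquiv.ext
    intro v
    apply Subtype.ext
    rw [hρ]
    show x * v * x⁻¹ = v
    rw [hVc x hx v v.2, mul_inv_cancel_right]
  have hpel : ∀ r ∈ R, (∃ e : ℕ, r ^ (p ^ e) = 1) → r ∈ V := by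
    rintro r hr ⟨e, he⟩
    have hQ : IsPGroup p (Subgroup.zpowers r) := Helper14.isPGroup_zpowers_of_pow r e he
    obtain ⟨g, hg⟩ := Helper14.exists_le_sylow_conj T _ hQ
    have h1 : g⁻¹ * r * g ∈ (T : Subgroup H) :=
      (Helper14.mem_map_conj _ g r).mp (hg (Subgroup.mem_zpowers r))
    have h2 : g⁻¹ * r * g ∈ R := by
      have h0 := hRn.conj_mem r hr g⁻¹
      rwa [inv_inv] at h0
    have h3 : g⁻¹ * r * g ∈ V := by rw [hV]; exact ⟨h1, h2⟩
    have h4 := hVn.conj_mem _ h3 g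
    have h5 : g * (g⁻¹ * r * g) * g⁻¹ = r := by group
    rwa [h5] at h4
  obtain ⟨E, hE⟩ : ∃ E : Subgroup (MulAut ↥V), E = R.map ρ := ⟨_, rfl⟩
  obtain ⟨P₀, hP₀⟩ : ∃ P₀ : Subgroup (MulAut ↥V), P₀ = (T : Subgroup H).map ρ := ⟨_, rfl⟩
  have hEel : ∀ e ∈ E, ∃ m : ℕ, m.Coprime p ∧ e ^ m = 1 := by
    intro e he
    rw [hE] at he
    obtain ⟨r, hr, rfl⟩ := he
    obtain ⟨a, b, hab, ha, hb, haz, hbz⟩ := exists_p_decomp p r
    have haR : a ∈ R := (Subgroup.zpowers_le.mpr hr) haz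
    have haV : a ∈ V := hpel a haR ha
    refine ⟨orderOf b, hb, ?_⟩
    rw [← hab, map_mul, hρV a haV, one_mul, ← map_pow, pow_orderOf_eq_one, map_one]
  have hEcop : (Nat.card ↥E).Coprime p := by
    rw [Nat.coprime_comm, Nat.Prime.coprime_iff_not_dvd hp]
    intro hdvd
    obtain ⟨x, hx⟩ := exists_prime_orderOf_dvd_card' p hdvd
    obtain ⟨m, hm, hxm⟩ := hEel x.1 x.2
    have h1 : x ^ m = 1 := Subtype.ext hxm
    have h2 : x ^ p ^ 1 = 1 := by rw [pow_one, ← hx, pow_orderOf_eq_one]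
    have h3 := Helper14.eq_one_of_pow_coprime x m 1 hm h1 h2
    rw [h3, orderOf_one] at hx
    exact hp.one_lt.ne hx
  have hP₀p : IsPGroup p ↥P₀ := by rw [hP₀]; exact T.2.map ρ
  have hP₀E : ∀ t ∈ P₀, ∀ e ∈ E, t * e * t⁻¹ ∈ E := by
    intro t ht e he
    rw [hP₀] at ht
    rw [hE] at he ⊢
    obtain ⟨t', ht', rfl⟩ := ht
    obtain ⟨r, hr, rfl⟩ := he
    exact ⟨t' * r * t'⁻¹, hRn.conj_mem r hr t', by rw [map_mul, map_mul, map_inv]⟩
  have hnorm : ∀ t ∈ P₀, ∀ w : ↥V, ∏ i ∈ Finset.range p, (t ^ i) w = 1 := by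
    intro t ht w
    rw [hP₀] at ht
    obtain ⟨t', ht', rfl⟩ := ht
    apply prod_pow_eq_one hA
    intro a
    have h1 : ∀ m : ℕ, ∀ a : ↥V, (((fun x : ↥V => ρ t' x * x⁻¹)^[m] a : ↥V) : H) ∈
        (T : Subgroup H).lowerCentralSeries m := by
      intro m
      induction m with
      | zero => intro a; exact hVT a.2
      | succ m ih =>
        intro a
        rw [Function.iterate_succ_apply']
        have h2 := ih a
        obtain ⟨y, hy⟩ : ∃ y : ↥V, y = (fun x : ↥V => ρ t' x * x⁻¹)^[m] a := ⟨_, rfl⟩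
        rw [← hy] at h2 ⊢
        show ((ρ t' y * y⁻¹ : ↥V) : H) ∈ _
        have h4 : ((ρ t' y * y⁻¹ : ↥V) : H) = ⁅t', (y : H)⁆ := by
          rw [commutatorElement_def, Subgroup.coe_mul, hρ, Subgroup.coe_inv]
        rw [h4, Subgroup.lowerCentralSeries_succ, Subgroup.commutator_comm]
        exact Subgroup.commutator_mem_commutator ht' h2
    have h5 := h1 (p - 1) a
    rw [hcl, Subgroup.mem_bot] at h5
    exact Subtype.ext h5
  have hM := lemma_M hA P₀ hP₀p (Nat.card ↥E) E rfl hEcop hP₀E ⊤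
    (fun _ _ _ _ => Subgroup.mem_top _) (fun _ _ _ _ => Subgroup.mem_top _)
    (fun t ht w _ => hnorm t ht w)
  haveI : Fintype ↥E := Fintype.ofFinite _
  have hfixE : ∀ w : ↥V, (∀ e ∈ E, e w = w) → w = 1 := by
    intro w hw
    obtain ⟨Nm, hNm⟩ : ∃ Nm : ↥V →* ↥V, ∀ x, Nm x = ∏ e : ↥E, (e : MulAut ↥V) x :=
      ⟨{ toFun := fun x => ∏ e : ↥E, (e : MulAut ↥V) x
         map_one' := by simp
         map_mul' := fun x y => by simp [Finset.prod_mul_distrib] }, fun x => rfl⟩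
    have hker : ⁅V, R⁆ ≤ Nm.ker.map V.subtype := by
      rw [Subgroup.commutator_le]
      intro v hv r hr
      refine ⟨⟨v, hv⟩ * (ρ r ⟨v, hv⟩)⁻¹, ?_, ?_⟩
      · rw [SetLike.mem_coe, MonoidHom.mem_ker, map_mul, map_inv, hNm, hNm]
        have h1 : ∏ e : ↥E, (e : MulAut ↥V) (ρ r ⟨v, hv⟩) =
            ∏ e : ↥E, (e : MulAut ↥V) ⟨v, hv⟩ := by
          have hrE : ρ r ∈ E := by rw [hE]; exact Subgroup.mem_map_of_mem ρ hr
          exact Fintype.prod_bijective (fun e : ↥E => e * ⟨ρ r, hrE⟩)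
            (Group.mulRight_bijective _) _ _ (fun e => rfl)
        rw [h1, mul_inv_cancel]
      · show (v : H) * ((ρ r ⟨v, hv⟩ : ↥V) : H)⁻¹ = ⁅v, r⁆
        rw [hρ, commutatorElement_def]
        show v * (r * v * r⁻¹)⁻¹ = v * r * v⁻¹ * r⁻¹
        group
    have hwker : (w : H) ∈ Nm.ker.map V.subtype := hker (hVR w.2)
    obtain ⟨w', hw', hww⟩ := hwker
    have hw'eq : w' = w := Subtype.ext hww
    rw [hw'eq, SetLike.mem_coe, MonoidHom.mem_ker, hNm] at hw'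
    have h1 : ∏ e : ↥E, (e : MulAut ↥V) w = w ^ Nat.card ↥E := by
      rw [Finset.prod_congr rfl (fun e _ => hw e.1 e.2), Finset.prod_const, Finset.card_univ,
        Nat.card_eq_fintype_card]
    rw [h1] at hw'
    exact Helper14.eq_one_of_pow_coprime w _ 1 hEcop hw' (by rw [pow_one]; exact hA w)
  obtain ⟨C₀, hC₀⟩ : ∃ C₀ : Subgroup (MulAut ↥V),
      ∀ c, c ∈ C₀ ↔ c ∈ E ∧ ∀ t ∈ P₀, t * c = c * t := by
    refine ⟨E ⊓ Subgroup.centralizer (P₀ : Set (MulAut ↥V)), fun c => ?_⟩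
    rw [Subgroup.mem_inf, Subgroup.mem_centralizer_iff]
    rfl
  haveI : Fintype ↥C₀ := Fintype.ofFinite _
  have hC₀cop : (Nat.card ↥C₀).Coprime p :=
    Nat.Coprime.coprime_dvd_left
      (Subgroup.card_dvd_of_le (fun c hc => ((hC₀ c).mp hc).1)) hEcop
  obtain ⟨Y, hY⟩ : ∃ Y : Subgroup H, Y = pResidualOf p N := ⟨_, rfl⟩
  rw [← hY]
  have hkey : ∀ c ∈ C₀, ∀ v : ↥V, ((c v * v⁻¹ : ↥V) : H) ∈ Y := by
    intro c hc v
    obtain ⟨hcE, hcT⟩ := (hC₀ c).mp hc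
    rw [hE] at hcE
    obtain ⟨r, hr, rfl⟩ := hcE
    have h1 : (T : Subgroup H).map (MulAut.conj r).toMonoidHom ≤ ρ.ker ⊔ (T : Subgroup H) := by
      rintro _ ⟨t, ht, rfl⟩
      have h2 : r * t * r⁻¹ * t⁻¹ ∈ ρ.ker := by
        rw [MonoidHom.mem_ker, map_mul, map_mul, map_mul, map_inv, map_inv]
        have h3 := hcT (ρ t) (by rw [hP₀]; exact Subgroup.mem_map_of_mem ρ ht)
        rw [← h3]; group
      have h4 : (MulAut.conj r).toMonoidHom t = (r * t * r⁻¹ * t⁻¹) * t := by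
        show r * t * r⁻¹ = _; group
      rw [h4]
      exact Subgroup.mul_mem _ (Subgroup.mem_sup_left h2) (Subgroup.mem_sup_right ht)
    obtain ⟨𝔎, h𝔎⟩ : ∃ 𝔎 : Subgroup H, 𝔎 = ρ.ker ⊔ (T : Subgroup H) := ⟨_, rfl⟩
    rw [← h𝔎] at h1
    have hT𝔎 : (T : Subgroup H) ≤ 𝔎 := h𝔎 ▸ le_sup_right
    obtain ⟨T₁, hT₁⟩ : ∃ T₁ : Sylow p H,
        (T₁ : Subgroup H) = (T : Subgroup H).map (MulAut.conj r).toMonoidHom :=
      ⟨r • T, (Sylow.coe_subgroup_smul (g := r) (P := T)).trans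
        (Helper14.smul_eq_map_conj _ r)⟩
    have hT₁𝔎 : (T₁ : Subgroup H) ≤ 𝔎 := hT₁ ▸ h1
    obtain ⟨m, hm𝔎, hm⟩ := Helper14.sylow_sub_conj 𝔎 (T.subtype hT𝔎) (T₁.subtype hT₁𝔎)
    have e1 : ((T.subtype hT𝔎 : Sylow p ↥𝔎) : Subgroup ↥𝔎).map 𝔎.subtype =
        (T : Subgroup H) := by
      rw [Sylow.coe_subtype, Subgroup.map_subgroupOf_eq_of_le hT𝔎]
    have e2 : ((T₁.subtype hT₁𝔎 : Sylow p ↥𝔎) : Subgroup ↥𝔎).map 𝔎.subtype =
        (T₁ : Subgroup H) := by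
      rw [Sylow.coe_subtype, Subgroup.map_subgroupOf_eq_of_le hT₁𝔎]
    rw [e1, e2, hT₁] at hm
    have hm' : m ∈ ρ.ker ⊔ (T : Subgroup H) := h𝔎 ▸ hm𝔎
    obtain ⟨d, hd, t, ht, hdt⟩ : ∃ d ∈ ρ.ker, ∃ t ∈ (T : Subgroup H), d * t = m := by
      have h0 := Subgroup.normal_mul ρ.ker (T : Subgroup H)
      have hm2 : m ∈ ((ρ.ker ⊔ (T : Subgroup H) : Subgroup H) : Set H) := hm'
      rw [h0] at hm2
      exact Set.mem_mul.mp hm2
    have hmr : m⁻¹ * r ∈ N := by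
      rw [hN]
      apply Helper19.mem_normalizer_of_map_conj_eq
      rw [← Helper14.map_conj_map_conj, hm, Helper14.map_conj_inv_map_conj]
    have hn₁ : d⁻¹ * r ∈ N := by
      have h5 : d⁻¹ * r = t * (m⁻¹ * r) := by rw [← hdt]; group
      rw [h5]; exact N.mul_mem (hTN ht) hmr
    have hρn₁ : ρ (d⁻¹ * r) = ρ r := by
      rw [map_mul, map_inv, MonoidHom.mem_ker.mp hd, inv_one, one_mul]
    obtain ⟨a, b, hab, ha, hb, haz, hbz⟩ := exists_p_decomp p (d⁻¹ * r)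
    have hbN : b ∈ N := (Subgroup.zpowers_le.mpr hn₁) hbz
    have hρa : ρ a = 1 := by
      have hρaE : ρ a ∈ E := by
        obtain ⟨i, hi⟩ := Subgroup.mem_zpowers_iff.mp haz
        rw [← hi, map_zpow, hρn₁, hE]
        exact Subgroup.zpow_mem _ (Subgroup.mem_map_of_mem ρ hr) i
      obtain ⟨m', hm', hpow⟩ := hEel _ hρaE
      obtain ⟨e, he⟩ := ha
      exact Helper14.eq_one_of_pow_coprime _ m' e hm' hpow (by rw [← map_pow, he, map_one])
    have hρb : ρ b = ρ r := by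
      rw [← hρn₁, ← hab, map_mul, hρa, one_mul]
    have h6 : ((ρ r v * v⁻¹ : ↥V) : H) = b * ((v : H) * b⁻¹ * (v : H)⁻¹) := by
      rw [← hρb, Subgroup.coe_mul, hρ, Subgroup.coe_inv]
      group
    rw [h6, hY]
    apply Subgroup.mul_mem
    · exact mem_pResidualOf N hbN hb
    · apply mem_pResidualOf N
      · exact N.mul_mem (N.mul_mem (hTN (hVT v.2)) (N.inv_mem hbN)) (N.inv_mem (hTN (hVT v.2)))
      · rw [Helper6.orderOf_conj_eq', orderOf_inv]; exact hb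
  intro v₀ hv₀
  obtain ⟨v, hv⟩ : ∃ v : ↥V, v = ⟨v₀, hv₀⟩ := ⟨_, rfl⟩
  have hNC : ∏ c : ↥C₀, (c : MulAut ↥V) v = 1 := by
    apply hfixE
    intro e he
    refine hM _ (Subgroup.mem_top _) (fun c hcE hcT => ?_) e he
    have hcC : c ∈ C₀ := (hC₀ c).mpr ⟨hcE, hcT⟩
    rw [map_prod]
    exact Fintype.prod_bijective (fun x : ↥C₀ => (⟨c, hcC⟩ : ↥C₀) * x)
      (Group.mulLeft_bijective _) _ _ (fun x => rfl)
  have hsplit : ∏ c : ↥C₀, (c : MulAut ↥V) v =
      (∏ c : ↥C₀, ((c : MulAut ↥V) v * v⁻¹)) * v ^ Nat.card ↥C₀ := by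
    have h0 : ∀ c : ↥C₀, (c : MulAut ↥V) v = ((c : MulAut ↥V) v * v⁻¹) * v :=
      fun c => by rw [inv_mul_cancel_right]
    rw [Finset.prod_congr rfl (fun c _ => h0 c), Finset.prod_mul_distrib, Finset.prod_const,
      Finset.card_univ, Nat.card_eq_fintype_card]
  have hprod : ∏ c : ↥C₀, ((c : MulAut ↥V) v * v⁻¹) ∈ Y.subgroupOf V :=
    Subgroup.prod_mem _ (fun c _ => Subgroup.mem_subgroupOf.mpr (hkey c.1 c.2 v))
  have hpow : v ^ Nat.card ↥C₀ ∈ Y.subgroupOf V := by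
    have h1 : v ^ Nat.card ↥C₀ = (∏ c : ↥C₀, ((c : MulAut ↥V) v * v⁻¹))⁻¹ := by
      rw [hsplit] at hNC
      exact eq_inv_of_mul_eq_one_right hNC
    rw [h1]; exact Subgroup.inv_mem _ hprod
  have hv' : v ∈ Y.subgroupOf V :=
    mem_of_pow_mem_of_coprime _ v _ p hC₀cop hpow (by rw [hA]; exact Subgroup.one_mem _)
  have h7 := Subgroup.mem_subgroupOf.mp hv'
  rw [hv] at h7
  exact h7

end Cfsg.Agent.Helper23.HW
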