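import Mathlib
import Cfsg.Agent.Helper23.HW4
import Cfsg.Agent.Helper23.QP5
import Cfsg.Agent.S0075

/-!
helper23: Sylow subgroups of class `< p`: `T ∩ O^p(H) ≤ O^p(N_H(T))`.
-/

set_option autoImplicit false

namespace Cfsg.Agent.Helper23.HW

open Cfsg Cfsg.Agent.Helper10
open scoped commutatorElement

universe u

variable {p : ℕ} [Fact p.Prime]

theorem pResidualOf_pResidual {H : Type*} [Group H] :
    pResidualOf p (pResidual p H) = pResidual p H := by
  apply le_antisymm (pResidualOf_le _)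
  conv_lhs => unfold pResidual
  rw [Subgroup.closure_le]
  intro g hg
  exact mem_pResidualOf _ (Subgroup.subset_closure hg) hg

theorem pResidual_pResidual_top {H : Type*} [Group H] : pResidual p ↥(pResidual p H) = ⊤ := by
  have h := pResidualOf_pResidual (p := p) (H := H)
  unfold pResidualOf at h
  apply Subgroup.map_injective (pResidual p H).subtype_injective
  rw [h, ← MonoidHom.range_eq_map, Subgroup.range_subtype]

theorem map_pResidualOf_le {H : Type*} [Group H] (L : Subgroup H) (B : Subgroup ↥L) :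
    (pResidualOf p B).map L.subtype ≤ pResidualOf p (B.map L.subtype) := by
  rw [pResidualOf_eq_resC B, Subgroup.map_le_iff_le_comap]
  unfold Helper14.resC
  rw [Subgroup.closure_le]
  rintro x ⟨hxB, hxo⟩
  show (x : H) ∈ pResidualOf p (B.map L.subtype)
  exact mem_pResidualOf _ (Subgroup.mem_map_of_mem _ hxB)
    (by rw [Subgroup.orderOf_coe]; exact hxo)

theorem map_pResidual_le_hom {H K : Type*} [Group H] [Group K] (f : H →* K) :
    (pResidual p H).map f ≤ pResidual p K := by
  rw [Subgroup.map_le_iff_le_comap]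
  unfold pResidual
  rw [Subgroup.closure_le]
  intro g hg
  have hg' : Nat.Coprime (orderOf g) p := hg
  show f g ∈ Subgroup.closure _
  apply Subgroup.subset_closure
  show Nat.Coprime (orderOf (f g)) p
  exact Nat.Coprime.coprime_dvd_left (orderOf_map_dvd f g) hg'

/-- **Hyperfocal control**: if the `p`-subgroups of `H` have class `< p`, then
`T ∩ O^p(H) ≤ O^p(N_H(T))` for a Sylow `p`-subgroup `T`. -/
theorem hf_main : ∀ (n : ℕ) (H : Type u) [Group H] [Finite H], Nat.card H = n → ClsP p H →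
    ∀ T : Sylow p H, (T : Subgroup H) ⊓ pResidual p H ≤
      pResidualOf p (Subgroup.normalizer ((T : Subgroup H) : Set H)) := by
  classical
  intro n
  induction n using Nat.strong_induction_on with
  | _ n ih =>
  intro H _ _ hcard hcl T
  obtain ⟨R, hR⟩ : ∃ R : Subgroup H, R = pResidual p H := ⟨_, rfl⟩
  haveI hRn : R.Normal := hR ▸ Helper6.pResidual_normal p H
  rw [← hR]
  by_cases hRtop : R = ⊤
  · exact inf_le_left.trans (hf_top hcl T (hR ▸ hRtop))
  obtain ⟨N, hN⟩ : ∃ N : Subgroup H, N = Subgroup.normalizer ((T : Subgroup H) : Set H) :=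
    ⟨_, rfl⟩
  rw [← hN]
  obtain ⟨V, hV⟩ : ∃ V : Subgroup H, V = (T : Subgroup H) ⊓ R := ⟨_, rfl⟩
  rw [← hV]
  have hVT : V ≤ (T : Subgroup H) := hV ▸ inf_le_left
  have hVR : V ≤ R := hV ▸ inf_le_right
  have hRR : pResidual p ↥R = ⊤ := by subst hR; exact pResidual_pResidual_top
  have hcardR : Nat.card ↥R < n := by rw [← hcard]; exact card_lt_of_ne_top hRtop
  obtain ⟨VR, hVR'⟩ : ∃ VR : Sylow p ↥R, (VR : Subgroup ↥R).map R.subtype = V :=
    ⟨Helper19.sylowInf T R, by rw [Helper19.sylowInf_map, hV]⟩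
  have hIH_R := ih _ hcardR ↥R rfl (hcl.subgroup R) VR
  rw [hRR, inf_top_eq] at hIH_R
  obtain ⟨M, hM⟩ : ∃ M : Subgroup H, M = Subgroup.normalizer ((V : Subgroup H) : Set H) :=
    ⟨_, rfl⟩
  have hVM : V ≤ pResidualOf p M := by
    rw [← hVR']
    refine (Subgroup.map_mono hIH_R).trans
      ((map_pResidualOf_le R _).trans (pResidualOf_mono ?_))
    rw [hM, ← hVR']
    exact Subgroup.le_normalizer_map R.subtype
  have hTM : (T : Subgroup H) ≤ M := by
    rw [hM, hV]; exact Helper19.le_normalizer_inf_normal (T : Subgroup H) R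
  have hNM : N ≤ M := by
    intro x hx
    rw [hN, Subgroup.mem_normalizer_iff] at hx
    rw [hM, Subgroup.mem_normalizer_iff]
    intro h
    rw [hV, Subgroup.mem_inf, Subgroup.mem_inf, ← hx h]
    constructor
    · rintro ⟨h1, h2⟩; exact ⟨h1, hRn.conj_mem h h2 x⟩
    · rintro ⟨h1, h2⟩
      refine ⟨h1, ?_⟩
      have h3 := hRn.conj_mem _ h2 x⁻¹
      have h4 : x⁻¹ * (x * h * x⁻¹) * x⁻¹⁻¹ = h := by group
      rwa [h4] at h3
  by_cases hMtop : M = ⊤
  swap
  · have hcardM : Nat.card ↥M < n := by rw [← hcard]; exact card_lt_of_ne_top hMtop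
    have hIH_M := ih _ hcardM ↥M rfl (hcl.subgroup M) (T.subtype hTM)
    intro v hv
    have hv1 := hVM hv
    unfold pResidualOf at hv1
    obtain ⟨x, hx, hxv⟩ := hv1
    have hxv' : (x : H) = v := hxv
    have hxT : x ∈ ((T.subtype hTM : Sylow p ↥M) : Subgroup ↥M) := by
      rw [Sylow.coe_subtype, Subgroup.mem_subgroupOf, hxv']
      exact hVT hv
    have h1 := hIH_M ⟨hxT, hx⟩
    have h2 : (x : H) ∈ (pResidualOf p (Subgroup.normalizer
        (((T.subtype hTM : Sylow p ↥M) : Subgroup ↥M) : Set ↥M))).map M.subtype :=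
      Subgroup.mem_map_of_mem M.subtype h1
    have h3 := (map_pResidualOf_le M _) h2
    have h4 : (Subgroup.normalizer
        (((T.subtype hTM : Sylow p ↥M) : Subgroup ↥M) : Set ↥M)).map M.subtype ≤ N := by
      refine (Subgroup.le_normalizer_map M.subtype).trans ?_
      rw [Sylow.coe_subtype, Subgroup.map_subgroupOf_eq_of_le hTM, hN]
    have h5 := pResidualOf_mono (p := p) h4 h3
    rw [hxv'] at h5
    exact h5
  · haveI hVn : V.Normal := Subgroup.normalizer_eq_top_iff.mp (hM ▸ hMtop)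
    obtain ⟨Φ, hΦ⟩ : ∃ Φ : Subgroup H, Φ = (frattini ↥V).map V.subtype := ⟨_, rfl⟩
    haveI hΦn : Φ.Normal := hΦ ▸ ConjAct.normal_of_characteristic_of_normal
    have hΦV : Φ ≤ V := hΦ ▸ Subgroup.map_subtype_le _
    by_cases hΦbot : Φ = ⊥
    · have hfr : frattini ↥V = ⊥ := by
        rw [hΦ] at hΦbot
        exact (Subgroup.map_eq_bot_iff_of_injective _ V.subtype_injective).mp hΦbot
      have hVp : IsPGroup p ↥V := T.2.to_le hVT
      have hVc : ∀ a ∈ V, ∀ b ∈ V, a * b = b * a := by
        intro a ha b hb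
        have h1 := QP.commutator_mem_frattini hVp (⟨a, ha⟩ : ↥V) ⟨b, hb⟩
        rw [hfr, Subgroup.mem_bot, commutatorElement_eq_one_iff_commute] at h1
        exact congrArg Subtype.val h1.eq
      have hVe : ∀ a ∈ V, a ^ p = 1 := by
        intro a ha
        have h1 := QP.pow_mem_frattini hVp (⟨a, ha⟩ : ↥V)
        rw [hfr, Subgroup.mem_bot] at h1
        exact congrArg Subtype.val h1
      have hmemV : ∀ a : ↥R, a ∈ (VR : Subgroup ↥R) → (a : H) ∈ V := fun a ha => by
        rw [← hVR']; exact Subgroup.mem_map_of_mem R.subtype ha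
      have hVcomm : V ≤ ⁅V, R⁆ := by
        have hcomm : IsMulCommutative ↥VR :=
          ⟨⟨fun a b => Subtype.ext (Subtype.ext
            (hVc _ (hmemV _ a.2) _ (hmemV _ b.2)))⟩⟩
        have h1 := Cfsg.Agent.S0075.result VR hcomm
        rw [hRR, inf_top_eq] at h1
        have h2 : (VR : Subgroup ↥R) ≤ ⁅(VR : Subgroup ↥R), (⊤ : Subgroup ↥R)⁆ :=
          h1.le.trans (Subgroup.commutator_mono le_rfl le_top)
        have h3 := Subgroup.map_mono (f := R.subtype) h2
        rw [Subgroup.map_commutator, hVR', ← MonoidHom.range_eq_map, Subgroup.range_subtype]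
          at h3
        exact h3
      rw [hN]
      exact base_elem T (hcl T T.2) R V hV hVc hVe hVcomm
    · have hcardQ : Nat.card (H ⧸ Φ) < n := by
        rw [← hcard]; exact card_quot_lt_of_ne_bot hΦbot
      obtain ⟨π, hπ⟩ : ∃ π : H →* H ⧸ Φ, π = QuotientGroup.mk' Φ := ⟨_, rfl⟩
      have hπs : Function.Surjective π := hπ ▸ QuotientGroup.mk'_surjective Φ
      have hπk : π.ker = Φ := hπ ▸ QuotientGroup.ker_mk' Φ
      obtain ⟨Tb, hTb⟩ : ∃ Tb : Sylow p (H ⧸ Φ),
          (Tb : Subgroup (H ⧸ Φ)) = (T : Subgroup H).map π :=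
        ⟨T.mapSurjective hπs, Sylow.coe_mapSurjective hπs T⟩
      have hIH_Q := ih _ hcardQ (H ⧸ Φ) rfl (hcl.quotient Φ) Tb
      obtain ⟨Y, hY⟩ : ∃ Y : Subgroup H, Y = pResidualOf p N := ⟨_, rfl⟩
      rw [← hY]
      have hNb : pResidualOf p (Subgroup.normalizer
          ((Tb : Subgroup (H ⧸ Φ)) : Set (H ⧸ Φ))) ≤ Y.map π := by
        rw [pResidualOf_eq_resC]
        unfold Helper14.resC
        rw [Subgroup.closure_le]
        rintro xb ⟨hxN, hxo⟩
        obtain ⟨x, rfl⟩ := hπs xb
        have hxN' : x ∈ N := by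
          have h1 : x ∈ (Subgroup.normalizer
              ((Tb : Subgroup (H ⧸ Φ)) : Set (H ⧸ Φ))).comap π := hxN
          rw [Subgroup.comap_normalizer_eq_of_surjective _ hπs, hTb, Subgroup.comap_map_eq,
            hπk, sup_eq_left.mpr (hΦV.trans hVT)] at h1
          rw [hN]; exact h1
        obtain ⟨a, b, hab, ha, hb, haz, hbz⟩ := exists_p_decomp p x
        have hbN : b ∈ N := (Subgroup.zpowers_le.mpr hxN') hbz
        have hπa : π a = 1 := by
          obtain ⟨i, hi⟩ := Subgroup.mem_zpowers_iff.mp haz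
          obtain ⟨e, he⟩ := ha
          have h1 : (π a) ^ (orderOf (π x)) = 1 := by
            rw [← hi, map_zpow, ← zpow_natCast, ← zpow_mul, mul_comm, zpow_mul, zpow_natCast,
              pow_orderOf_eq_one, one_zpow]
          exact Helper14.eq_one_of_pow_coprime _ _ e hxo h1 (by rw [← map_pow, he, map_one])
        show π x ∈ Y.map π
        rw [← hab, map_mul, hπa, one_mul]
        exact Subgroup.mem_map_of_mem π (by rw [hY]; exact mem_pResidualOf N hbN hb)
      have hVYΦ : ∀ v ∈ V, ∃ y ∈ Y, ∃ f ∈ Φ, v = y * f := by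
        intro v hv
        have h1 : π v ∈ (Tb : Subgroup (H ⧸ Φ)) ⊓ pResidual p (H ⧸ Φ) := by
          refine ⟨?_, ?_⟩
          · rw [hTb]; exact Subgroup.mem_map_of_mem π (hVT hv)
          · exact map_pResidual_le_hom π
              (Subgroup.mem_map_of_mem π (by rw [← hR]; exact hVR hv))
        obtain ⟨y, hy, hyv⟩ := hNb (hIH_Q h1)
        refine ⟨y, hy, y⁻¹ * v, ?_, by group⟩
        rw [← hπk, MonoidHom.mem_ker, map_mul, map_inv, hyv, inv_mul_cancel]
      have hK : Y.subgroupOf V ⊔ frattini ↥V = ⊤ := by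
        rw [eq_top_iff]
        intro x _
        obtain ⟨y, hy, f, hf, hxyf⟩ := hVYΦ x x.2
        have hfV : f ∈ V := hΦV hf
        rw [hΦ] at hf
        obtain ⟨f', hf', hff⟩ := hf
        have hff' : (f' : H) = f := hff
        have hyV : y ∈ V := by
          have h1 : y = (x : H) * f⁻¹ := by rw [hxyf]; group
          rw [h1]; exact V.mul_mem x.2 (V.inv_mem hfV)
        have h2 : x = (⟨y, hyV⟩ : ↥V) * f' := by
          apply Subtype.ext
          show (x : H) = y * (f' : H)
          rw [hxyf, hff']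
        rw [h2]
        exact Subgroup.mul_mem_sup (Subgroup.mem_subgroupOf.mpr hy) hf'
      have hK' := frattini_nongenerating hK
      intro v hv
      have h1 : (⟨v, hv⟩ : ↥V) ∈ Y.subgroupOf V := by rw [hK']; exact Subgroup.mem_top _
      exact Subgroup.mem_subgroupOf.mp h1

end Cfsg.Agent.Helper23.HW
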