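import Mathlib
import Cfsg.Agent.Helper10.QdData
import Cfsg.Agent.Helper10.KStable
import Cfsg.Agent.Helper23.Dk15
import Cfsg.Agent.Helper23.Dk20

/-!
# Automizers without `SL₂(p)`-sections: stability of all sections and control by `K_∞`

* `qdData_lift` : Qd(p)-data of a quotient lift to the group.
* `sl2_section_of_qdData` : Qd(p)-data `(V, e)` give an `SL₂(p)`-section of `N(V)/C(V)`.
* `nps_sections_of_hfree` : if no `N(Q)/C(Q)` (`Q` a `p`-subgroup) has a section `SL₂(p)`,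
  every section is `p`-stable in the normalizer form.
* `kinf_ctl` : the lower K-infinity subgroup of a *given* Sylow subgroup controls strong fusion.
-/

set_option autoImplicit false

namespace Cfsg.Agent.Helper23.Cr

open Cfsg Cfsg.Agent.Helper10
open scoped Pointwise

universe u

variable {p : ℕ} [Fact p.Prime]

/-- Qd(p)-data lift from a quotient. -/
theorem qdData_lift {X : Type*} [Group X] [Finite X] (R : Subgroup X) [R.Normal]
    (h : QdData p (X ⧸ R)) : QdData p X := by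
  classical
  obtain ⟨Vb, eb, hVbp, hadd, hsurj, hact⟩ := h
  obtain ⟨π, hπ⟩ : ∃ π : X →* X ⧸ R, π = QuotientGroup.mk' R := ⟨_, rfl⟩
  have hπs : Function.Surjective π := by rw [hπ]; exact QuotientGroup.mk'_surjective R
  obtain ⟨S⟩ : Nonempty (Sylow p ↥(Vb.comap π)) := Sylow.nonempty
  obtain ⟨V, hVdef⟩ : ∃ V : Subgroup X,
      V = (S : Subgroup ↥(Vb.comap π)).map (Vb.comap π).subtype := ⟨_, rfl⟩
  have hVp : IsPGroup p ↥V := by rw [hVdef]; exact S.2.map _
  have hVL : V ≤ Vb.comap π := by rw [hVdef]; exact Subgroup.map_subtype_le _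
  have hfV : ∀ v ∈ V, π v ∈ Vb := fun v hv => hVL hv
  have hVsurj : ∀ vb ∈ Vb, ∃ v ∈ V, π v = vb := by
    intro vb hvb
    have hf' : Function.Surjective (π.subgroupComap Vb) :=
      π.subgroupComap_surjective_of_surjective Vb hπs
    have h1 : (⊤ : Subgroup ↥Vb) = ((S.mapSurjective hf' : Sylow p ↥Vb) : Subgroup ↥Vb) :=
      (S.mapSurjective hf').is_maximal' (hVbp.to_subgroup ⊤) le_top
    have h2 : (⟨vb, hvb⟩ : ↥Vb) ∈ ((S.mapSurjective hf' : Sylow p ↥Vb) : Subgroup ↥Vb) := by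
      rw [← h1]; exact Subgroup.mem_top _
    rw [Sylow.coe_mapSurjective] at h2
    obtain ⟨s, hs, hsv⟩ := h2
    refine ⟨(s : X), ?_, ?_⟩
    · rw [hVdef]; exact ⟨s, hs, rfl⟩
    · exact congrArg Subtype.val hsv
  refine ⟨V, fun x => eb (π x), hVp, ?_, ?_, ?_⟩
  · intro v hv w hw
    show eb (π (v * w)) = eb (π v) + eb (π w)
    rw [map_mul]; exact hadd _ (hfV v hv) _ (hfV w hw)
  · intro t
    obtain ⟨vb, hvb, rfl⟩ := hsurj t
    obtain ⟨v, hv, rfl⟩ := hVsurj vb hvb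
    exact ⟨v, hv, rfl⟩
  · intro A
    obtain ⟨hb, -, hhb⟩ := hact A
    obtain ⟨h₀, rfl⟩ := hπs hb
    have hconjL : ∀ v ∈ V, h₀ * v * h₀⁻¹ ∈ Vb.comap π := by
      intro v hv
      rw [Subgroup.mem_comap, map_mul, map_mul, map_inv]
      exact (hhb _ (hfV v hv)).1
    have hQp : IsPGroup p ↥((V.map (MulAut.conj h₀).toMonoidHom).subgroupOf (Vb.comap π)) :=
      (hVp.map _).comap_subtype
    obtain ⟨S', hS'⟩ := hQp.exists_le_sylow
    obtain ⟨r, hr⟩ := MulAction.exists_smul_eq ↥(Vb.comap π) S' S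
    refine ⟨(r : X) * h₀, Subgroup.mem_top _, ?_⟩
    intro v hv
    have h1 : (⟨h₀ * v * h₀⁻¹, hconjL v hv⟩ : ↥(Vb.comap π)) ∈ (S' : Subgroup ↥(Vb.comap π)) := by
      apply hS'
      rw [Subgroup.mem_subgroupOf]
      exact ⟨v, hv, rfl⟩
    have h2 : MulAut.conj r • (⟨h₀ * v * h₀⁻¹, hconjL v hv⟩ : ↥(Vb.comap π)) ∈
        MulAut.conj r • (S' : Subgroup ↥(Vb.comap π)) :=
      Subgroup.smul_mem_pointwise_smul _ _ _ h1
    have h3 : ((r • S' : Sylow p ↥(Vb.comap π)) : Subgroup ↥(Vb.comap π)) =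
        MulAut.conj r • (S' : Subgroup ↥(Vb.comap π)) := Sylow.coe_subgroup_smul
    rw [← h3, hr] at h2
    have h4 : (r : X) * h₀ * v * ((r : X) * h₀)⁻¹ ∈ V := by
      rw [hVdef]
      refine ⟨_, h2, ?_⟩
      show (r : X) * (h₀ * v * h₀⁻¹) * (r : X)⁻¹ = _
      group
    refine ⟨h4, ?_⟩
    show eb (π ((r : X) * h₀ * v * ((r : X) * h₀)⁻¹)) = _
    have h5 : π ((r : X) * h₀ * v * ((r : X) * h₀)⁻¹) =
        π r * (π h₀ * π v * (π h₀)⁻¹) * (π r)⁻¹ := by
      simp only [map_mul, map_inv, mul_inv_rev]; group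
    rw [h5, e_conj hadd (r.2 : π r ∈ Vb) (hhb _ (hfV v hv)).1]
    exact (hhb _ (hfV v hv)).2

/-- The elements of `N(V)` acting on `V` (read through `e`) by a matrix of `SL₂(p)`. -/
def actSub {G : Type*} [Group G] (p : ℕ) (V : Subgroup G) (e : G → Fin 2 → ZMod p) :
    Subgroup G where
  carrier := {h | h ∈ Subgroup.normalizer (V : Set G) ∧
    ∃ M : Matrix.SpecialLinearGroup (Fin 2) (ZMod p), ∀ v ∈ V,
      e (h * v * h⁻¹) = (M : Matrix (Fin 2) (Fin 2) (ZMod p)).mulVec (e v)}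
  mul_mem' := by
    rintro a b ⟨ha, Ma, hMa⟩ ⟨hb, Mb, hMb⟩
    refine ⟨Subgroup.mul_mem _ ha hb, Ma * Mb, fun v hv => ?_⟩
    have hbv : b * v * b⁻¹ ∈ V := (Subgroup.mem_normalizer_iff.mp hb v).mp hv
    have e1 : a * b * v * (a * b)⁻¹ = a * (b * v * b⁻¹) * a⁻¹ := by group
    rw [e1, hMa _ hbv, hMb v hv, Matrix.mulVec_mulVec, Matrix.SpecialLinearGroup.coe_mul]
  one_mem' := ⟨Subgroup.one_mem _, 1, fun v hv => by simp⟩
  inv_mem' := by
    rintro a ⟨ha, Ma, hMa⟩
    refine ⟨Subgroup.inv_mem _ ha, Ma⁻¹, fun v hv => ?_⟩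
    have hav : a⁻¹ * v * a ∈ V := by
      have := (Subgroup.mem_normalizer_iff.mp (Subgroup.inv_mem _ ha) v).mp hv
      rwa [inv_inv] at this
    have h1 := hMa _ hav
    have e1 : a * (a⁻¹ * v * a) * a⁻¹ = v := by group
    rw [e1] at h1
    rw [inv_inv, h1, Matrix.mulVec_mulVec, ← Matrix.SpecialLinearGroup.coe_mul, inv_mul_cancel,
      Matrix.SpecialLinearGroup.coe_one, Matrix.one_mulVec]

/-- Qd(p)-data `(V, e)` give a section `SL₂(p)` of `N(V)/C(V)`. -/
theorem sl2_section_of_qdData {G : Type*} [Group G] [Finite G] (h : QdData p G) :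
    ∃ Q : Subgroup G, IsPGroup p ↥Q ∧ ∃ (H K : Subgroup G) (_ : (K.subgroupOf H).Normal),
      Subgroup.centralizer (Q : Set G) ≤ K ∧ K ≤ H ∧ H ≤ Subgroup.normalizer (Q : Set G) ∧
      Nonempty ((↥H ⧸ K.subgroupOf H) ≃* Matrix.SpecialLinearGroup (Fin 2) (ZMod p)) := by
  classical
  obtain ⟨V, e, hVp, hadd, hsurj, hact⟩ := h
  have huniq : ∀ (M M' : Matrix.SpecialLinearGroup (Fin 2) (ZMod p)) (h : G),
      (∀ v ∈ V, e (h * v * h⁻¹) = (M : Matrix (Fin 2) (Fin 2) (ZMod p)).mulVec (e v)) →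
      (∀ v ∈ V, e (h * v * h⁻¹) = (M' : Matrix (Fin 2) (Fin 2) (ZMod p)).mulVec (e v)) →
      M = M' := by
    intro M M' h h1 h2
    apply Subtype.ext
    apply Matrix.mulVec_injective
    funext t
    obtain ⟨v, hv, rfl⟩ := hsurj t
    rw [← h1 v hv, ← h2 v hv]
  have hex : ∀ h : ↥(actSub p V e), ∃ M : Matrix.SpecialLinearGroup (Fin 2) (ZMod p),
      ∀ v ∈ V, e ((h : G) * v * (h : G)⁻¹) =
        (M : Matrix (Fin 2) (Fin 2) (ZMod p)).mulVec (e v) := fun h => h.2.2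
  choose f hf using hex
  obtain ⟨F, hF⟩ : ∃ F : ↥(actSub p V e) →* Matrix.SpecialLinearGroup (Fin 2) (ZMod p),
      ∀ x, F x = f x := by
    refine ⟨MonoidHom.mk' f ?_, fun x => rfl⟩
    intro a b
    apply huniq _ _ ((a * b : ↥(actSub p V e)) : G) (hf (a * b))
    intro v hv
    have hbv : (b : G) * v * (b : G)⁻¹ ∈ V := (Subgroup.mem_normalizer_iff.mp b.2.1 v).mp hv
    have e1 : ((a * b : ↥(actSub p V e)) : G) * v * ((a * b : ↥(actSub p V e)) : G)⁻¹ =
        (a : G) * ((b : G) * v * (b : G)⁻¹) * (a : G)⁻¹ := by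
      simp only [Subgroup.coe_mul]; group
    rw [e1, hf a _ hbv, hf b v hv, Matrix.mulVec_mulVec, Matrix.SpecialLinearGroup.coe_mul]
  have hFs : Function.Surjective F := by
    intro M
    obtain ⟨h, -, hh⟩ := hact M
    have hn : h ∈ Subgroup.normalizer (V : Set G) :=
      Cfsg.Agent.Helper23.Dk.mem_normalizer_of_conj_mem V h (fun v hv => (hh v hv).1)
    refine ⟨⟨h, hn, M, fun v hv => (hh v hv).2⟩, ?_⟩
    rw [hF]
    exact huniq _ _ h (hf ⟨h, hn, M, fun v hv => (hh v hv).2⟩) (fun v hv => (hh v hv).2)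
  have hEq : (F.ker.map (actSub p V e).subtype).subgroupOf (actSub p V e) = F.ker :=
    Subgroup.comap_map_eq_self_of_injective (Subgroup.subtype_injective _) F.ker
  have hn : ((F.ker.map (actSub p V e).subtype).subgroupOf (actSub p V e)).Normal := by
    rw [hEq]; infer_instance
  refine ⟨V, hVp, actSub p V e, F.ker.map (actSub p V e).subtype, hn, ?_,
    Subgroup.map_subtype_le _, fun h hh => hh.1, ?_⟩
  · intro c hc
    have hcn : c ∈ Subgroup.normalizer (V : Set G) := Subgroup.centralizer_le_normalizer _ hc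
    have hcv : ∀ v ∈ V, c * v * c⁻¹ = v := by
      intro v hv
      rw [Subgroup.mem_centralizer_iff] at hc
      rw [← hc v hv, mul_inv_cancel_right]
    have hc1 : ∀ v ∈ V, e (c * v * c⁻¹) =
        ((1 : Matrix.SpecialLinearGroup (Fin 2) (ZMod p)) :
          Matrix (Fin 2) (Fin 2) (ZMod p)).mulVec (e v) := by
      intro v hv
      rw [hcv v hv, Matrix.SpecialLinearGroup.coe_one, Matrix.one_mulVec]
    refine ⟨⟨c, hcn, 1, hc1⟩, ?_, rfl⟩
    rw [SetLike.mem_coe, MonoidHom.mem_ker, hF]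
    exact huniq _ _ c (hf ⟨c, hcn, 1, hc1⟩) hc1
  · exact ⟨(QuotientGroup.quotientMulEquivOfEq hEq).trans
      (QuotientGroup.quotientKerEquivOfSurjective F hFs)⟩

/-- If no automizer `N(Q)/C(Q)` of a `p`-subgroup has a section `SL₂(p)` (`p` odd), all sections
are `p`-stable in the normalizer form. -/
theorem nps_sections_of_hfree {G : Type*} [Group G] [Finite G] (hp : p ≠ 2)
    (hfree : ∀ Q : Subgroup G, IsPGroup p ↥Q →
      ¬ ∃ (H K : Subgroup G) (_ : (K.subgroupOf H).Normal),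
        Subgroup.centralizer (Q : Set G) ≤ K ∧ K ≤ H ∧ H ≤ Subgroup.normalizer (Q : Set G) ∧
        Nonempty ((↥H ⧸ K.subgroupOf H) ≃* Matrix.SpecialLinearGroup (Fin 2) (ZMod p)))
    (K R : Subgroup G) [hR : (R.subgroupOf K).Normal] :
    Cfsg.IsNormalizerPStable p (↥K ⧸ R.subgroupOf K) := by
  intro P hP g hg hq
  refine Cfsg.Agent.Helper23.Dk.normalizer_stable_of_qd hp P hP ?_ g hg hq
  intro hd
  have h1 : QdData p ↥K := qdData_lift _ hd
  have h2 : QdData p G := QdData.of_subgroup K h1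
  obtain ⟨Q, hQ, hex⟩ := sl2_section_of_qdData h2
  exact hfree Q hQ hex

/-- With all sections `p`-stable (`p` odd), the normalizer of the lower K-infinity subgroup of a
given Sylow `p`-subgroup controls strong fusion in it. -/
theorem kinf_ctl {G : Type u} [Group G] [Finite G]
    (hst : ∀ (K R : Subgroup G) [hR : (R.subgroupOf K).Normal],
      Cfsg.IsNormalizerPStable p (↥K ⧸ R.subgroupOf K))
    (P : Sylow p G) (A : Set G) (g : G) (hA : A ⊆ ((P : Subgroup G) : Set G))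
    (hgA : (fun a => g * a * g⁻¹) '' A ⊆ ((P : Subgroup G) : Set G)) :
    ∃ c ∈ Subgroup.normalizer (inducedFunctor Cfsg.kInfLower (P : Subgroup G) : Set G),
      ∀ a ∈ A, c * a * c⁻¹ = g * a * g⁻¹ := by
  classical
  have hW : IsCharPFunctor.{u} p (fun (Q : Type u) [Group Q] => Cfsg.kInfLower Q) :=
    isCharPFunctor_kInfLower
  have h𝓦 : ∀ W' ∈ ({fun (Q : Type u) [Group Q] => Cfsg.kInfLower Q} :
      Set (∀ (Q : Type u) [Group Q], Subgroup Q)), IsCharPFunctor.{u} p W' := by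
    intro W' hW'
    rw [Set.mem_singleton_iff] at hW'
    rw [hW']; exact hW
  have hG : ∀ (Y : Type u) [Group Y], IsSec G Y → QStab p Y := qstab_of_sections hst
  have main := ctl_main' h𝓦
    (fun (H : Type u) [Group H] => ∀ (Y : Type u) [Group Y], IsSec H Y → QStab p Y)
    (fun H _ _ h L Y _ hY => h Y (((IsSec.refl H).sub L).trans hY))
    (fun H _ _ h M _ Y _ hY => h Y (((IsSec.refl H).quot M).trans hY)) ?_ G hG
  · obtain ⟨c, hc, e⟩ := main P A g hA hgA
    refine ⟨c, ?_, e⟩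
    apply hc.mem_subgroup
    intro y hy
    rw [mem_stp] at hy
    obtain ⟨W', hW', -, hy2⟩ := hy
    rw [Set.mem_singleton_iff] at hW'
    rw [hW'] at hy2
    exact hy2
  · intro H _ _ hH hcons T A g hA hgA
    have hn := (kinf_normal_of_qstab T hcons hH).1
    have hg : g ∈ stepSet (fam {fun (Q : Type u) [Group Q] => Cfsg.kInfLower Q} _) ⊤
        (T : Subgroup H) := by
      rw [mem_stp]
      refine ⟨fun (Q : Type u) [Group Q] => Cfsg.kInfLower Q, rfl, Subgroup.mem_top _, ?_⟩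
      rw [Subgroup.normalizer_eq_top_iff.mpr hn]; exact Subgroup.mem_top _
    exact Good.of_ch (Ch.single hg hA hgA)

end Cfsg.Agent.Helper23.Cr
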