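import Mathlib
import Cfsg.Agent.Helper9.RelRed2
import Cfsg.Agent.Helper10.SylowAux
import Cfsg.Agent.Helper10.PPrimeP
import Cfsg.Agent.Helper23.Dk20
import Cfsg.Agent.Helper23.Dk24

/-!
# The least centric-radical subgroup from a centric normal subgroup controlling fusion

`exists_least_cr`: if `K ≤ P` (`P` a Sylow `p`-subgroup) is normalized by `P`, contains `C_P(K)`
and `N_G(K)` controls strong fusion in `P`, then there is a centric-radical `Q ≤ P` contained in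
every centric-radical subgroup, normal in `P`, with `N_G(Q)` controlling strong fusion in `P`.
-/

set_option autoImplicit false

namespace Cfsg.Agent.Helper23.Cr

open scoped Pointwise
open scoped commutatorElement

variable {G : Type*} [Group G]

/-- `N_G(Q)` controls strong fusion in `P`, in the product form. -/
def CtlS (P Q : Subgroup G) : Prop :=
  ∀ A : Subgroup G, A ≤ P → ∀ g : G, A.map (MulAut.conj g).toMonoidHom ≤ P →
    ∃ h ∈ Subgroup.normalizer (Q : Set G), ∃ c ∈ Subgroup.centralizer (A : Set G), g = h * c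

/-- Centric-radical subgroups of `P`. -/
def IsCR (p : ℕ) (P Q : Subgroup G) : Prop :=
  Q ≤ P ∧
    (∃ R : Sylow p ↥(Subgroup.centralizer (Q : Set G)),
      (R : Subgroup ↥(Subgroup.centralizer (Q : Set G))).map
        (Subgroup.centralizer (Q : Set G)).subtype = Q ⊓ Subgroup.centralizer (Q : Set G)) ∧
    ∀ X : Subgroup G, X ≤ Subgroup.normalizer (Q : Set G) →
      (∀ n ∈ Subgroup.normalizer (Q : Set G), X.map (MulAut.conj n).toMonoidHom = X) →
      Q ⊔ Subgroup.centralizer (Q : Set G) ≤ X →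
      (∃ k : ℕ, (Q ⊔ Subgroup.centralizer (Q : Set G)).relIndex X = p ^ k) →
      X = Q ⊔ Subgroup.centralizer (Q : Set G)

theorem conj_mem_centralizer {Q : Subgroup G} {n x : G}
    (hn : n ∈ Subgroup.normalizer (Q : Set G))
    (hx : x ∈ Subgroup.centralizer (Q : Set G)) :
    n * x * n⁻¹ ∈ Subgroup.centralizer (Q : Set G) := by
  rw [Subgroup.mem_centralizer_iff] at hx ⊢
  intro q hq
  have hq' : n⁻¹ * q * n ∈ Q := by
    have := (Subgroup.mem_normalizer_iff.mp (Subgroup.inv_mem _ hn) q).mp hq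
    rwa [inv_inv] at this
  have h1 := hx _ hq'
  calc q * (n * x * n⁻¹) = n * ((n⁻¹ * q * n) * x) * n⁻¹ := by group
    _ = n * (x * (n⁻¹ * q * n)) * n⁻¹ := by rw [h1]
    _ = n * x * n⁻¹ * q := by group

theorem map_conj_eq_of_forall {N X : Subgroup G} (h : ∀ n ∈ N, ∀ x ∈ X, n * x * n⁻¹ ∈ X) :
    ∀ n ∈ N, X.map (MulAut.conj n).toMonoidHom = X := by
  intro n hn
  apply le_antisymm
  · rintro _ ⟨x, hx, rfl⟩; exact h n hn x hx
  · intro x hx
    refine ⟨n⁻¹ * x * n, ?_, ?_⟩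
    · have := h n⁻¹ (N.inv_mem hn) x hx; rwa [inv_inv] at this
    · show n * (n⁻¹ * x * n) * n⁻¹ = x; group

variable [Finite G] {p : ℕ} [Fact p.Prime]

/-- A subgroup `M` of `p`-power index in `X` containing the Sylow `p`-subgroup `P ∩ X` of `X`
contains `X`. -/
theorem le_of_relIndex_pow (P : Sylow p G) (X M : Subgroup G)
    (hPX : ∀ t ∈ (P : Subgroup G), ∀ x ∈ X, t * x * t⁻¹ ∈ X)
    (hPM : (P : Subgroup G) ⊓ X ≤ M) (k : ℕ) (hidx : M.relIndex X = p ^ k) : X ≤ M := by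
  obtain ⟨S, hS⟩ := Cfsg.Agent.Helper9.exists_sylow_inf_of_normalizes P X hPX
  have hle : (S : Subgroup ↥X) ≤ M.subgroupOf X := by
    rw [hS]
    intro x hx
    rw [Subgroup.mem_subgroupOf] at hx ⊢
    exact hPM hx
  have h1 : (M.subgroupOf X).index ∣ (S : Subgroup ↥X).index := Subgroup.index_dvd_of_le hle
  have h2 : (M.subgroupOf X).index = p ^ k := hidx
  have hk : k = 0 := by
    by_contra hk
    apply S.not_dvd_index
    exact dvd_trans (by rw [h2]; exact dvd_pow_self p hk) h1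
  rw [hk, pow_zero, Subgroup.index_eq_one, Subgroup.subgroupOf_eq_top] at h2
  exact h2

/-- An element of `C_G(Q)` conjugating `A ≥ Q` into `P` is a product of an element of `Q` and an
element of `C_G(A)`. -/
theorem cent_decomp (P : Sylow p G) (Q : Subgroup G)
    (hPN : (P : Subgroup G) ≤ Subgroup.normalizer (Q : Set G))
    (hcen : (P : Subgroup G) ⊓ Subgroup.centralizer (Q : Set G) ≤ Q)
    (A : Subgroup G) (hQA : Q ≤ A) (hAP : A ≤ P) (c : G)
    (hc : c ∈ Subgroup.centralizer (Q : Set G))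
    (hcA : ∀ a ∈ A, c * a * c⁻¹ ∈ (P : Subgroup G)) :
    ∃ z ∈ Q, ∃ k ∈ Subgroup.centralizer (A : Set G), c = z * k := by
  have hp : p.Prime := Fact.out
  obtain ⟨C, hC⟩ : ∃ C : Subgroup G, C = Subgroup.centralizer (Q : Set G) := ⟨_, rfl⟩
  rw [← hC] at hc hcen
  have hnC : ∀ a ∈ (P : Subgroup G), ∀ x ∈ C, a * x * a⁻¹ ∈ C := by
    intro a ha x hx
    rw [hC] at hx ⊢
    exact conj_mem_centralizer (hPN ha) hx
  have hCQ : ∀ x ∈ C, ∀ q ∈ Q, q * x = x * q := by
    intro x hx q hq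
    rw [hC, Subgroup.mem_centralizer_iff] at hx
    exact hx q hq
  have hmove : ∀ y ∈ C, ∀ a ∈ A, y * a * y⁻¹ ∈ (P : Subgroup G) → y * a * y⁻¹ * a⁻¹ ∈ Q := by
    intro y hy a ha hya
    apply hcen
    refine ⟨Subgroup.mul_mem _ hya (Subgroup.inv_mem _ (hAP ha)), ?_⟩
    have h1 : y * a * y⁻¹ * a⁻¹ = y * (a * y⁻¹ * a⁻¹) := by group
    rw [h1]
    exact C.mul_mem hy (hnC a (hAP ha) _ (C.inv_mem hy))
  have hcA' : ∀ a ∈ A, c * a * c⁻¹ ∈ A := by
    intro a ha
    have h1 := hQA (hmove c hc a ha (hcA a ha))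
    have h2 := A.mul_mem h1 ha
    rwa [inv_mul_cancel_right] at h2
  have hpowA : ∀ j : ℕ, ∀ a ∈ A, c ^ j * a * (c ^ j)⁻¹ ∈ A := by
    intro j
    induction j with
    | zero => intro a ha; simpa using ha
    | succ j ih =>
      intro a ha
      have h1 := ih _ (hcA' a ha)
      have e1 : c ^ (j + 1) * a * (c ^ (j + 1))⁻¹ = c ^ j * (c * a * c⁻¹) * (c ^ j)⁻¹ := by
        rw [pow_succ]; group
      rw [e1]; exact h1
  obtain ⟨e, n', hnd, hn⟩ := Nat.exists_eq_pow_mul_and_not_dvd (orderOf_pos c).ne' p hp.ne_one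
  -- the `p`-part
  have hxC : c ^ n' ∈ C := C.pow_mem hc _
  have hxQ : c ^ n' ∈ Q := by
    obtain ⟨S, hS⟩ := Cfsg.Agent.Helper9.exists_sylow_inf_of_normalizes P C hnC
    have hxp : (⟨c ^ n', hxC⟩ : ↥C) ^ (p ^ e) = 1 := by
      apply Subtype.ext
      show (c ^ n') ^ (p ^ e) = 1
      rw [← pow_mul, mul_comm, ← hn, pow_orderOf_eq_one]
    obtain ⟨k, -, hk⟩ := (Nat.dvd_prime_pow hp).1 (orderOf_dvd_of_pow_eq_one hxp)
    have hcent : (⟨c ^ n', hxC⟩ : ↥C) ∈ Subgroup.centralizer ((S : Subgroup ↥C) : Set ↥C) := by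
      rw [Subgroup.mem_centralizer_iff]
      intro s hs
      have hs' : s ∈ ((P : Subgroup G) ⊓ C).subgroupOf C := by rw [← hS]; exact hs
      rw [Subgroup.mem_subgroupOf] at hs'
      apply Subtype.ext
      exact hCQ _ hxC _ (hcen hs')
    have hmem := Cfsg.Agent.Helper10.mem_sylow_of_mem_centralizer S _ hcent k hk
    have hmem' : (⟨c ^ n', hxC⟩ : ↥C) ∈ ((P : Subgroup G) ⊓ C).subgroupOf C := by
      rw [← hS]; exact hmem
    rw [Subgroup.mem_subgroupOf] at hmem'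
    exact hcen hmem'
  -- the `p'`-part
  have hyC : c ^ (p ^ e) ∈ C := C.pow_mem hc _
  have hyo : (orderOf (c ^ (p ^ e))).Coprime p := by
    have h1 : (c ^ (p ^ e)) ^ n' = 1 := by rw [← pow_mul, ← hn, pow_orderOf_eq_one]
    have h2 : orderOf (c ^ (p ^ e)) ∣ n' := orderOf_dvd_of_pow_eq_one h1
    exact Nat.Coprime.coprime_dvd_left h2 ((Nat.Prime.coprime_iff_not_dvd hp).2 hnd).symm
  have hycent : c ^ (p ^ e) ∈ Subgroup.centralizer (A : Set G) := by
    rw [Subgroup.mem_centralizer_iff]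
    intro a ha
    have hya : c ^ (p ^ e) * a * (c ^ (p ^ e))⁻¹ ∈ A := hpowA _ a ha
    have ht : a⁻¹ * (c ^ (p ^ e) * a * (c ^ (p ^ e))⁻¹) ∈ Q := by
      apply hcen
      refine ⟨Subgroup.mul_mem _ (Subgroup.inv_mem _ (hAP ha)) (hAP hya), ?_⟩
      have h1 : a⁻¹ * (c ^ (p ^ e) * a * (c ^ (p ^ e))⁻¹) =
          (a⁻¹ * c ^ (p ^ e) * a⁻¹⁻¹) * (c ^ (p ^ e))⁻¹ := by group
      rw [h1]
      exact C.mul_mem (hnC _ (Subgroup.inv_mem _ (hAP ha)) _ hyC) (C.inv_mem hyC)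
    obtain ⟨k, hk⟩ := P.isPGroup' ⟨_, hAP (hQA ht)⟩
    have hk' : (a⁻¹ * (c ^ (p ^ e) * a * (c ^ (p ^ e))⁻¹)) ^ (p ^ k) = 1 :=
      congrArg Subtype.val hk
    exact (Cfsg.Agent.Helper23.Dk.comm_of_coprime (p := p) (c ^ (p ^ e)) a hyo
      (hCQ _ hyC _ ht).symm k hk').symm
  -- Bezout
  have hcop : Nat.gcd n' (p ^ e) = 1 :=
    Nat.Coprime.pow_right e ((Nat.Prime.coprime_iff_not_dvd hp).2 hnd).symm
  have hbez := Nat.gcd_eq_gcd_ab n' (p ^ e)
  rw [hcop] at hbez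
  refine ⟨(c ^ n') ^ (Nat.gcdA n' (p ^ e)), Q.zpow_mem hxQ _,
    (c ^ (p ^ e)) ^ (Nat.gcdB n' (p ^ e)), Subgroup.zpow_mem _ hycent _, ?_⟩
  rw [← zpow_natCast c n', ← zpow_natCast c (p ^ e), ← zpow_mul, ← zpow_mul, ← zpow_add, ← hbez]
  simp

/-- A normal subgroup `Q` of `P` whose normalizer controls strong fusion in `P` lies in every
centric-radical subgroup of `P`. -/
theorem le_of_cr (P : Sylow p G) (Q R : Subgroup G)
    (hQP : Q ≤ P) (hPN : (P : Subgroup G) ≤ Subgroup.normalizer (Q : Set G))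
    (hctl : CtlS (P : Subgroup G) Q) (hR : IsCR p (P : Subgroup G) R) : Q ≤ R := by
  have hp : p.Prime := Fact.out
  obtain ⟨hRP, hRsyl, hrad⟩ := hR
  have hCN : Subgroup.centralizer (R : Set G) ≤ Subgroup.normalizer (R : Set G) :=
    Subgroup.centralizer_le_normalizer _
  have hRN : R ≤ Subgroup.normalizer (R : Set G) := Subgroup.le_normalizer
  have hRCn : ∀ n ∈ Subgroup.normalizer (R : Set G),
      ∀ x ∈ R ⊔ Subgroup.centralizer (R : Set G),
      n * x * n⁻¹ ∈ R ⊔ Subgroup.centralizer (R : Set G) := by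
    intro n hn x hx
    have h1 : (R ⊔ Subgroup.centralizer (R : Set G)).map (MulAut.conj n).toMonoidHom ≤
        R ⊔ Subgroup.centralizer (R : Set G) := by
      rw [Subgroup.map_sup]
      apply sup_le_sup
      · rintro _ ⟨r, hr, rfl⟩
        exact (Subgroup.mem_normalizer_iff.mp hn r).mp hr
      · rintro _ ⟨y, hy, rfl⟩
        exact conj_mem_centralizer hn hy
    exact h1 ⟨x, hx, rfl⟩
  obtain ⟨X, hX⟩ : ∃ X : Subgroup G, X = (Q ⊓ Subgroup.normalizer (R : Set G)) ⊔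
      (R ⊔ Subgroup.centralizer (R : Set G)) := ⟨_, rfl⟩
  have hXN : X ≤ Subgroup.normalizer (R : Set G) := by
    rw [hX]; exact sup_le inf_le_right (sup_le hRN hCN)
  have hRCX : R ⊔ Subgroup.centralizer (R : Set G) ≤ X := by rw [hX]; exact le_sup_right
  have hXinv : ∀ n ∈ Subgroup.normalizer (R : Set G), ∀ x ∈ X, n * x * n⁻¹ ∈ X := by
    intro n hn x hx
    have hmap : R.map (MulAut.conj n).toMonoidHom ≤ (P : Subgroup G) := by
      rintro _ ⟨r, hr, rfl⟩
      exact hRP ((Subgroup.mem_normalizer_iff.mp hn r).mp hr)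
    obtain ⟨h, hh, c, hc, rfl⟩ := hctl R hRP n hmap
    have hcN : c ∈ Subgroup.normalizer (R : Set G) := hCN hc
    have hhN : h ∈ Subgroup.normalizer (R : Set G) := by
      have := Subgroup.mul_mem _ hn (Subgroup.inv_mem _ hcN)
      rwa [mul_inv_cancel_right] at this
    have hcX : c ∈ X := hRCX (le_sup_right (a := R) hc)
    have h1 : c * x * c⁻¹ ∈ X := X.mul_mem (X.mul_mem hcX hx) (X.inv_mem hcX)
    have h2 : X.map (MulAut.conj h).toMonoidHom ≤ X := by
      rw [hX, Subgroup.map_sup]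
      apply sup_le_sup
      · rintro _ ⟨d, hd, rfl⟩
        refine ⟨(Subgroup.mem_normalizer_iff.mp hh d).mp hd.1, ?_⟩
        exact Subgroup.mul_mem _ (Subgroup.mul_mem _ hhN hd.2) (Subgroup.inv_mem _ hhN)
      · rintro _ ⟨y, hy, rfl⟩
        exact hRCn h hhN y hy
    have h3 := h2 ⟨c * x * c⁻¹, h1, rfl⟩
    have e1 : h * c * x * (h * c)⁻¹ = h * (c * x * c⁻¹) * h⁻¹ := by group
    rw [e1]; exact h3
  have hidx : ∃ k : ℕ, (R ⊔ Subgroup.centralizer (R : Set G)).relIndex X = p ^ k := by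
    haveI hKn : ((R ⊔ Subgroup.centralizer (R : Set G)).subgroupOf
        (Subgroup.normalizer (R : Set G))).Normal := by
      constructor
      intro x hx n
      rw [Subgroup.mem_subgroupOf] at hx ⊢
      exact hRCn n n.2 x hx
    have h1 : (R ⊔ Subgroup.centralizer (R : Set G)).relIndex X =
        ((R ⊔ Subgroup.centralizer (R : Set G)).subgroupOf
          (Subgroup.normalizer (R : Set G))).relIndex
          (X.subgroupOf (Subgroup.normalizer (R : Set G))) :=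
      (Subgroup.relIndex_subgroupOf hXN).symm
    have h2 : X.subgroupOf (Subgroup.normalizer (R : Set G)) =
        (Q ⊓ Subgroup.normalizer (R : Set G)).subgroupOf (Subgroup.normalizer (R : Set G)) ⊔
          (R ⊔ Subgroup.centralizer (R : Set G)).subgroupOf
            (Subgroup.normalizer (R : Set G)) := by
      rw [hX]; exact Subgroup.subgroupOf_sup inf_le_right (sup_le hRN hCN)
    rw [h1, h2, Subgroup.relIndex_sup_right]
    have hDp : IsPGroup p ↥((Q ⊓ Subgroup.normalizer (R : Set G)).subgroupOf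
        (Subgroup.normalizer (R : Set G))) :=
      (P.isPGroup'.to_le (inf_le_left.trans hQP)).comap_subtype
    obtain ⟨m, hm⟩ := IsPGroup.iff_card.1 hDp
    have h3 := Subgroup.relIndex_dvd_card
      ((R ⊔ Subgroup.centralizer (R : Set G)).subgroupOf (Subgroup.normalizer (R : Set G)))
      ((Q ⊓ Subgroup.normalizer (R : Set G)).subgroupOf (Subgroup.normalizer (R : Set G)))
    rw [hm] at h3
    obtain ⟨k, -, hk⟩ := (Nat.dvd_prime_pow hp).1 h3
    exact ⟨k, hk⟩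
  have hXeq : X = R ⊔ Subgroup.centralizer (R : Set G) :=
    hrad X hXN (map_conj_eq_of_forall hXinv) hRCX hidx
  have hPC : (P : Subgroup G) ⊓ Subgroup.centralizer (R : Set G) ≤ R := by
    obtain ⟨S, hS⟩ := hRsyl
    have hpg : IsPGroup p ↥(((P : Subgroup G) ⊓ Subgroup.centralizer (R : Set G)).subgroupOf
        (Subgroup.centralizer (R : Set G))) :=
      (P.isPGroup'.to_le inf_le_left).comap_subtype
    have hle : (S : Subgroup ↥(Subgroup.centralizer (R : Set G))) ≤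
        ((P : Subgroup G) ⊓ Subgroup.centralizer (R : Set G)).subgroupOf
          (Subgroup.centralizer (R : Set G)) := by
      intro s hs
      rw [Subgroup.mem_subgroupOf]
      have h1 : (s : G) ∈ (S : Subgroup ↥(Subgroup.centralizer (R : Set G))).map
          (Subgroup.centralizer (R : Set G)).subtype := ⟨s, hs, rfl⟩
      rw [hS] at h1
      exact ⟨hRP h1.1, h1.2⟩
    have heq := S.is_maximal' hpg hle
    intro x hx
    have h1 : (⟨x, hx.2⟩ : ↥(Subgroup.centralizer (R : Set G))) ∈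
        ((P : Subgroup G) ⊓ Subgroup.centralizer (R : Set G)).subgroupOf
          (Subgroup.centralizer (R : Set G)) := by
      rw [Subgroup.mem_subgroupOf]; exact hx
    rw [heq] at h1
    have h2 : x ∈ (S : Subgroup ↥(Subgroup.centralizer (R : Set G))).map
        (Subgroup.centralizer (R : Set G)).subtype := ⟨_, h1, rfl⟩
    rw [hS] at h2
    exact h2.1
  have hD : Q ⊓ Subgroup.normalizer (R : Set G) ≤ R := by
    intro x hx
    have h1 : x ∈ R ⊔ Subgroup.centralizer (R : Set G) := by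
      rw [← hXeq, hX]
      exact le_sup_left (b := R ⊔ Subgroup.centralizer (R : Set G)) hx
    have hRnC : R ≤ Subgroup.normalizer
        ((Subgroup.centralizer (R : Set G) : Subgroup G) : Set G) := by
      intro r hr
      exact Cfsg.Agent.Helper23.Dk.mem_normalizer_of_conj_mem _ r
        (fun y hy => conj_mem_centralizer (hRN hr) hy)
    have h2 : x ∈ ((R ⊔ Subgroup.centralizer (R : Set G) : Subgroup G) : Set G) := h1
    rw [Subgroup.coe_mul_of_left_le_normalizer_right R _ hRnC] at h2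
    obtain ⟨r, hr, c, hc, rfl⟩ := h2
    have hcP : c ∈ (P : Subgroup G) := by
      have := Subgroup.mul_mem _ (Subgroup.inv_mem _ (hRP hr)) (hQP hx.1)
      rwa [inv_mul_cancel_left] at this
    exact R.mul_mem hr (hPC ⟨hcP, hc⟩)
  haveI : Group.IsNilpotent ↥(P : Subgroup G) := P.isPGroup'.isNilpotent
  obtain ⟨n, hn⟩ := Group.IsNilpotent.nilpotent (G := ↥(P : Subgroup G))
  have key : ∀ n : ℕ, ∀ x : ↥(P : Subgroup G),
      x ∈ Subgroup.upperCentralSeries ↥(P : Subgroup G) n → (x : G) ∈ Q → (x : G) ∈ R := by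
    intro n
    induction n with
    | zero =>
      intro x hx _
      rw [Subgroup.upperCentralSeries_zero, Subgroup.mem_bot] at hx
      rw [hx]; exact R.one_mem
    | succ n ih =>
      intro x hx hxQ
      rw [Subgroup.mem_upperCentralSeries_succ_iff] at hx
      apply hD
      refine ⟨hxQ, ?_⟩
      apply Cfsg.Agent.Helper23.Dk.mem_normalizer_of_conj_mem
      intro r hr
      have h1 := hx ⟨r, hRP hr⟩
      have h2 : ((⁅x, ⟨r, hRP hr⟩⁆ : ↥(P : Subgroup G)) : G) ∈ Q := by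
        show (x : G) * r * (x : G)⁻¹ * r⁻¹ ∈ Q
        have h3 : r * (x : G)⁻¹ * r⁻¹ ∈ Q :=
          (Subgroup.mem_normalizer_iff.mp (hPN (hRP hr)) _).mp (Q.inv_mem hxQ)
        have := Q.mul_mem hxQ h3
        have e1 : (x : G) * (r * (x : G)⁻¹ * r⁻¹) = (x : G) * r * (x : G)⁻¹ * r⁻¹ := by group
        rwa [e1] at this
      have h4 := ih _ h1 h2
      have h5 := R.mul_mem h4 hr
      have e2 : ((⁅x, ⟨r, hRP hr⟩⁆ : ↥(P : Subgroup G)) : G) * r = (x : G) * r * (x : G)⁻¹ := by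
        show (x : G) * r * (x : G)⁻¹ * r⁻¹ * r = _
        group
      rwa [e2] at h5
  intro q hq
  exact key n ⟨q, hQP hq⟩ (by rw [hn]; exact Subgroup.mem_top _) hq

/-- Passing from `Q` to the Sylow `p`-subgroup `P ∩ X` of a normal subgroup `X` of `N_G(Q)` with
`X / Q C_G(Q)` a `p`-group keeps control of strong fusion. -/
theorem ctl_step (P : Sylow p G) (Q : Subgroup G)
    (hQP : Q ≤ P) (hPN : (P : Subgroup G) ≤ Subgroup.normalizer (Q : Set G))
    (hcen : (P : Subgroup G) ⊓ Subgroup.centralizer (Q : Set G) ≤ Q)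
    (hctl : CtlS (P : Subgroup G) Q) (X : Subgroup G)
    (hXinv : ∀ n ∈ Subgroup.normalizer (Q : Set G), ∀ x ∈ X, n * x * n⁻¹ ∈ X)
    (hQCX : Q ⊔ Subgroup.centralizer (Q : Set G) ≤ X) (k : ℕ)
    (hidx : (Q ⊔ Subgroup.centralizer (Q : Set G)).relIndex X = p ^ k) :
    CtlS (P : Subgroup G) ((P : Subgroup G) ⊓ X) := by
  have hp : p.Prime := Fact.out
  have hCN : Subgroup.centralizer (Q : Set G) ≤ Subgroup.normalizer (Q : Set G) :=
    Subgroup.centralizer_le_normalizer _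
  have hPX : ∀ t ∈ (P : Subgroup G), ∀ x ∈ X, t * x * t⁻¹ ∈ X := fun t ht => hXinv t (hPN ht)
  have hXle : X ≤ (P : Subgroup G) ⊔ Subgroup.centralizer (Q : Set G) := by
    have h1 : ((P : Subgroup G) ⊓ X ⊔ Subgroup.centralizer (Q : Set G)).relIndex X ∣ p ^ k := by
      rw [← hidx]
      exact Subgroup.relIndex_dvd_of_le_left X
        (sup_le_sup_right (le_inf hQP (le_sup_left.trans hQCX)) _)
    obtain ⟨j, -, hj⟩ := (Nat.dvd_prime_pow hp).1 h1
    have h2 := le_of_relIndex_pow P X _ hPX le_sup_left j hj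
    exact h2.trans (sup_le_sup_right inf_le_left _)
  have hPnC : (P : Subgroup G) ≤ Subgroup.normalizer
      ((Subgroup.centralizer (Q : Set G) : Subgroup G) : Set G) := by
    intro t ht
    exact Cfsg.Agent.Helper23.Dk.mem_normalizer_of_conj_mem _ t
      (fun y hy => conj_mem_centralizer (hPN ht) hy)
  intro A hAP g hg
  obtain ⟨h₀, hh₀, c₀, hc₀, rfl⟩ := hctl A hAP g hg
  have hc₀' : ∀ a ∈ A, c₀ * a * c₀⁻¹ = a := by
    intro a ha
    rw [Subgroup.mem_centralizer_iff] at hc₀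
    rw [← hc₀ a ha, mul_inv_cancel_right]
  have hh₀A : ∀ a ∈ A, h₀ * a * h₀⁻¹ ∈ (P : Subgroup G) := by
    intro a ha
    have h1 : (h₀ * c₀) * a * (h₀ * c₀)⁻¹ ∈ (P : Subgroup G) := hg ⟨a, ha, rfl⟩
    have e1 : (h₀ * c₀) * a * (h₀ * c₀)⁻¹ = h₀ * (c₀ * a * c₀⁻¹) * h₀⁻¹ := by group
    rw [e1, hc₀' a ha] at h1
    exact h1
  have hBP : A ⊔ (P : Subgroup G) ⊓ X ≤ (P : Subgroup G) := sup_le hAP inf_le_left
  have hBmap : (A ⊔ (P : Subgroup G) ⊓ X).map (MulAut.conj h₀).toMonoidHom ≤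
      (P : Subgroup G) ⊔ Subgroup.centralizer (Q : Set G) := by
    rw [Subgroup.map_sup]
    apply sup_le
    · rintro _ ⟨a, ha, rfl⟩
      exact le_sup_left (b := Subgroup.centralizer (Q : Set G)) (hh₀A a ha)
    · rintro _ ⟨x, hx, rfl⟩
      exact hXle (hXinv h₀ hh₀ x hx.2)
  have hBp : IsPGroup p ↥((A ⊔ (P : Subgroup G) ⊓ X).map (MulAut.conj h₀).toMonoidHom) :=
    (P.isPGroup'.to_le hBP).map _
  obtain ⟨y, hy, hyB⟩ := Cfsg.Agent.Helper10.exists_conj_mem_sylow_of_le _ P le_sup_left _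
    hBp hBmap
  have hy' : y ∈ ((Subgroup.centralizer (Q : Set G) ⊔ (P : Subgroup G) : Subgroup G) : Set G) := by
    rw [sup_comm]; exact hy
  rw [Subgroup.coe_mul_of_right_le_normalizer_left _ _ hPnC] at hy'
  obtain ⟨c, hc, u, hu, rfl⟩ := hy'
  have hcC : c ∈ Subgroup.centralizer (Q : Set G) := hc
  have huP : u ∈ (P : Subgroup G) := hu
  have hg'B : ∀ b ∈ A ⊔ (P : Subgroup G) ⊓ X,
      (c⁻¹ * h₀) * b * (c⁻¹ * h₀)⁻¹ ∈ (P : Subgroup G) := by
    intro b hb
    have h1 := hyB _ ⟨b, hb, rfl⟩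
    have h2 := Subgroup.mul_mem _ (Subgroup.mul_mem _ huP h1) (Subgroup.inv_mem _ huP)
    have e1 : u * ((c * u)⁻¹ * ((MulAut.conj h₀).toMonoidHom b) * (c * u)) * u⁻¹ =
        (c⁻¹ * h₀) * b * (c⁻¹ * h₀)⁻¹ := by
      show u * ((c * u)⁻¹ * (h₀ * b * h₀⁻¹) * (c * u)) * u⁻¹ = _
      group
    rwa [e1] at h2
  have hg'N : c⁻¹ * h₀ ∈ Subgroup.normalizer (Q : Set G) :=
    Subgroup.mul_mem _ (Subgroup.inv_mem _ (hCN hcC)) hh₀
  have hg'Q' : c⁻¹ * h₀ ∈ Subgroup.normalizer (((P : Subgroup G) ⊓ X : Subgroup G) : Set G) := by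
    apply Cfsg.Agent.Helper23.Dk.mem_normalizer_of_conj_mem
    intro x hx
    exact ⟨hg'B x (le_sup_right (a := A) hx), hXinv _ hg'N x hx.2⟩
  obtain ⟨At, hAt⟩ : ∃ At : Subgroup G,
      At = A.map (MulAut.conj (c⁻¹ * h₀)).toMonoidHom ⊔ Q := ⟨_, rfl⟩
  have hAtP : At ≤ (P : Subgroup G) := by
    rw [hAt]
    refine sup_le ?_ hQP
    rintro _ ⟨a, ha, rfl⟩
    exact hg'B a (le_sup_left (b := (P : Subgroup G) ⊓ X) ha)
  have hcAt : ∀ a ∈ At, c * a * c⁻¹ ∈ (P : Subgroup G) := by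
    have h1 : At.map (MulAut.conj c).toMonoidHom ≤ (P : Subgroup G) := by
      rw [hAt, Subgroup.map_sup]
      apply sup_le
      · rintro _ ⟨_, ⟨a, ha, rfl⟩, rfl⟩
        have e1 : (MulAut.conj c).toMonoidHom ((MulAut.conj (c⁻¹ * h₀)).toMonoidHom a) =
            h₀ * a * h₀⁻¹ := by
          show c * ((c⁻¹ * h₀) * a * (c⁻¹ * h₀)⁻¹) * c⁻¹ = _
          group
        rw [e1]; exact hh₀A a ha
      · rintro _ ⟨q, hq, rfl⟩
        have e1 : (MulAut.conj c).toMonoidHom q = q := by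
          show c * q * c⁻¹ = q
          rw [Subgroup.mem_centralizer_iff] at hcC
          rw [← hcC q hq, mul_inv_cancel_right]
        rw [e1]; exact hQP hq
    intro a ha
    exact h1 ⟨a, ha, rfl⟩
  obtain ⟨z, hz, k', hk', hck⟩ := cent_decomp P Q hPN hcen At
    (by rw [hAt]; exact le_sup_right) hAtP c hcC hcAt
  refine ⟨z * (c⁻¹ * h₀), Subgroup.mul_mem _ (Subgroup.le_normalizer
      (Subgroup.mem_inf.2 ⟨hQP hz,
        hQCX (le_sup_left (b := Subgroup.centralizer (Q : Set G)) hz)⟩)) hg'Q',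
    (c⁻¹ * h₀)⁻¹ * k' * (c⁻¹ * h₀) * c₀, ?_, ?_⟩
  · apply Subgroup.mul_mem _ _ hc₀
    rw [Subgroup.mem_centralizer_iff]
    intro a ha
    rw [Subgroup.mem_centralizer_iff] at hk'
    have h1 := hk' ((c⁻¹ * h₀) * a * (c⁻¹ * h₀)⁻¹)
      (by rw [hAt]; exact le_sup_left (b := Q) ⟨a, ha, rfl⟩)
    calc a * ((c⁻¹ * h₀)⁻¹ * k' * (c⁻¹ * h₀))
        = (c⁻¹ * h₀)⁻¹ * ((c⁻¹ * h₀) * a * (c⁻¹ * h₀)⁻¹ * k') * (c⁻¹ * h₀) := by group
      _ = (c⁻¹ * h₀)⁻¹ * (k' * ((c⁻¹ * h₀) * a * (c⁻¹ * h₀)⁻¹)) * (c⁻¹ * h₀) := by rw [h1]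
      _ = (c⁻¹ * h₀)⁻¹ * k' * (c⁻¹ * h₀) * a := by group
  · have e1 : z * (c⁻¹ * h₀) * ((c⁻¹ * h₀)⁻¹ * k' * (c⁻¹ * h₀) * c₀) =
        (z * k') * c⁻¹ * h₀ * c₀ := by group
    rw [e1, ← hck]; group

/-- The least centric-radical subgroup. -/
theorem exists_least_cr (P : Sylow p G) (K : Subgroup G)
    (hKP : K ≤ P) (hPK : (P : Subgroup G) ≤ Subgroup.normalizer (K : Set G))
    (hcenK : (P : Subgroup G) ⊓ Subgroup.centralizer (K : Set G) ≤ K)
    (hctlK : CtlS (P : Subgroup G) K) :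
    ∃ Q : Subgroup G, IsCR p (P : Subgroup G) Q ∧
      (∀ R : Subgroup G, IsCR p (P : Subgroup G) R → Q ≤ R) ∧
      (∀ x ∈ (P : Subgroup G), Q.map (MulAut.conj x).toMonoidHom = Q) ∧
      CtlS (P : Subgroup G) Q := by
  classical
  obtain ⟨Q, hKQ, hQmax⟩ := Finite.exists_le_maximal
    (p := fun Q : Subgroup G => Q ≤ (P : Subgroup G) ∧
      (P : Subgroup G) ≤ Subgroup.normalizer (Q : Set G) ∧
      (P : Subgroup G) ⊓ Subgroup.centralizer (Q : Set G) ≤ Q ∧ CtlS (P : Subgroup G) Q)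
    (a := K) ⟨hKP, hPK, hcenK, hctlK⟩
  obtain ⟨hQP, hPN, hcen, hctl⟩ := hQmax.prop
  have hnC : ∀ t ∈ (P : Subgroup G), ∀ c ∈ Subgroup.centralizer (Q : Set G),
      t * c * t⁻¹ ∈ Subgroup.centralizer (Q : Set G) :=
    fun t ht c hc => conj_mem_centralizer (hPN ht) hc
  refine ⟨Q, ⟨hQP, ?_, ?_⟩, ?_, ?_, hctl⟩
  · obtain ⟨S, hS⟩ := Cfsg.Agent.Helper9.exists_sylow_inf_of_normalizes P _ hnC
    refine ⟨S, ?_⟩
    rw [hS, Subgroup.subgroupOf_map_subtype]
    apply le_antisymm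
    · exact le_inf (inf_le_left.trans hcen) inf_le_right
    · exact le_inf (le_inf (inf_le_left.trans hQP) inf_le_right) inf_le_right
  · intro X hXN hXmap hQCX ⟨k, hk⟩
    have hXinv : ∀ n ∈ Subgroup.normalizer (Q : Set G), ∀ x ∈ X, n * x * n⁻¹ ∈ X := by
      intro n hn x hx
      have h1 : n * x * n⁻¹ ∈ X.map (MulAut.conj n).toMonoidHom := ⟨x, hx, rfl⟩
      rwa [hXmap n hn] at h1
    have hQQ' : Q ≤ (P : Subgroup G) ⊓ X := le_inf hQP (le_sup_left.trans hQCX)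
    have hmem : (P : Subgroup G) ⊓ X ≤ Q := by
      refine hQmax.2 ?_ hQQ'
      refine ⟨inf_le_left, ?_, ?_, ctl_step P Q hQP hPN hcen hctl X hXinv hQCX k hk⟩
      · intro t ht
        apply Cfsg.Agent.Helper23.Dk.mem_normalizer_of_conj_mem
        intro x hx
        exact ⟨Subgroup.mul_mem _ (Subgroup.mul_mem _ ht hx.1) (Subgroup.inv_mem _ ht),
          hXinv t (hPN ht) x hx.2⟩
      · exact (inf_le_inf_left _
          (Subgroup.centralizer_le (SetLike.coe_subset_coe.2 hQQ'))).trans (hcen.trans hQQ')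
    apply le_antisymm _ hQCX
    exact le_of_relIndex_pow P X _ (fun t ht => hXinv t (hPN ht)) (hmem.trans le_sup_left) k hk
  · intro R hR
    exact le_of_cr P Q R hQP hPN hctl hR
  · intro x hx
    exact map_conj_eq_of_forall (N := Subgroup.normalizer (Q : Set G)) (X := Q)
      (fun n hn y hy => (Subgroup.mem_normalizer_iff.mp hn y).mp hy) x (hPN hx)

end Cfsg.Agent.Helper23.Cr
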