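import Cfsg.Agent.Helper23.DStar
import Cfsg.Agent.Helper23.ZJ3

/-!
Helper library (helper23): the `D*`-theorem. `D*(S)` is normal in a `p`-stable group with
Sylow `p`-subgroup `S`.
-/

set_option autoImplicit false

namespace Cfsg.Agent.Helper23

open scoped commutatorElement

section DStar2

variable {G : Type*} [Group G]

/-- The family defining `D*(P)`, written inside the ambient group. -/
def dFam (P : Subgroup G) : Set (Subgroup G) :=
  {A | A ≤ P ∧ (∀ a ∈ A, ∀ b ∈ A, a * b = b * a) ∧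
    ∀ x ∈ P, ⁅⁅A ⊔ Subgroup.zpowers x, A ⊔ Subgroup.zpowers x⁆, A ⊔ Subgroup.zpowers x⁆ = ⊥ →
      ∀ a ∈ A, a * x = x * a}

/-- `D*(P)` inside the ambient group. -/
def dSub (P : Subgroup G) : Subgroup G := sSup (dFam P)

/-- The class-two condition is invariant under injective homomorphisms. -/
theorem class_two_map_iff {H : Type*} [Group H] (f : H →* G) (hf : Function.Injective f)
    (A : Subgroup H) (x : H) :
    ⁅⁅A.map f ⊔ Subgroup.zpowers (f x), A.map f ⊔ Subgroup.zpowers (f x)⁆,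
        A.map f ⊔ Subgroup.zpowers (f x)⁆ = ⊥ ↔
      ⁅⁅A ⊔ Subgroup.zpowers x, A ⊔ Subgroup.zpowers x⁆, A ⊔ Subgroup.zpowers x⁆ = ⊥ := by
  have h1 : A.map f ⊔ Subgroup.zpowers (f x) = (A ⊔ Subgroup.zpowers x).map f := by
    rw [Subgroup.map_sup, MonoidHom.map_zpowers]
  rw [h1, ← Subgroup.map_commutator, ← Subgroup.map_commutator,
    Subgroup.map_eq_bot_iff_of_injective _ hf]

theorem dStarOf_eq_dSub (P : Subgroup G) : Cfsg.dStarOf P = dSub P := by
  apply le_antisymm
  · unfold Cfsg.dStarOf Cfsg.dStar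
    rw [Subgroup.map_le_iff_le_comap]
    apply sSup_le
    intro A hA
    rw [← Subgroup.map_le_iff_le_comap]
    apply le_sSup
    refine ⟨Subgroup.map_subtype_le A, ?_, ?_⟩
    · rintro _ ⟨a, ha, rfl⟩ _ ⟨b, hb, rfl⟩
      rw [← map_mul, ← map_mul, comm_of_isMulCommutative hA.1 a ha b hb]
    · intro x hx h3
      have h4 := (class_two_map_iff P.subtype P.subtype_injective A ⟨x, hx⟩).1 h3
      rintro _ ⟨a, ha, rfl⟩
      have h5 := hA.2 ⟨x, hx⟩ h4 a ha
      exact congrArg Subtype.val h5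
  · apply sSup_le
    intro A hA
    have hAm : (A.subgroupOf P).map P.subtype = A := Subgroup.map_subgroupOf_eq_of_le hA.1
    have hmem : A.subgroupOf P ∈ Cfsg.dStarFamily ↥P := by
      refine ⟨⟨⟨fun a b => Subtype.ext (Subtype.ext ?_)⟩⟩, ?_⟩
      · exact hA.2.1 a.1.1 a.2 b.1.1 b.2
      · intro x h3 a ha
        have h4 := (class_two_map_iff P.subtype P.subtype_injective (A.subgroupOf P) x).2 h3
        rw [hAm] at h4
        exact Subtype.ext (hA.2.2 x.1 x.2 h4 a.1 ha)
    have h6 : A.subgroupOf P ≤ Cfsg.dStar ↥P := le_sSup hmem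
    have h7 := Subgroup.map_mono (f := P.subtype) h6
    rw [hAm] at h7
    exact h7

theorem dSub_le (P : Subgroup G) : dSub P ≤ P := sSup_le fun _ hA => hA.1

theorem dSub_comm [Finite G] {p : ℕ} [Fact p.Prime] {P : Subgroup G} (hP : IsPGroup p P) :
    ∀ a ∈ dSub P, ∀ b ∈ dSub P, a * b = b * a := by
  have h := (dStar_main (S := ↥P) hP).2.1
  intro a ha b hb
  rw [← dStarOf_eq_dSub] at ha hb
  obtain ⟨a', ha', rfl⟩ := ha
  obtain ⟨b', hb', rfl⟩ := hb
  have h1 : a' ∈ Cfsg.thompsonSubgroupA ↥P := (h ha').1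
  have h2 : b' ∈ Subgroup.centralizer (Cfsg.thompsonSubgroupA ↥P : Set ↥P) := (h hb').2
  rw [Subgroup.mem_centralizer_iff] at h2
  have h3 := h2 a' h1
  rw [← map_mul, ← map_mul, h3]

theorem dSub_mem_dFam [Finite G] {p : ℕ} [Fact p.Prime] {P : Subgroup G} (hP : IsPGroup p P) :
    dSub P ∈ dFam P := by
  refine ⟨dSub_le P, dSub_comm hP, fun x hx h3 => ?_⟩
  have key : dSub P ≤ Subgroup.centralizer ({x} : Set G) := by
    apply sSup_le
    intro A hA a ha
    rw [Subgroup.mem_centralizer_iff]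
    intro y hy
    rw [Set.mem_singleton_iff] at hy
    rw [hy]
    have hle : A ⊔ Subgroup.zpowers x ≤ dSub P ⊔ Subgroup.zpowers x :=
      sup_le_sup_right (le_sSup hA) _
    have h4 : ⁅⁅A ⊔ Subgroup.zpowers x, A ⊔ Subgroup.zpowers x⁆, A ⊔ Subgroup.zpowers x⁆ = ⊥ := by
      rw [eq_bot_iff, ← h3]
      exact Subgroup.commutator_mono (Subgroup.commutator_mono hle hle) hle
    exact (hA.2.2 x hx h4 a ha).symm
  intro a ha
  have h5 := key ha
  rw [Subgroup.mem_centralizer_iff] at h5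
  exact (h5 x rfl).symm

theorem dFam_map {P : Subgroup G} {φ : G →* G} (hφ : Function.Injective φ)
    (hP : P.map φ = P) {A : Subgroup G} (hA : A ∈ dFam P) : A.map φ ∈ dFam P := by
  refine ⟨?_, ?_, ?_⟩
  · rw [← hP]; exact Subgroup.map_mono hA.1
  · rintro _ ⟨a, ha, rfl⟩ _ ⟨b, hb, rfl⟩
    rw [← map_mul, ← map_mul, hA.2.1 a ha b hb]
  · intro x hx h3
    rw [← hP] at hx
    obtain ⟨y, hy, rfl⟩ := hx
    have h4 := (class_two_map_iff φ hφ A y).1 h3
    rintro _ ⟨a, ha, rfl⟩
    rw [← map_mul, ← map_mul, hA.2.2 y hy h4 a ha]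

theorem dSub_conj_mem {P : Subgroup G} {n x : G}
    (hn : n ∈ Subgroup.normalizer (P : Set G)) (hx : x ∈ dSub P) : n * x * n⁻¹ ∈ dSub P := by
  have hP : P.map (MulAut.conj n).toMonoidHom = P := map_conj_eq_of_mem_normalizer hn
  have hinj : Function.Injective (MulAut.conj n).toMonoidHom := (MulAut.conj n).injective
  have hle : (dSub P).map (MulAut.conj n).toMonoidHom ≤ dSub P := by
    rw [Subgroup.map_le_iff_le_comap]
    apply sSup_le
    intro A hA
    rw [← Subgroup.map_le_iff_le_comap]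
    exact le_sSup (dFam_map hinj hP hA)
  exact hle ⟨x, hx, rfl⟩

variable [Finite G] {p : ℕ} [Fact p.Prime]

/-- The `p`-stability hypothesis of the `D*`-theorem implies the abstract form. -/
theorem zjStable_of_pStableOn
    (hst : ∀ (P : Subgroup G) [P.Normal], IsPGroup p P → Cfsg.IsPStableOn p P)
    (S : Subgroup G) : ZJStable p S := by
  intro V hVn hVp
  have hCn : (Subgroup.centralizer (V : Set G)).Normal := inferInstance
  have hpn : (Cfsg.pCore p (G ⧸ Subgroup.centralizer (V : Set G))).Normal :=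
    Cfsg.Agent.Helper14.pCore_normal p _
  refine ⟨(Cfsg.pCore p (G ⧸ Subgroup.centralizer (V : Set G))).comap
    (QuotientGroup.mk' (Subgroup.centralizer (V : Set G))), inferInstance, ?_, ?_, ?_⟩
  · intro c hc
    rw [Subgroup.mem_comap]
    have h : QuotientGroup.mk' (Subgroup.centralizer (V : Set G)) c = 1 :=
      (QuotientGroup.eq_one_iff _).2 hc
    rw [h]; exact one_mem _
  · apply relIndex_eq_pow_of_forall_pow_mem
    intro x hx
    rw [Subgroup.mem_comap] at hx
    obtain ⟨j, hj⟩ := (Cfsg.Agent.Helper14.pCore_isPGroup p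
      (G ⧸ Subgroup.centralizer (V : Set G))) ⟨_, hx⟩
    refine ⟨j, ?_⟩
    have h1 := congrArg Subtype.val hj
    simp only [Subgroup.coe_pow, Subgroup.coe_one] at h1
    rw [← (QuotientGroup.eq_one_iff _), QuotientGroup.mk_pow]
    exact h1
  · intro a _ hquad
    exact hst V hVp a hquad

/-- An element of `S` acting quadratically on `O_p(G)` lies in `O_p(G)`. -/
theorem mem_pCore_of_quadratic
    (hc : Subgroup.centralizer (Cfsg.pCore p G : Set G) ≤ Cfsg.pCore p G)
    (S : Sylow p G) (hst : ZJStable p (S : Subgroup G)) {a : G} (ha : a ∈ (S : Subgroup G))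
    (hquad : ⁅⁅Cfsg.pCore p G, Subgroup.zpowers a⁆, Subgroup.zpowers a⁆ = ⊥) :
    a ∈ Cfsg.pCore p G := by
  have hQn : (Cfsg.pCore p G).Normal := Cfsg.Agent.Helper14.pCore_normal p G
  have hQp : IsPGroup p (Cfsg.pCore p G) := Cfsg.Agent.Helper14.pCore_isPGroup p G
  obtain ⟨K, hKn, hCK, ⟨k, hk⟩, hK⟩ := hst (Cfsg.pCore p G) hQn hQp
  have haK : a ∈ K := hK a ha hquad
  have hKp : IsPGroup p K := by
    obtain ⟨j, hj⟩ := (hQp.to_le hc).exists_card_eq
    have h1 : Nat.card ↥(Subgroup.centralizer (Cfsg.pCore p G : Set G)) *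
        (Subgroup.centralizer (Cfsg.pCore p G : Set G)).relIndex K = Nat.card K := by
      have h2 := Subgroup.card_mul_index
        ((Subgroup.centralizer (Cfsg.pCore p G : Set G)).subgroupOf K)
      have h3 : Nat.card ↥((Subgroup.centralizer (Cfsg.pCore p G : Set G)).subgroupOf K) =
          Nat.card ↥(Subgroup.centralizer (Cfsg.pCore p G : Set G)) := by
        rw [← Subgroup.card_map_of_injective K.subtype_injective,
          Subgroup.map_subgroupOf_eq_of_le hCK]
      rw [h3] at h2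
      exact h2
    apply IsPGroup.of_card (n := j + k)
    rw [← h1, hj, hk, pow_add]
  exact Cfsg.Agent.Helper14.le_pCore hKn hKp haK

/-- The `D*`-theorem (abstract stability form). -/
theorem dSub_normal
    (hc : Subgroup.centralizer (Cfsg.pCore p G : Set G) ≤ Cfsg.pCore p G)
    (S : Sylow p G) (hst : ZJStable p (S : Subgroup G)) :
    (dSub (S : Subgroup G)).Normal := by
  have hSp : IsPGroup p (S : Subgroup G) := S.isPGroup'
  have hQn : (Cfsg.pCore p G).Normal := Cfsg.Agent.Helper14.pCore_normal p G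
  have hQp : IsPGroup p (Cfsg.pCore p G) := Cfsg.Agent.Helper14.pCore_isPGroup p G
  have hQS : Cfsg.pCore p G ≤ (S : Subgroup G) := Cfsg.Agent.Helper14.pCore_le_sylow S
  set D := dSub (S : Subgroup G) with hD
  have hDS : D ≤ (S : Subgroup G) := dSub_le _
  have hDc : ∀ a ∈ D, ∀ b ∈ D, a * b = b * a := dSub_comm hSp
  have hDfam : D ∈ dFam (S : Subgroup G) := dSub_mem_dFam hSp
  have hSD : ∀ s ∈ (S : Subgroup G), ∀ d ∈ D, s * d * s⁻¹ ∈ D := fun s hs d hd =>
    dSub_conj_mem (Subgroup.le_normalizer hs) hd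
  -- quadratic action of `D` on any subgroup of `S`
  have hquadD : ∀ W : Subgroup G, W ≤ (S : Subgroup G) → ∀ a ∈ D,
      ⁅⁅W, Subgroup.zpowers a⁆, Subgroup.zpowers a⁆ = ⊥ := by
    intro W hWS a ha
    have h1 : ⁅W, Subgroup.zpowers a⁆ ≤ D := by
      rw [Subgroup.commutator_le]
      intro q hq y hy
      have hyD : y ∈ D := (Subgroup.zpowers_le.2 ha) hy
      have h : ⁅q, y⁆ = (q * y * q⁻¹) * y⁻¹ := by rw [commutatorElement_def]
      rw [h]
      exact Subgroup.mul_mem _ (hSD q (hWS hq) y hyD) (Subgroup.inv_mem _ hyD)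
    rw [eq_bot_iff, Subgroup.commutator_le]
    intro x hx y hy
    rw [Subgroup.mem_bot, commutatorElement_eq_one_iff_mul_comm]
    exact hDc x (h1 hx) y ((Subgroup.zpowers_le.2 ha) hy)
  have hDQ : D ≤ Cfsg.pCore p G := fun a ha =>
    mem_pCore_of_quadratic hc S hst (hDS ha) (hquadD _ hQS a ha)
  set V := Subgroup.normalClosure (D : Set G) with hV
  have hVn : V.Normal := Subgroup.normalClosure_normal
  have hVQ : V ≤ Cfsg.pCore p G := Subgroup.normalClosure_le_normal hDQ
  have hDV : D ≤ V := Subgroup.subset_normalClosure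
  have hVp : IsPGroup p V := hQp.to_le hVQ
  obtain ⟨K, hKn, hCK, ⟨k, hk⟩, hK⟩ := hst V hVn hVp
  set C := Subgroup.centralizer (V : Set G) with hC
  have hDK : D ≤ K := fun a ha => hK a (hDS ha) (hquadD V (hVQ.trans hQS) a ha)
  set T := (S : Subgroup G) ⊓ K with hT
  have hTp : IsPGroup p T := hSp.to_le inf_le_left
  have hfr : Subgroup.normalizer (T : Set G) ⊔ K = ⊤ := frattini_inf S K
  have hKTC : K ≤ T ⊔ C := by
    rw [← Subgroup.relIndex_eq_one]
    have h1 : (T ⊔ C).relIndex K ∣ T.relIndex K :=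
      Subgroup.relIndex_dvd_of_le_left K le_sup_left
    have h2 : (T ⊔ C).relIndex K ∣ C.relIndex K :=
      Subgroup.relIndex_dvd_of_le_left K le_sup_right
    have h3 : ¬ p ∣ T.relIndex K := by
      rw [hT, Subgroup.inf_relIndex_right]
      intro h
      exact S.not_dvd_index (h.trans (relIndex_dvd_index_of_normal_right (S : Subgroup G) K))
    rw [hk] at h2
    obtain ⟨j, -, hj2⟩ := (Nat.dvd_prime_pow (Fact.out)).1 h2
    rw [hj2] at h1 ⊢
    cases j with
    | zero => simp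
    | succ j => exact absurd (dvd_trans (dvd_pow_self p (Nat.succ_ne_zero j)) h1) h3
  have htop : Subgroup.normalizer (T : Set G) ⊔ C = ⊤ := by
    rw [eq_top_iff, ← hfr]
    exact sup_le le_sup_left
      (hKTC.trans (sup_le (le_sup_of_le_left Subgroup.le_normalizer) le_sup_right))
  set D₂ := dSub T with hD₂
  have hD₂fam : D₂ ∈ dFam T := dSub_mem_dFam hTp
  have hDD₂ : D ≤ D₂ := by
    apply le_sSup
    exact ⟨le_inf hDS hDK, hDc, fun x hx h3 => hDfam.2.2 x hx.1 h3⟩
  have hconj : ∀ g : G, ∀ d ∈ D, g * d * g⁻¹ ∈ D₂ := by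
    intro g d hd
    have hg : g ∈ Subgroup.normalizer (T : Set G) ⊔ C := by rw [htop]; trivial
    obtain ⟨n, hn, c, hcC, rfl⟩ := Subgroup.mem_sup_of_normal_right.1 hg
    have hcx : c * d * c⁻¹ = d := by
      have h := hcC d (hDV hd)
      rw [← h]; group
    have h : n * c * d * (n * c)⁻¹ = n * (c * d * c⁻¹) * n⁻¹ := by group
    rw [h, hcx]
    exact dSub_conj_mem hn (hDD₂ hd)
  have hVD₂ : V ≤ D₂ := by
    rw [hV, Subgroup.normalClosure, Subgroup.closure_le]
    intro x hx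
    rw [Group.mem_conjugatesOfSet_iff] at hx
    obtain ⟨a, ha, hax⟩ := hx
    rw [isConj_iff] at hax
    obtain ⟨g, rfl⟩ := hax
    exact hconj g a ha
  have hD₂S : D₂ ∈ dFam (S : Subgroup G) := by
    refine ⟨hD₂fam.1.trans inf_le_left, hD₂fam.2.1, fun x hx h3 => ?_⟩
    have hle1 : V ≤ D₂ ⊔ Subgroup.zpowers x := hVD₂.trans le_sup_left
    have hle2 : Subgroup.zpowers x ≤ D₂ ⊔ Subgroup.zpowers x := le_sup_right
    have hquad : ⁅⁅V, Subgroup.zpowers x⁆, Subgroup.zpowers x⁆ = ⊥ := by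
      rw [eq_bot_iff, ← h3]
      exact Subgroup.commutator_mono (Subgroup.commutator_mono hle1 hle2) hle2
    have hxK : x ∈ K := hK x hx hquad
    exact hD₂fam.2.2 x ⟨hx, hxK⟩ h3
  have hD₂D : D₂ ≤ D := le_sSup hD₂S
  exact ⟨fun d hd g => hD₂D (hconj g d hd)⟩

end DStar2

end Cfsg.Agent.Helper23
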