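import Mathlib
import Cfsg.Prelude.Def_LocalEven
import Cfsg.Agent.Helper23.Dk24

/-!
Helper library (helper23): a semantically defined characteristic `p`-functor `nW`: the largest
subgroup of a `p`-group `Q` which is normal in every constrained group of the class `Cov` having
`Q` as a Sylow `p`-subgroup.  Its normalizer controls strong fusion in all groups of `Cov`
(for `p > 3`).
-/

set_option autoImplicit false
set_option linter.unusedSimpArgs false
set_option linter.unusedSectionVars false

namespace Cfsg.Agent.Helper23.Fc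

open Cfsg Cfsg.Agent.Helper10 Cfsg.Agent.Helper23 Cfsg.Agent.Helper23.QP Cfsg.Agent.Helper23.Dk
open scoped commutatorElement

universe u

variable {p : ℕ} [Fact p.Prime]

/-- The class `Cov` is closed under quotients by normal subgroups centralized by all
`p'`-elements. -/
theorem cov_quot {H : Type u} [Group H] [Finite H] (h : Cov p H) (U : Subgroup H) [hU : U.Normal]
    (hcent : ∀ x : H, (orderOf x).Coprime p → x ∈ Subgroup.centralizer (U : Set H)) :
    Cov p (H ⧸ U) := by
  classical
  obtain ⟨Y, _, _, f, hf, hst, hker⟩ := h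
  haveI hN₂n : (U.comap f).Normal := hU.comap f
  obtain ⟨S⟩ : Nonempty (Sylow p ↥(U.comap f)) := Sylow.nonempty
  obtain ⟨V, hVdef⟩ : ∃ V : Subgroup Y,
      V = (S : Subgroup ↥(U.comap f)).map (U.comap f).subtype := ⟨_, rfl⟩
  have hVp : IsPGroup p ↥V := by rw [hVdef]; exact S.2.map _
  have hVN₂ : V ≤ U.comap f := by rw [hVdef]; exact Subgroup.map_subtype_le _
  have hfrat : Subgroup.normalizer (V : Set Y) ⊔ U.comap f = ⊤ := by
    rw [hVdef]; exact Sylow.normalizer_sup_eq_top S
  -- `p'`-elements of the normalizer centralize `V`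
  have hVc : ∀ y ∈ Subgroup.normalizer (V : Set Y), (orderOf y).Coprime p →
      ∀ v ∈ V, y * v = v * y := by
    intro y hyN hy v hv
    have hcV : v⁻¹ * (y * v * y⁻¹) ∈ V :=
      V.mul_mem (V.inv_mem hv) ((Subgroup.mem_normalizer_iff.mp hyN v).mp hv)
    obtain ⟨k, hk⟩ := hVp ⟨_, hcV⟩
    have hk' : (v⁻¹ * (y * v * y⁻¹)) ^ (p ^ k) = 1 := by
      have h2 := congrArg Subtype.val hk
      rw [Subgroup.coe_pow] at h2
      exact h2
    refine comm_of_coprime y v hy ?_ k hk'
    apply hker y _ hy _ ⟨k, hk'⟩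
    rw [MonoidHom.mem_ker]
    have hfy : (orderOf (f y)).Coprime p :=
      Nat.Coprime.coprime_dvd_left (orderOf_map_dvd f y) hy
    have h1 := Subgroup.mem_centralizer_iff.mp (hcent (f y) hfy) (f v) (hVN₂ hv)
    simp only [map_mul, map_inv]
    rw [← h1, mul_inv_cancel_right, inv_mul_cancel]
  refine ⟨↥(Subgroup.normalizer (V : Set Y)), inferInstance, inferInstance,
    (QuotientGroup.mk' U).comp (f.comp (Subgroup.normalizer (V : Set Y)).subtype),
    ?_, Cfsg.Agent.S3836.result hst _, ?_⟩
  · intro q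
    obtain ⟨x, rfl⟩ := QuotientGroup.mk_surjective q
    obtain ⟨y, rfl⟩ := hf x
    have h1 : y ∈ Subgroup.normalizer (V : Set Y) ⊔ U.comap f := by
      rw [hfrat]; exact Subgroup.mem_top _
    rw [Subgroup.mem_sup_of_normal_right] at h1
    obtain ⟨y₀, hy₀, n, hn, rfl⟩ := h1
    refine ⟨⟨y₀, hy₀⟩, ?_⟩
    show (QuotientGroup.mk (f y₀) : H ⧸ U) = QuotientGroup.mk (f (y₀ * n))
    rw [map_mul, QuotientGroup.mk_mul, (QuotientGroup.eq_one_iff (f n)).2 hn, mul_one]
  · intro y n hy hn hk
    apply Subtype.ext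
    rw [Subgroup.coe_mul, Subgroup.coe_mul]
    apply hVc (y : Y) y.2 (by rw [Subgroup.orderOf_coe]; exact hy)
    rw [MonoidHom.mem_ker] at hn
    have hnN₂ : (n : Y) ∈ U.comap f := by
      have h1 : (QuotientGroup.mk (f (n : Y)) : H ⧸ U) = 1 := hn
      rw [QuotientGroup.eq_one_iff] at h1
      exact h1
    obtain ⟨k, hk⟩ := hk
    have hk' : (n : Y) ^ (p ^ k) = 1 := by
      have h2 := congrArg Subtype.val hk
      rw [Subgroup.coe_pow] at h2
      exact h2
    have h3 := mem_map_sylow_of_normalizer (U.comap f) S (n : Y) hnN₂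
      (by rw [← hVdef]; exact n.2) k hk'
    have h4 : ∀ x : Y, x ∈ (S : Subgroup ↥(U.comap f)).map
        (U.comap f).subtype → x ∈ V := fun x hx => by rw [hVdef]; exact hx
    exact h4 _ h3

/-- In a constrained group of `Cov` (`p > 3`), `Z(J(T))` is normal. -/
theorem zj_normal_of_cov (hp3 : 3 < p) {H : Type u} [Group H] [Finite H] (hH : Cov p H)
    (hcons : Subgroup.centralizer ((pCore p H : Subgroup H) : Set H) ≤ pCore p H)
    (T : Sylow p H) :
    (inducedFunctor (Cfsg.Agent.Helper21.zjW p false) (T : Subgroup H)).Normal := by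
  classical
  have hp2 : p ≠ 2 := by omega
  obtain ⟨Y, _, _, f, hf, hstY, hkerY⟩ := hH
  have hQ : QStab p H := qstab_of_lift hp3 f hf hstY hkerY
  rw [Cfsg.Agent.Helper21.inducedFunctor_zjW]
  exact zjSub_normal_gen hp2 false hcons T (zjStable_of_qstab hQ _) (T : Subgroup H) le_rfl
    (fun x _ g h => h)

omit [Fact p.Prime] in
/-- The image of the value of an isomorphism-invariant functor under an embedding. -/
theorem map_eq_induced {W : ∀ (Q : Type u) [Group Q], Subgroup Q} (hW : IsCharPFunctor.{u} p W)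
    {Q H : Type u} [Group Q] [Finite Q] [Group H] (hQ : IsPGroup p Q) (ι : Q →* H)
    (hι : Function.Injective ι) : (W Q).map ι = inducedFunctor W ι.range := by
  have h1 := hW.2 Q ↥ι.range hQ (MonoidHom.ofInjective hι)
  unfold inducedFunctor
  rw [← h1, Subgroup.map_map]
  rfl

/-- A supremum of subgroups with normal images has normal image. -/
theorem map_sSup_normal {Q H : Type*} [Group Q] [Group H] (𝒮 : Set (Subgroup Q)) (f : Q →* H)
    (h : ∀ U ∈ 𝒮, (U.map f).Normal) : ((sSup 𝒮).map f).Normal := by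
  refine ⟨fun x hx g => ?_⟩
  have key : sSup 𝒮 ≤ ((sSup 𝒮).map f).comap ((MulAut.conj g).toMonoidHom.comp f) := by
    apply sSup_le
    intro U hU u hu
    rw [Subgroup.mem_comap]
    have h1 : f u ∈ U.map f := Subgroup.mem_map_of_mem f hu
    have h2 := (h U hU).conj_mem _ h1 g
    exact Subgroup.map_mono (le_sSup hU) h2
  obtain ⟨q, hq, rfl⟩ := hx
  exact key hq

/-- The subgroups of `Q` which are normal in every constrained group of `Cov` with Sylow
`p`-subgroup `Q`. -/
def nSet (p : ℕ) (Q : Type u) [Group Q] : Set (Subgroup Q) :=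
  {U | ∀ (H : Type u) [Group H] [Finite H] (ι : Q →* H), Function.Injective ι →
    (∃ T : Sylow p H, (T : Subgroup H) = ι.range) → Cov p H →
    Subgroup.centralizer ((pCore p H : Subgroup H) : Set H) ≤ pCore p H → (U.map ι).Normal}

/-- The largest subgroup of `Q` normal in every constrained group of `Cov` with Sylow
`p`-subgroup `Q`. -/
def nW (p : ℕ) : ∀ (Q : Type u) [Group Q], Subgroup Q :=
  fun Q _ => sSup (nSet p Q)

omit [Fact p.Prime] in
theorem nW_map_normal {Q H : Type u} [Group Q] [Group H] [Finite H] (ι : Q →* H)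
    (hι : Function.Injective ι) (hT : ∃ T : Sylow p H, (T : Subgroup H) = ι.range)
    (hC : Cov p H)
    (hc : Subgroup.centralizer ((pCore p H : Subgroup H) : Set H) ≤ pCore p H) :
    ((nW p Q).map ι).Normal :=
  map_sSup_normal _ ι (fun U hU => hU H ι hι hT hC hc)

omit [Fact p.Prime] in
theorem le_nW {Q : Type u} [Group Q] {U : Subgroup Q} (hU : U ∈ nSet p Q) : U ≤ nW p Q :=
  le_sSup hU

omit [Fact p.Prime] in
theorem nW_map_equiv {Q R : Type u} [Group Q] [Group R] (φ : Q ≃* R) :
    (nW p Q).map φ.toMonoidHom = nW p R := by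
  apply le_antisymm
  · rw [Subgroup.map_le_iff_le_comap]
    apply sSup_le
    intro U hU
    rw [← Subgroup.map_le_iff_le_comap]
    apply le_sSup
    intro H _ _ ι hι hT hC hc
    rw [Subgroup.map_map]
    refine hU H (ι.comp φ.toMonoidHom) (hι.comp φ.injective) ?_ hC hc
    obtain ⟨T, hT⟩ := hT
    refine ⟨T, ?_⟩
    rw [hT]
    ext y
    constructor
    · rintro ⟨r, rfl⟩
      exact ⟨φ.symm r, by simp⟩
    · rintro ⟨q, rfl⟩
      exact ⟨φ q, rfl⟩
  · apply sSup_le
    intro U hU
    have h1 : U.map φ.symm.toMonoidHom ≤ nW p Q := by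
      apply le_sSup
      intro H _ _ ι hι hT hC hc
      rw [Subgroup.map_map]
      refine hU H (ι.comp φ.symm.toMonoidHom) (hι.comp φ.symm.injective) ?_ hC hc
      obtain ⟨T, hT⟩ := hT
      refine ⟨T, ?_⟩
      rw [hT]
      ext y
      constructor
      · rintro ⟨r, rfl⟩
        exact ⟨φ r, by simp⟩
      · rintro ⟨q, rfl⟩
        exact ⟨φ.symm q, rfl⟩
    have h2 := Subgroup.map_mono (f := φ.toMonoidHom) h1
    rw [Subgroup.map_map] at h2
    have h3 : φ.toMonoidHom.comp φ.symm.toMonoidHom = MonoidHom.id R := by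
      ext x; simp
    rw [h3, Subgroup.map_id] at h2
    exact h2

theorem zj_le_nW (hp3 : 3 < p) (Q : Type u) [Group Q] [Finite Q] (hQ : IsPGroup p Q) :
    Cfsg.Agent.Helper21.zjW p false Q ≤ nW p Q := by
  apply le_sSup
  intro H _ _ ι hι hT hC hc
  obtain ⟨T, hT⟩ := hT
  rw [map_eq_induced (Cfsg.Agent.Helper21.zjW_char p false) hQ ι hι, ← hT]
  exact zj_normal_of_cov hp3 hC hc T

theorem nW_char (hp3 : 3 < p) : IsCharPFunctor.{u} p (nW p) := by
  constructor
  · intro Q _ _ hQ hnt h
    have h1 := zj_le_nW hp3 Q hQ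
    rw [h] at h1
    exact (Cfsg.Agent.Helper21.zjW_char p false).1 Q hQ hnt (le_bot_iff.mp h1)
  · intro Q R _ _ _ _ φ
    exact nW_map_equiv φ

/-- For `p > 3`, in a group of `Cov` the normalizer of `nW(P)` controls strong fusion in the
Sylow `p`-subgroup `P`. -/
theorem nW_controls {G : Type u} [Group G] [Finite G] (hp3 : 3 < p) (hG : Cov p G)
    (P : Sylow p G) :
    ∀ A : Set G, A ⊆ (P : Subgroup G) →
      Cfsg.ControlsStrongFusionOf
        (Subgroup.normalizer (inducedFunctor (nW p) (P : Subgroup G) : Set G))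
        (P : Subgroup G) A := by
  classical
  have h𝓦 : ∀ W' ∈ ({nW p} : Set (∀ (Q : Type u) [Group Q], Subgroup Q)),
      IsCharPFunctor.{u} p W' := by
    intro W' hW'
    rw [Set.mem_singleton_iff] at hW'
    rw [hW']; exact nW_char hp3
  have main := ctl_main2 h𝓦 (Set.singleton_nonempty _)
    (fun (H : Type u) [Group H] => Cov p H)
    (fun H _ _ h L => h.sub L) (fun H _ _ h _ => h.quot_pPrime)
    (fun H _ _ h T hT => h.quot_pCore T hT) ?_ _ G rfl hG
  · intro A hA
    refine ⟨hA, ?_⟩
    intro g hgA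
    obtain ⟨c, hc, e⟩ := main P A g hA hgA
    refine ⟨c, ?_, fun a ha => (e a ha).symm⟩
    exact hc.mem_subgroup (Subgroup.normalizer
      (inducedFunctor (nW p) (P : Subgroup G) : Set G)) (by
      intro y hy
      rw [mem_stp] at hy
      obtain ⟨W', hW', -, hy2⟩ := hy
      rw [Set.mem_singleton_iff] at hW'
      rw [hW'] at hy2
      exact hy2)
  · intro H _ _ hH hcons T A g hA hgA
    have hn : (inducedFunctor (nW p) (T : Subgroup H)).Normal := by
      unfold inducedFunctor
      exact nW_map_normal _ (Subgroup.subtype_injective _)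
        ⟨T, (Subgroup.range_subtype _).symm⟩ hH hcons
    have hg : g ∈ stepSet (fam {nW p} _) ⊤ (T : Subgroup H) := by
      rw [mem_stp]
      refine ⟨nW p, rfl, Subgroup.mem_top _, ?_⟩
      rw [Subgroup.normalizer_eq_top_iff.mpr hn]; exact Subgroup.mem_top _
    exact Good.of_ch (Ch.single hg hA hgA)

end Cfsg.Agent.Helper23.Fc
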