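import Mathlib
import Cfsg.Prelude.Def_LocalEven
import Cfsg.Agent.Helper23.Fc1
import Cfsg.Agent.Helper9.RelRed2

/-!
Helper library (helper23): the functor `nW` is centric: `C_Q(nW(Q)) ≤ nW(Q)` for a finite
`p`-group `Q` (`p > 3`).  Consequently a finite group which is `p`-stable in the normalizer form
has a centric normal subgroup of its Sylow `p`-subgroup whose normalizer controls strong fusion.
-/

set_option autoImplicit false
set_option linter.unusedSimpArgs false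
set_option linter.unusedSectionVars false
set_option maxHeartbeats 800000

namespace Cfsg.Agent.Helper23.Fc

open Cfsg Cfsg.Agent.Helper10 Cfsg.Agent.Helper23 Cfsg.Agent.Helper23.QP Cfsg.Agent.Helper23.Dk
open scoped commutatorElement

universe u

variable {p : ℕ} [Fact p.Prime]

/-- In a constrained group, the centralizer of a normal `p`-subgroup modulo its centre is
constrained. -/
theorem cons_quot {H : Type u} [Group H] [Finite H]
    (hcons : Subgroup.centralizer ((pCore p H : Subgroup H) : Set H) ≤ pCore p H)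
    (W' : Subgroup H) [hWn : W'.Normal] (hWp : IsPGroup p W')
    (C : Subgroup H) (hC : C = Subgroup.centralizer (W' : Set H)) [hCn : C.Normal]
    (Z₀ : Subgroup H) (hZ : Z₀ = W' ⊓ C) [hZn : Z₀.Normal] [hZCn : (Z₀.subgroupOf C).Normal] :
    Subgroup.centralizer ((pCore p (↥C ⧸ Z₀.subgroupOf C) : Subgroup (↥C ⧸ Z₀.subgroupOf C)) :
      Set (↥C ⧸ Z₀.subgroupOf C)) ≤ pCore p (↥C ⧸ Z₀.subgroupOf C) := by
  classical
  have hRn : (pCore p H).Normal := Cfsg.Agent.Helper10.pCore_normal p H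
  have hRp : IsPGroup p (pCore p H) := Cfsg.Agent.Helper10.pCore_isPGroup p H
  have hWR : W' ≤ pCore p H := Cfsg.Agent.Helper23.le_pCore hWn hWp
  have hZW : Z₀ ≤ W' := by rw [hZ]; exact inf_le_left
  obtain ⟨R₁, hR₁⟩ : ∃ R₁ : Subgroup H, R₁ = pCore p H ⊓ C := ⟨_, rfl⟩
  haveI hR₁n : R₁.Normal := by rw [hR₁]; exact Subgroup.normal_inf_normal _ _
  haveI hmapn : (R₁.map (QuotientGroup.mk' Z₀)).Normal :=
    hR₁n.map _ (QuotientGroup.mk'_surjective Z₀)
  obtain ⟨K, hK⟩ : ∃ K : Subgroup H, K = (Subgroup.centralizer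
      ((R₁.map (QuotientGroup.mk' Z₀) : Subgroup (H ⧸ Z₀)) : Set (H ⧸ Z₀))).comap
      (QuotientGroup.mk' Z₀) ⊓ C := ⟨_, rfl⟩
  haveI hKn : K.Normal := by
    rw [hK]
    haveI : (Subgroup.centralizer
        ((R₁.map (QuotientGroup.mk' Z₀) : Subgroup (H ⧸ Z₀)) : Set (H ⧸ Z₀))).Normal :=
      Subgroup.normal_centralizer
    exact Subgroup.normal_inf_normal _ _
  have hKmem : ∀ x : H, x ∈ K ↔ x ∈ C ∧ ∀ r ∈ R₁, (r * x)⁻¹ * (x * r) ∈ Z₀ := by
    intro x
    rw [hK, Subgroup.mem_inf, Subgroup.mem_comap, Subgroup.mem_centralizer_iff]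
    constructor
    · rintro ⟨h1, h2⟩
      refine ⟨h2, fun r hr => ?_⟩
      have h3 := h1 (QuotientGroup.mk' Z₀ r) (Subgroup.mem_map_of_mem _ hr)
      rw [← map_mul, ← map_mul] at h3
      exact QuotientGroup.eq.mp h3
    · rintro ⟨h2, h1⟩
      refine ⟨?_, h2⟩
      rintro _ ⟨r, hr, rfl⟩
      rw [← map_mul, ← map_mul]
      exact QuotientGroup.eq.mpr (h1 r hr)
  -- `p'`-elements of `K` are trivial
  have hKtriv : ∀ x ∈ K, (orderOf x).Coprime p → x = 1 := by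
    intro x hxK hx
    obtain ⟨hxC, hxR⟩ := (hKmem x).1 hxK
    have hxW : ∀ w ∈ W', w * x = x * w := by
      have h0 := hxC
      rw [hC, Subgroup.mem_centralizer_iff] at h0
      exact h0
    have hxR₁ : ∀ r ∈ R₁, x * r = r * x := by
      intro r hr
      have hz : r⁻¹ * (x * r * x⁻¹) ∈ Z₀ := by
        have h1 := hZn.conj_mem _ (hxR r hr) x
        have h2 : r⁻¹ * (x * r * x⁻¹) = x * ((r * x)⁻¹ * (x * r)) * x⁻¹ := by group
        rw [h2]; exact h1
      obtain ⟨k, hk⟩ := hWp ⟨_, hZW hz⟩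
      have hk' : (r⁻¹ * (x * r * x⁻¹)) ^ (p ^ k) = 1 := by
        have h2 := congrArg Subtype.val hk
        rw [Subgroup.coe_pow] at h2
        exact h2
      exact comm_of_coprime x r hx (hxW _ (hZW hz)).symm k hk'
    have hAT : W' ⊔ R₁ ≤ pCore p H := sup_le hWR (by rw [hR₁]; exact inf_le_left)
    have hCA : pCore p H ⊓ Subgroup.centralizer ((W' ⊔ R₁ : Subgroup H) : Set H) ≤ W' ⊔ R₁ := by
      rintro y ⟨hyR, hyc⟩
      apply (le_sup_right : R₁ ≤ W' ⊔ R₁)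
      rw [hR₁, hC]
      refine ⟨hyR, ?_⟩
      exact Subgroup.centralizer_le (show (W' : Set H) ⊆ ((W' ⊔ R₁ : Subgroup H) : Set H) from
        fun w hw => (le_sup_left : W' ≤ W' ⊔ R₁) hw) hyc
    have hxA : x ∈ Subgroup.centralizer ((W' ⊔ R₁ : Subgroup H) : Set H) := by
      have h1 : W' ⊔ R₁ ≤ Subgroup.centralizer ({x} : Set H) := by
        apply sup_le
        · intro w hw
          rw [Subgroup.mem_centralizer_iff]
          intro h hh
          rw [Set.mem_singleton_iff] at hh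
          rw [hh]; exact (hxW w hw).symm
        · intro r hr
          rw [Subgroup.mem_centralizer_iff]
          intro h hh
          rw [Set.mem_singleton_iff] at hh
          rw [hh]; exact hxR₁ r hr
      rw [Subgroup.mem_centralizer_iff]
      intro a ha
      have h2 := h1 ha
      rw [Subgroup.mem_centralizer_iff] at h2
      exact (h2 x rfl).symm
    exact cent_crit hcons (W' ⊔ R₁) hAT hCA x hxA (orderOf x) hx (pow_orderOf_eq_one x)
  -- `K` is a `p`-group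
  have hKp : IsPGroup p K := by
    intro x
    obtain ⟨m, hm⟩ := exists_pprime_pow (p := p) (x : H)
    refine ⟨m, Subtype.ext ?_⟩
    rw [Subgroup.coe_pow]
    exact hKtriv _ (K.pow_mem x.2 _) hm
  have hKR₁ : K ≤ R₁ := by
    intro x hx
    rw [hR₁]
    exact ⟨Cfsg.Agent.Helper23.le_pCore hKn hKp hx, ((hKmem x).1 hx).1⟩
  -- the normal `p`-subgroup `R₂` of the quotient
  haveI hR₁Cn : (R₁.subgroupOf C).Normal := hR₁n.subgroupOf C
  haveI hR₂n : ((R₁.subgroupOf C).map (QuotientGroup.mk' (Z₀.subgroupOf C))).Normal :=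
    hR₁Cn.map _ (QuotientGroup.mk'_surjective _)
  have hR₂p : IsPGroup p ((R₁.subgroupOf C).map (QuotientGroup.mk' (Z₀.subgroupOf C))) := by
    have h1 : IsPGroup p R₁ := by rw [hR₁]; exact hRp.to_le inf_le_left
    exact (h1.comap_subtype).map _
  have hR₂le := Cfsg.Agent.Helper23.le_pCore hR₂n hR₂p
  intro y hy
  apply hR₂le
  have hy' : y ∈ Subgroup.centralizer
      (((R₁.subgroupOf C).map (QuotientGroup.mk' (Z₀.subgroupOf C)) :
        Subgroup (↥C ⧸ Z₀.subgroupOf C)) : Set (↥C ⧸ Z₀.subgroupOf C)) :=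
    Subgroup.centralizer_le (fun z hz => hR₂le hz) hy
  obtain ⟨⟨x, hxC⟩, rfl⟩ := QuotientGroup.mk_surjective y
  have hxK : x ∈ K := by
    rw [hKmem]
    refine ⟨hxC, fun r hr => ?_⟩
    have hrC : r ∈ C := by rw [hR₁] at hr; exact hr.2
    rw [Subgroup.mem_centralizer_iff] at hy'
    have h1 := hy' (QuotientGroup.mk' (Z₀.subgroupOf C) ⟨r, hrC⟩)
      (Subgroup.mem_map_of_mem _ (by rw [Subgroup.mem_subgroupOf]; exact hr))
    have h2 : (QuotientGroup.mk ((⟨r, hrC⟩ : ↥C) * ⟨x, hxC⟩) : ↥C ⧸ Z₀.subgroupOf C) =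
        QuotientGroup.mk ((⟨x, hxC⟩ : ↥C) * ⟨r, hrC⟩) := h1
    have h3 := QuotientGroup.eq.mp h2
    rw [Subgroup.mem_subgroupOf] at h3
    exact h3
  refine ⟨⟨x, hxC⟩, ?_, rfl⟩
  rw [SetLike.mem_coe, Subgroup.mem_subgroupOf]
  exact hKR₁ hxK

/-- The image of the canonical enlargement is normal in every constrained model. -/
theorem key_normal (hp3 : 3 < p) {Q : Type u} [Group Q] [Finite Q] (hQ : IsPGroup p Q)
    {H : Type u} [Group H] [Finite H] (ι : Q →* H) (hι : Function.Injective ι)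
    (hT : ∃ T : Sylow p H, (T : Subgroup H) = ι.range) (hCov : Cov p H)
    (hcons : Subgroup.centralizer ((pCore p H : Subgroup H) : Set H) ≤ pCore p H)
    (W : Subgroup Q) (hW : W = nW p Q) (D : Subgroup Q)
    (hD : D = Subgroup.centralizer (W : Set Q)) (Z₀ : Subgroup Q) (hZ₀ : Z₀ = W ⊓ D)
    [hZn : (Z₀.subgroupOf D).Normal] :
    ((((nW p (↥D ⧸ Z₀.subgroupOf D)).comap (QuotientGroup.mk' (Z₀.subgroupOf D))).map
      D.subtype).map ι).Normal := by
  classical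
  obtain ⟨T, hT⟩ := hT
  obtain ⟨W', hW'⟩ : ∃ W' : Subgroup H, W' = W.map ι := ⟨_, rfl⟩
  haveI hW'n : W'.Normal := by
    rw [hW', hW]; exact nW_map_normal ι hι ⟨T, hT⟩ hCov hcons
  have hW'p : IsPGroup p W' := by rw [hW']; exact (hQ.to_subgroup W).map ι
  obtain ⟨C, hC⟩ : ∃ C : Subgroup H, C = Subgroup.centralizer (W' : Set H) := ⟨_, rfl⟩
  haveI hCn : C.Normal := by rw [hC]; exact Subgroup.normal_centralizer
  obtain ⟨Z₀', hZ₀'⟩ : ∃ Z₀' : Subgroup H, Z₀' = W' ⊓ C := ⟨_, rfl⟩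
  haveI hZ₀'n : Z₀'.Normal := by rw [hZ₀']; exact Subgroup.normal_inf_normal _ _
  haveI hZ₀'Cn : (Z₀'.subgroupOf C).Normal := hZ₀'n.subgroupOf C
  -- `ι` maps `D` into `C` and `Z₀` onto `Z₀'`
  have hDC : ∀ d : Q, d ∈ D → ι d ∈ C := by
    intro d hd
    rw [hC, Subgroup.mem_centralizer_iff]
    intro x hx
    rw [hW'] at hx
    obtain ⟨w, hw, rfl⟩ := hx
    rw [hD, Subgroup.mem_centralizer_iff] at hd
    rw [← map_mul, ← map_mul, hd w hw]
  have hCD : ∀ q : Q, ι q ∈ C → q ∈ D := by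
    intro q hq
    rw [hD, Subgroup.mem_centralizer_iff]
    intro w hw
    apply hι
    rw [map_mul, map_mul]
    rw [hC, Subgroup.mem_centralizer_iff] at hq
    exact hq (ι w) (by rw [hW']; exact Subgroup.mem_map_of_mem ι hw)
  have hZZ : ∀ q : Q, q ∈ Z₀ ↔ ι q ∈ Z₀' := by
    intro q
    rw [hZ₀, hZ₀', Subgroup.mem_inf, Subgroup.mem_inf]
    constructor
    · rintro ⟨h1, h2⟩
      exact ⟨by rw [hW']; exact Subgroup.mem_map_of_mem ι h1, hDC q h2⟩
    · rintro ⟨h1, h2⟩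
      refine ⟨?_, hCD q h2⟩
      rw [hW'] at h1
      obtain ⟨w, hw, hwq⟩ := h1
      rw [← hι hwq]; exact hw
  -- the induced map
  obtain ⟨ιD, hιD⟩ : ∃ ιD : ↥D →* ↥C, ∀ d : ↥D, ((ιD d : ↥C) : H) = ι (d : Q) :=
    ⟨(ι.comp D.subtype).codRestrict C (fun d => hDC d d.2), fun d => rfl⟩
  have hle : Z₀.subgroupOf D ≤ (Z₀'.subgroupOf C).comap ιD := by
    intro d hd
    rw [Subgroup.mem_comap, Subgroup.mem_subgroupOf, hιD]
    rw [Subgroup.mem_subgroupOf] at hd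
    exact (hZZ d).1 hd
  obtain ⟨ι₂, hι₂mk⟩ : ∃ ι₂ : ↥D ⧸ Z₀.subgroupOf D →* ↥C ⧸ Z₀'.subgroupOf C,
      ∀ d : ↥D, ι₂ (QuotientGroup.mk d) = QuotientGroup.mk (ιD d) :=
    ⟨QuotientGroup.map (Z₀.subgroupOf D) (Z₀'.subgroupOf C) ιD hle, fun d => rfl⟩
  have hι₂inj : Function.Injective ι₂ := by
    rw [injective_iff_map_eq_one]
    intro y hy
    obtain ⟨d, rfl⟩ := QuotientGroup.mk_surjective y
    rw [hι₂mk, QuotientGroup.eq_one_iff, Subgroup.mem_subgroupOf, hιD] at hy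
    rw [QuotientGroup.eq_one_iff, Subgroup.mem_subgroupOf]
    exact (hZZ d).2 hy
  -- the Sylow subgroup of the quotient
  obtain ⟨SC, hSC⟩ := Cfsg.Agent.Helper9.exists_sylow_inf_of_normalizes T C
    (fun t _ c hc => hCn.conj_mem c hc t)
  have hsurj : Function.Surjective (QuotientGroup.mk' (Z₀'.subgroupOf C)) :=
    QuotientGroup.mk'_surjective _
  have hrange : ((SC.mapSurjective hsurj : Sylow p (↥C ⧸ Z₀'.subgroupOf C)) :
      Subgroup (↥C ⧸ Z₀'.subgroupOf C)) = ι₂.range := by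
    rw [Sylow.coe_mapSurjective, hSC]
    ext y
    constructor
    · rintro ⟨x, hx, rfl⟩
      rw [SetLike.mem_coe, Subgroup.mem_subgroupOf, Subgroup.mem_inf, hT] at hx
      obtain ⟨⟨q, hq⟩, hxC⟩ := hx
      have hqD : q ∈ D := hCD q (by rw [hq]; exact hxC)
      refine ⟨QuotientGroup.mk ⟨q, hqD⟩, ?_⟩
      rw [hι₂mk]
      have e1 : ιD ⟨q, hqD⟩ = x := Subtype.ext (by rw [hιD]; exact hq)
      rw [e1]; rfl
    · rintro ⟨y₂, rfl⟩
      obtain ⟨d, rfl⟩ := QuotientGroup.mk_surjective y₂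
      refine ⟨ιD d, ?_, (hι₂mk d).symm⟩
      rw [SetLike.mem_coe, Subgroup.mem_subgroupOf, Subgroup.mem_inf, hT, hιD]
      exact ⟨⟨d, rfl⟩, hDC d d.2⟩
  -- the quotient lies in the class and is constrained
  have hCov₂ : Cov p (↥C ⧸ Z₀'.subgroupOf C) := by
    apply cov_quot (hCov.sub C)
    intro x _
    rw [Subgroup.mem_centralizer_iff]
    intro z hz
    rw [SetLike.mem_coe, Subgroup.mem_subgroupOf, hZ₀'] at hz
    apply Subtype.ext
    rw [Subgroup.coe_mul, Subgroup.coe_mul]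
    have hx : ∀ y : H, y ∈ C → ∀ w ∈ W', w * y = y * w := by
      intro y hy
      rw [hC, Subgroup.mem_centralizer_iff] at hy
      exact hy
    exact hx _ x.2 _ hz.1
  have hcons₂ := cons_quot hcons W' hW'p C hC Z₀' hZ₀'
  have hQ₂ : IsPGroup p (↥D ⧸ Z₀.subgroupOf D) := (hQ.to_subgroup D).to_quotient _
  obtain ⟨T₂, hT₂⟩ : ∃ T₂ : Sylow p (↥C ⧸ Z₀'.subgroupOf C),
      (T₂ : Subgroup (↥C ⧸ Z₀'.subgroupOf C)) = ι₂.range := ⟨_, hrange⟩
  have hN₂ : ((nW p (↥D ⧸ Z₀.subgroupOf D)).map ι₂).Normal :=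
    nW_map_normal ι₂ hι₂inj ⟨T₂, hT₂⟩ hCov₂ hcons₂
  -- invariance under automorphisms of the quotient
  have hinv : ∀ β : (↥C ⧸ Z₀'.subgroupOf C) ≃* (↥C ⧸ Z₀'.subgroupOf C),
      ∀ y ∈ (nW p (↥D ⧸ Z₀.subgroupOf D)).map ι₂,
        β y ∈ (nW p (↥D ⧸ Z₀.subgroupOf D)).map ι₂ := by
    intro β y hy
    obtain ⟨c, hc⟩ := MulAction.exists_smul_eq (↥C ⧸ Z₀'.subgroupOf C)
      T₂ (T₂.mapSurjective (f := β.toMonoidHom) (show Function.Surjective β.toMonoidHom from β.surjective))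
    have h1 : ((T₂.mapSurjective (f := β.toMonoidHom)
        (show Function.Surjective β.toMonoidHom from β.surjective) :
        Sylow p (↥C ⧸ Z₀'.subgroupOf C)) : Subgroup (↥C ⧸ Z₀'.subgroupOf C)) =
        (T₂ : Subgroup (↥C ⧸ Z₀'.subgroupOf C)).map (MulAut.conj c).toMonoidHom := by
      rw [← hc]; rfl
    rw [Sylow.coe_mapSurjective, hT₂, MonoidHom.map_range, MonoidHom.map_range] at h1
    have h2 := map_eq_induced (nW_char hp3) hQ₂ (β.toMonoidHom.comp ι₂)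
      (β.injective.comp hι₂inj)
    have h3 := map_eq_induced (nW_char hp3) hQ₂ ((MulAut.conj c).toMonoidHom.comp ι₂)
      ((MulAut.conj c).injective.comp hι₂inj)
    rw [h1, ← h3] at h2
    obtain ⟨q, hq, rfl⟩ := hy
    have h4 : β (ι₂ q) ∈ (nW p (↥D ⧸ Z₀.subgroupOf D)).map (β.toMonoidHom.comp ι₂) :=
      ⟨q, hq, rfl⟩
    rw [h2] at h4
    obtain ⟨q', hq', hqq⟩ := h4
    rw [← hqq]
    exact hN₂.conj_mem _ (Subgroup.mem_map_of_mem ι₂ hq') c
  -- normality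
  refine ⟨fun x hx h => ?_⟩
  obtain ⟨_, ⟨d, hd, rfl⟩, rfl⟩ := hx
  rw [SetLike.mem_coe, Subgroup.mem_comap] at hd
  have he : (Z₀'.subgroupOf C).map
      ((MulAut.conjNormal h : ↥C ≃* ↥C) : ↥C →* ↥C) = Z₀'.subgroupOf C := by
    ext z
    constructor
    · rintro ⟨z', hz', rfl⟩
      have hz'' : (z' : H) ∈ Z₀' := Subgroup.mem_subgroupOf.mp hz'
      apply Subgroup.mem_subgroupOf.mpr
      show ((MulAut.conjNormal h z' : ↥C) : H) ∈ Z₀'
      rw [MulAut.conjNormal_apply]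
      exact hZ₀'n.conj_mem _ hz'' h
    · intro hz
      have hz'' : (z : H) ∈ Z₀' := Subgroup.mem_subgroupOf.mp hz
      refine ⟨(MulAut.conjNormal h)⁻¹ z, ?_, ?_⟩
      · apply Subgroup.mem_subgroupOf.mpr
        rw [MulAut.conjNormal_inv_apply]
        have h1 := hZ₀'n.conj_mem _ hz'' h⁻¹
        rwa [inv_inv] at h1
      · exact MulAut.apply_inv_self _ (MulAut.conjNormal h) z
  have h1 : (QuotientGroup.mk (MulAut.conjNormal h (ιD d)) : ↥C ⧸ Z₀'.subgroupOf C) ∈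
      (nW p (↥D ⧸ Z₀.subgroupOf D)).map ι₂ := by
    have h2 := hinv (QuotientGroup.congr (Z₀'.subgroupOf C) (Z₀'.subgroupOf C)
      (MulAut.conjNormal h) he) (QuotientGroup.mk (ιD d))
      ⟨_, hd, hι₂mk d⟩
    exact h2
  obtain ⟨q₂, hq₂, hq₂e⟩ := h1
  obtain ⟨d', rfl⟩ := QuotientGroup.mk_surjective q₂
  rw [hι₂mk] at hq₂e
  have h3 := QuotientGroup.eq.mp hq₂e
  rw [Subgroup.mem_subgroupOf] at h3
  have h4 : ι (d' : Q)⁻¹ * (h * ι (d : Q) * h⁻¹) ∈ Z₀' := by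
    have h5 : (((ιD d')⁻¹ * MulAut.conjNormal h (ιD d) : ↥C) : H) =
        ι (d' : Q)⁻¹ * (h * ι (d : Q) * h⁻¹) := by
      rw [Subgroup.coe_mul, Subgroup.coe_inv, MulAut.conjNormal_apply, hιD, hιD, map_inv]
    rw [← h5]; exact h3
  have h6 : ι (d' : Q)⁻¹ * (h * ι (d : Q) * h⁻¹) ∈ W' := by
    rw [hZ₀'] at h4; exact h4.1
  rw [hW'] at h6
  obtain ⟨w, hw, hwe⟩ := h6
  have hwZ : w ∈ Z₀ := (hZZ w).2 (by rw [hwe]; exact h4)
  have hwD : w ∈ D := by rw [hZ₀] at hwZ; exact hwZ.2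
  refine ⟨(d' : Q) * w, ⟨d' * ⟨w, hwD⟩, ?_, rfl⟩, ?_⟩
  · show (QuotientGroup.mk' (Z₀.subgroupOf D)) (d' * ⟨w, hwD⟩) ∈
      nW p (↥D ⧸ Z₀.subgroupOf D)
    have h7 : (QuotientGroup.mk' (Z₀.subgroupOf D)) (d' * ⟨w, hwD⟩) =
        (QuotientGroup.mk' (Z₀.subgroupOf D)) d' := by
      rw [map_mul]
      have h8 : (QuotientGroup.mk' (Z₀.subgroupOf D)) ⟨w, hwD⟩ = 1 := by
        rw [QuotientGroup.mk'_apply, QuotientGroup.eq_one_iff, Subgroup.mem_subgroupOf]
        exact hwZ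
      rw [h8, mul_one]
    rw [h7]; exact hq₂
  · show ι ((d' : Q) * w) = h * ι (d : Q) * h⁻¹
    rw [map_mul, hwe, map_inv]
    group

/-- **Centricity of `nW`** (`p > 3`). -/
theorem nW_centric (hp3 : 3 < p) (Q : Type u) [Group Q] [Finite Q] (hQ : IsPGroup p Q) :
    Subgroup.centralizer ((nW p Q : Subgroup Q) : Set Q) ≤ nW p Q := by
  classical
  obtain ⟨W, hWdef⟩ : ∃ W : Subgroup Q, W = nW p Q := ⟨_, rfl⟩
  rw [← hWdef]
  haveI hWn : W.Normal := by
    refine ⟨fun x hx g => ?_⟩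
    have h1 := nW_map_equiv (p := p) (MulAut.conj g : Q ≃* Q)
    rw [← hWdef] at h1
    have h2 : g * x * g⁻¹ ∈ W.map (MulAut.conj g).toMonoidHom := ⟨x, hx, rfl⟩
    rwa [h1] at h2
  obtain ⟨D, hD⟩ : ∃ D : Subgroup Q, D = Subgroup.centralizer (W : Set Q) := ⟨_, rfl⟩
  rw [← hD]
  haveI hDn : D.Normal := by rw [hD]; exact Subgroup.normal_centralizer
  obtain ⟨Z₀, hZ₀⟩ : ∃ Z₀ : Subgroup Q, Z₀ = W ⊓ D := ⟨_, rfl⟩
  haveI hZ₀n : Z₀.Normal := by rw [hZ₀]; exact Subgroup.normal_inf_normal _ _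
  haveI hZn : (Z₀.subgroupOf D).Normal := hZ₀n.subgroupOf D
  have hQ₂ : IsPGroup p (↥D ⧸ Z₀.subgroupOf D) := (hQ.to_subgroup D).to_quotient _
  obtain ⟨Z, hZ⟩ : ∃ Z : Subgroup Q, Z = ((nW p (↥D ⧸ Z₀.subgroupOf D)).comap
      (QuotientGroup.mk' (Z₀.subgroupOf D))).map D.subtype := ⟨_, rfl⟩
  have hU : W ⊔ Z ∈ nSet p Q := by
    intro H _ _ ι hι hT hCov hcons
    rw [Subgroup.map_sup]
    haveI hW'n : (W.map ι).Normal := by
      rw [hWdef]; exact nW_map_normal ι hι hT hCov hcons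
    haveI hZ'n : (Z.map ι).Normal := by
      rw [hZ]
      exact key_normal hp3 hQ ι hι hT hCov hcons W hWdef D hD Z₀ hZ₀
    exact Subgroup.sup_normal _ _
  have hZW : Z ≤ W := by
    have h1 := le_nW hU
    rw [← hWdef] at h1
    exact le_sup_right.trans h1
  intro d hd
  by_contra hdW
  have hnt : Nontrivial (↥D ⧸ Z₀.subgroupOf D) := by
    refine ⟨⟨QuotientGroup.mk ⟨d, hd⟩, 1, fun h => hdW ?_⟩⟩
    rw [QuotientGroup.eq_one_iff, Subgroup.mem_subgroupOf, hZ₀] at h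
    exact h.1
  apply (nW_char hp3).1 (↥D ⧸ Z₀.subgroupOf D) hQ₂ hnt
  rw [eq_bot_iff]
  intro y hy
  obtain ⟨⟨e, heD⟩, rfl⟩ := QuotientGroup.mk_surjective y
  have h1 : e ∈ Z := by
    rw [hZ]
    exact ⟨⟨e, heD⟩, hy, rfl⟩
  rw [Subgroup.mem_bot, QuotientGroup.eq_one_iff, Subgroup.mem_subgroupOf, hZ₀]
  exact ⟨hZW h1, heD⟩

/-- For `p > 3`, a finite group which is `p`-stable in the normalizer form has a subgroup `Q` of
its Sylow `p`-subgroup `P` with `C_P(Q) ≤ Q` whose normalizer controls strong fusion in `P`. -/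
theorem exists_centric_control {G : Type u} [Group G] [Finite G] (hp3 : 3 < p)
    (hst : Cfsg.IsNormalizerPStable p G) (P : Sylow p G) :
    ∃ Q : Subgroup G, Q ≤ (P : Subgroup G) ∧
      (P : Subgroup G) ⊓ Subgroup.centralizer (Q : Set G) ≤ Q ∧
      ∀ A : Set G, A ⊆ (P : Subgroup G) →
        Cfsg.ControlsStrongFusionOf (Subgroup.normalizer (Q : Set G)) (P : Subgroup G) A := by
  classical
  have hG : Cov p G := by
    refine ⟨G, inferInstance, inferInstance, MonoidHom.id G, Function.surjective_id, hst, ?_⟩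
    intro y n _ hn _
    rw [MonoidHom.mem_ker] at hn
    have h1 : n = 1 := hn
    rw [h1, mul_one, one_mul]
  refine ⟨inducedFunctor (nW p) (P : Subgroup G), ?_, ?_, nW_controls hp3 hG P⟩
  · unfold inducedFunctor
    exact Subgroup.map_subtype_le _
  · intro x hx
    obtain ⟨hxP, hxc⟩ := Subgroup.mem_inf.mp hx
    have h1 : (⟨x, hxP⟩ : ↥(P : Subgroup G)) ∈
        Subgroup.centralizer ((nW p ↥(P : Subgroup G) : Subgroup ↥(P : Subgroup G)) :
          Set ↥(P : Subgroup G)) := by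
      rw [Subgroup.mem_centralizer_iff]
      intro w hw
      apply Subtype.ext
      rw [Subgroup.coe_mul, Subgroup.coe_mul]
      rw [Subgroup.mem_centralizer_iff] at hxc
      exact hxc (w : G) ⟨w, hw, rfl⟩
    have h2 := nW_centric hp3 ↥(P : Subgroup G) P.isPGroup' h1
    exact ⟨⟨x, hxP⟩, h2, rfl⟩

end Cfsg.Agent.Helper23.Fc
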