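import Cfsg.Agent.S0650
import Cfsg.Agent.Helper23.ZJ2

/-!
Helper library (helper23): the rank statement in the extended Glauberman replacement theorem.
-/

set_option autoImplicit false

namespace Cfsg.Agent.Helper23

open scoped commutatorElement

variable {G : Type*} [Group G]

/-- The elements of order dividing `p` of an abelian subgroup. -/
def omegaSub (p : ℕ) (A : Subgroup G) (hA : ∀ x ∈ A, ∀ y ∈ A, x * y = y * x) : Subgroup G where
  carrier := {x | x ∈ A ∧ x ^ p = 1}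
  one_mem' := ⟨A.one_mem, one_pow p⟩
  mul_mem' := by
    rintro x y ⟨hx, hxp⟩ ⟨hy, hyp⟩
    refine ⟨A.mul_mem hx hy, ?_⟩
    rw [(show Commute x y from hA x hx y hy).mul_pow, hxp, hyp, one_mul]
  inv_mem' := by
    rintro x ⟨hx, hxp⟩
    exact ⟨A.inv_mem hx, by rw [inv_pow, hxp, inv_one]⟩

theorem omegaOne_eq_omegaSub (p : ℕ) (A : Subgroup G)
    (hA : ∀ x ∈ A, ∀ y ∈ A, x * y = y * x) : Cfsg.omegaOne p A = omegaSub p A hA := by
  apply le_antisymm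
  · exact (Subgroup.closure_le _).2 (fun x hx => hx)
  · intro x hx; exact Subgroup.subset_closure hx

theorem card_omegaSub [Finite G] (p : ℕ) (A : Subgroup G)
    (hA : ∀ x ∈ A, ∀ y ∈ A, x * y = y * x) :
    Nat.card (omegaSub p A hA) = (Set.toFinite {x : G | x ∈ A ∧ x ^ p = 1}).toFinset.card := by
  rw [← Set.ncard_eq_toFinset_card]
  exact Nat.card_coe_set_eq _

/-- In the situation of Glauberman's replacement theorem (`p` odd), the replacement has at least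
as many elements of order dividing `p` as `A`. -/
theorem card_omegaOne_le_replacement {S : Type*} [Group S] [Finite S] {p : ℕ} [Fact p.Prime]
    (hp : p ≠ 2) (A : Subgroup S) (hAc : ∀ x ∈ A, ∀ y ∈ A, x * y = y * x) (b : S)
    (hbN : b ∈ Subgroup.normalizer ((Subgroup.normalizer (A : Set S)) : Set S))
    (hAsc : ∀ x ∈ ((A ⊓ A.map (MulAut.conj (b⁻¹)).toMonoidHom) ⊔
        Subgroup.closure {g : S | ∃ a ∈ A, g = a * b⁻¹ * a⁻¹ * b}),
      ∀ y ∈ ((A ⊓ A.map (MulAut.conj (b⁻¹)).toMonoidHom) ⊔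
        Subgroup.closure {g : S | ∃ a ∈ A, g = a * b⁻¹ * a⁻¹ * b}), x * y = y * x) :
    Nat.card (Cfsg.omegaOne p A) ≤
      Nat.card (Cfsg.omegaOne p ((A ⊓ A.map (MulAut.conj (b⁻¹)).toMonoidHom) ⊔
        Subgroup.closure {g : S | ∃ a ∈ A, g = a * b⁻¹ * a⁻¹ * b})) := by
  classical
  have hpp : p.Prime := Fact.out
  have hAb_iff : ∀ y : S, y ∈ A.map (MulAut.conj (b⁻¹)).toMonoidHom ↔ b * y * b⁻¹ ∈ A := by
    intro y
    constructor
    · rintro ⟨x, hx, rfl⟩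
      have e : b * ((MulAut.conj b⁻¹).toMonoidHom x) * b⁻¹ = x := by
        simp only [MulEquiv.toMonoidHom_eq_coe, MonoidHom.coe_coe, MulAut.conj_apply, inv_inv]
        group
      rw [e]; exact hx
    · intro h
      refine ⟨b * y * b⁻¹, h, ?_⟩
      simp only [MulEquiv.toMonoidHom_eq_coe, MonoidHom.coe_coe, MulAut.conj_apply, inv_inv]
      group
  rw [omegaOne_eq_omegaSub p A hAc, omegaOne_eq_omegaSub p _ hAsc, card_omegaSub, card_omegaSub]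
  set Ab := A.map (MulAut.conj (b⁻¹)).toMonoidHom with hAbdef
  set D := Subgroup.closure {g : S | ∃ a ∈ A, g = a * b⁻¹ * a⁻¹ * b} with hDdef
  set Z := A ⊓ Ab with hZdef
  set Astar := Z ⊔ D with hAstar
  have hM : ∀ m ∈ Subgroup.normalizer (A : Set S), ∀ x ∈ A, m * x * m⁻¹ ∈ A :=
    fun m hm x hx => (Subgroup.mem_normalizer_iff.1 hm x).1 hx
  have hAM : A ≤ Subgroup.normalizer (A : Set S) := Subgroup.le_normalizer
  have hbM : ∀ m ∈ Subgroup.normalizer (A : Set S),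
      b * m * b⁻¹ ∈ Subgroup.normalizer (A : Set S) := fun m hm =>
    (Subgroup.mem_normalizer_iff.1 hbN m).1 hm
  have hbM' : ∀ m ∈ Subgroup.normalizer (A : Set S),
      b⁻¹ * m * b ∈ Subgroup.normalizer (A : Set S) := fun m hm => by
    have := (Subgroup.mem_normalizer_iff.1 (inv_mem hbN) m).1 hm
    rwa [inv_inv] at this
  have hAbM : ∀ y ∈ Ab, y ∈ Subgroup.normalizer (A : Set S) := fun y hy => by
    have h1 := hbM' _ (hAM ((hAb_iff y).1 hy))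
    have e : b⁻¹ * (b * y * b⁻¹) * b = y := by group
    rwa [e] at h1
  have hAAb : ∀ a ∈ A, ∀ y ∈ Ab, a * y * a⁻¹ ∈ Ab := fun a ha y hy => by
    rw [hAb_iff]
    have h1 := hM _ (hbM a (hAM ha)) _ ((hAb_iff y).1 hy)
    have e : b * (a * y * a⁻¹) * b⁻¹ = b * a * b⁻¹ * (b * y * b⁻¹) * (b * a * b⁻¹)⁻¹ := by
      group
    rw [e]; exact h1
  have hAbc : ∀ y ∈ Ab, ∀ y' ∈ Ab, y * y' = y' * y := fun y hy y' hy' => by
    have h1 := hAc _ ((hAb_iff y).1 hy) _ ((hAb_iff y').1 hy')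
    calc y * y' = b⁻¹ * ((b * y * b⁻¹) * (b * y' * b⁻¹)) * b := by group
      _ = b⁻¹ * ((b * y' * b⁻¹) * (b * y * b⁻¹)) * b := by rw [h1]
      _ = y' * y := by group
  have hcomZ : ∀ a ∈ A, ∀ y ∈ Ab, a * y * a⁻¹ * y⁻¹ ∈ Z := fun a ha y hy => by
    refine Subgroup.mem_inf.2 ⟨?_, ?_⟩
    · have h1 := hM y (hAbM y hy) a⁻¹ (inv_mem ha)
      have e : a * y * a⁻¹ * y⁻¹ = a * (y * a⁻¹ * y⁻¹) := by group
      rw [e]; exact mul_mem ha h1
    · exact mul_mem (hAAb a ha y hy) (inv_mem hy)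
  have hZA : ∀ z ∈ Z, ∀ a ∈ A, z * a = a * z := fun z hz a ha => hAc z hz.1 a ha
  have hZAb : ∀ z ∈ Z, ∀ y ∈ Ab, z * y = y * z := fun z hz y hy => hAbc z hz.2 y hy
  have hyAb : ∀ a ∈ A, b⁻¹ * a * b ∈ Ab := fun a ha => by
    rw [hAb_iff]
    have e : b * (b⁻¹ * a * b) * b⁻¹ = a := by group
    rw [e]; exact ha
  have hZS : Z ≤ Astar := le_sup_left
  have hDS : D ≤ Astar := le_sup_right
  have hθmem : ∀ x ∈ A, x * b⁻¹ * x⁻¹ * b ∈ Astar := fun x hx =>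
    hDS (Subgroup.subset_closure ⟨x, hx, rfl⟩)
  -- `θ x` has order dividing `p` when `x` does
  have hθp : ∀ x ∈ A, x ^ p = 1 → (x * b⁻¹ * x⁻¹ * b) ^ p = 1 := by
    intro x hx hxp
    have hy : b⁻¹ * x⁻¹ * b ∈ Ab := hyAb _ (inv_mem hx)
    have hyp : (b⁻¹ * x⁻¹ * b) ^ p = 1 := by
      have e : b⁻¹ * x⁻¹ * b = b⁻¹ * x⁻¹ * b⁻¹⁻¹ := by rw [inv_inv]
      rw [e, conj_pow, inv_pow, hxp, inv_one, mul_one, mul_inv_cancel]
    have hc : x⁻¹ * (b⁻¹ * x⁻¹ * b) * x * (b⁻¹ * x⁻¹ * b)⁻¹ ∈ Z := by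
      have h := hcomZ x⁻¹ (inv_mem hx) _ hy
      rwa [inv_inv] at h
    set y := b⁻¹ * x⁻¹ * b with hydef
    set c := x⁻¹ * y * x * y⁻¹ with hcdef
    have hcx : Commute c x := hZA c hc x hx
    have hcy : Commute c y := hZAb c hc y hy
    have hyx : y * x = x * y * c := by
      calc y * x = x * (c * y) := by rw [hcdef]; group
        _ = x * (y * c) := by rw [hcy.eq]
        _ = x * y * c := by group
    have hxy : x * y = y * x * c⁻¹ := by rw [hyx]; group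
    have h1 := pow_mul_comm_central hxy hcx.inv_left p
    rw [hxp, one_mul, mul_one] at h1
    have hcp : c ^ p = 1 := by
      have h2 : c⁻¹ ^ p = 1 := by
        have h3 : y * c⁻¹ ^ p = y * 1 := by rw [mul_one]; exact h1.symm
        exact mul_left_cancel h3
      rw [inv_pow, inv_eq_one] at h2
      exact h2
    have h4 := mul_pow_prime_of_central hpp hp hyx hcx hcy hcp
    have e : x * b⁻¹ * x⁻¹ * b = x * y := by rw [hydef]; group
    rw [e, h4, hxp, hyp, one_mul]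
  -- the counting argument
  set ΩA : Finset S := (Set.toFinite {x : S | x ∈ A ∧ x ^ p = 1}).toFinset with hΩA
  set ΩE : Finset S := (Set.toFinite {x : S | x ∈ Astar ∧ x ^ p = 1}).toFinset with hΩE
  set ΩZ : Finset S := (Set.toFinite {x : S | x ∈ Z ∧ x ^ p = 1}).toFinset with hΩZ
  set ΩH : Finset S :=
    (Set.toFinite {x : S | x ∈ A ∧ b⁻¹ * x * b ∈ A ∧ x ^ p = 1}).toFinset with hΩH
  have mA : ∀ x, x ∈ ΩA ↔ x ∈ A ∧ x ^ p = 1 := fun x => Set.Finite.mem_toFinset _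
  have mE : ∀ x, x ∈ ΩE ↔ x ∈ Astar ∧ x ^ p = 1 := fun x => Set.Finite.mem_toFinset _
  have mZ : ∀ x, x ∈ ΩZ ↔ x ∈ Z ∧ x ^ p = 1 := fun x => Set.Finite.mem_toFinset _
  have mH : ∀ x, x ∈ ΩH ↔ x ∈ A ∧ b⁻¹ * x * b ∈ A ∧ x ^ p = 1 :=
    fun x => Set.Finite.mem_toFinset _
  have hHZ : ΩH.card ≤ ΩZ.card := by
    apply Finset.card_le_card_of_injOn (fun x => b⁻¹ * x * b)
    · intro x hx
      have hx' := (mH x).1 (Finset.mem_coe.1 hx)
      apply Finset.mem_coe.2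
      rw [mZ]
      refine ⟨Subgroup.mem_inf.2 ⟨hx'.2.1, hyAb x hx'.1⟩, ?_⟩
      have e : b⁻¹ * x * b = b⁻¹ * x * b⁻¹⁻¹ := by rw [inv_inv]
      show (b⁻¹ * x * b) ^ p = 1
      rw [e, conj_pow, hx'.2.2, mul_one, mul_inv_cancel]
    · intro x _ x' _ h
      have h' : b⁻¹ * x * b = b⁻¹ * x' * b := h
      calc x = b * (b⁻¹ * x * b) * b⁻¹ := by group
        _ = b * (b⁻¹ * x' * b) * b⁻¹ := by rw [h']
        _ = x' := by group
  set f : S × S → S := fun q => q.1 * (q.2 * b⁻¹ * q.2⁻¹ * b) with hf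
  have himg : (ΩZ ×ˢ ΩA).image f ⊆ ΩE := by
    intro y hy
    obtain ⟨q, hq, rfl⟩ := Finset.mem_image.1 hy
    rw [Finset.mem_product] at hq
    have h1 := (mZ q.1).1 hq.1
    have h2 := (mA q.2).1 hq.2
    rw [mE]
    refine ⟨Astar.mul_mem (hZS h1.1) (hθmem q.2 h2.1), ?_⟩
    have hcomm : Commute q.1 (q.2 * b⁻¹ * q.2⁻¹ * b) :=
      hAsc _ (hZS h1.1) _ (hθmem q.2 h2.1)
    show (q.1 * (q.2 * b⁻¹ * q.2⁻¹ * b)) ^ p = 1
    rw [hcomm.mul_pow, h1.2, hθp q.2 h2.1 h2.2, one_mul]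
  have hfib : ∀ y ∈ (ΩZ ×ˢ ΩA).image f,
      ((ΩZ ×ˢ ΩA).filter (fun q => f q = y)).card ≤ ΩZ.card := by
    intro y hy
    obtain ⟨q₀, hq₀, rfl⟩ := Finset.mem_image.1 hy
    rw [Finset.mem_product] at hq₀
    have h01 := (mZ q₀.1).1 hq₀.1
    have h02 := (mA q₀.2).1 hq₀.2
    refine le_trans ?_ hHZ
    apply Finset.card_le_card_of_injOn (fun q => q₀.2⁻¹ * q.2)
    · intro q hq
      have hq' := Finset.mem_filter.1 (Finset.mem_coe.1 hq)
      have hq1 := Finset.mem_product.1 hq'.1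
      have h1 := (mZ q.1).1 hq1.1
      have h2 := (mA q.2).1 hq1.2
      have heq : q.1 * (q.2 * b⁻¹ * q.2⁻¹ * b) = q₀.1 * (q₀.2 * b⁻¹ * q₀.2⁻¹ * b) := hq'.2
      apply Finset.mem_coe.2
      rw [mH]
      refine ⟨A.mul_mem (A.inv_mem h02.1) h2.1, ?_, ?_⟩
      · have h3 : q₀.1⁻¹ * q.1 ∈ A := A.mul_mem (A.inv_mem h01.1.1) h1.1.1
        have e : b⁻¹ * (q₀.2⁻¹ * q.2) * b =
            q₀.2⁻¹ * (q₀.1⁻¹ * (q₀.1 * (q₀.2 * b⁻¹ * q₀.2⁻¹ * b)) *
              (q.1 * (q.2 * b⁻¹ * q.2⁻¹ * b))⁻¹ * q.1) * q.2 := by group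
        rw [e, heq]
        have e2 : q₀.1⁻¹ * (q₀.1 * (q₀.2 * b⁻¹ * q₀.2⁻¹ * b)) *
            (q₀.1 * (q₀.2 * b⁻¹ * q₀.2⁻¹ * b))⁻¹ * q.1 = q₀.1⁻¹ * q.1 := by group
        rw [e2]
        exact A.mul_mem (A.mul_mem (A.inv_mem h02.1) h3) h2.1
      · have hcomm : Commute q₀.2⁻¹ q.2 := hAc _ (A.inv_mem h02.1) _ h2.1
        rw [hcomm.mul_pow, inv_pow, h02.2, h2.2, inv_one, one_mul]
    · intro q hq q' hq' h
      have hq1 := Finset.mem_filter.1 (Finset.mem_coe.1 hq)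
      have hq1' := Finset.mem_filter.1 (Finset.mem_coe.1 hq')
      have h2 : q.2 = q'.2 := mul_left_cancel (show q₀.2⁻¹ * q.2 = q₀.2⁻¹ * q'.2 from h)
      have heq : q.1 * (q.2 * b⁻¹ * q.2⁻¹ * b) = q'.1 * (q'.2 * b⁻¹ * q'.2⁻¹ * b) :=
        hq1.2.trans hq1'.2.symm
      rw [h2] at heq
      exact Prod.ext (mul_right_cancel heq) h2
  have h1 := Finset.card_le_mul_card_image (ΩZ ×ˢ ΩA) ΩZ.card hfib
  rw [Finset.card_product] at h1
  have h2 : ((ΩZ ×ˢ ΩA).image f).card ≤ ΩE.card := Finset.card_le_card himg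
  have hpos : 0 < ΩZ.card := Finset.card_pos.2 ⟨1, (mZ 1).2 ⟨Z.one_mem, one_pow p⟩⟩
  have h3 : ΩZ.card * ΩA.card ≤ ΩZ.card * ΩE.card := h1.trans (Nat.mul_le_mul_left _ h2)
  exact Nat.le_of_mul_le_mul_left h3 hpos

end Cfsg.Agent.Helper23
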