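import Cfsg.Agent.Helper10.NpcMin
import Cfsg.Agent.Helper23.NpcGen

/-!
Helper library (helper23): the reduction of "normal `p`-complement" theorems to the minimal
configuration `Cfsg.Agent.Helper10.MinStr`, for an abstract hypothesis `Hyp H T` on a finite
group `H` with a Sylow `p`-subgroup `T` (adapted from helper10's `npc_reduction`, which treats
the hypothesis "the normalizer of `W(T)` has a normal `p`-complement").
-/

set_option autoImplicit false

namespace Cfsg.Agent.Helper23

open Cfsg Cfsg.Agent.Helper10

universe u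

section NpcGen2

variable {p : ℕ} [Fact p.Prime]

/-- Abstract reduction to the minimal configuration, inside a class of groups closed under
subgroups and quotients. -/
theorem npc_reduction_hyp_class
    (𝒞 : ∀ (H : Type u) [Group H], Prop)
    (hsubC : ∀ (H : Type u) [Group H] [Finite H], 𝒞 H → ∀ L : Subgroup H, 𝒞 ↥L)
    (hquotC : ∀ (H : Type u) [Group H] [Finite H], 𝒞 H → ∀ (M : Subgroup H) [M.Normal], 𝒞 (H ⧸ M))
    (Hyp : ∀ (H : Type u) [Group H], Sylow p H → Prop)
    (hconj : ∀ (H : Type u) [Group H] [Finite H] (T T' : Sylow p H), Hyp H T → Hyp H T')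
    (hsub : ∀ (H : Type u) [Group H] [Finite H] (T : Sylow p H) (L : Subgroup H)
      (hTL : (T : Subgroup H) ≤ L), Hyp H T → Hyp ↥L (T.subtype hTL))
    (hloc : ∀ (H : Type u) [Group H] [Finite H] (T : Sylow p H), Hyp H T →
      ∀ (D : Subgroup H), IsPGroup p D → D ≠ ⊥ →
      ∀ (T₁ : Sylow p ↥(Subgroup.normalizer (D : Set H))),
      (∀ D' : Subgroup H, D' ≠ ⊥ → IsPGroup p D' →
        Subgroup.normalizer ((((T₁ : Subgroup ↥(Subgroup.normalizer (D : Set H))).map
          (Subgroup.normalizer (D : Set H)).subtype : Subgroup H)) : Set H) ≤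
            Subgroup.normalizer (D' : Set H) →
        HasNormalPComplement p ↥(Subgroup.normalizer (D' : Set H))) →
      Hyp ↥(Subgroup.normalizer (D : Set H)) T₁)
    (hquo : ∀ (H : Type u) [Group H] [Finite H] (T : Sylow p H), pCore p H = ⊥ →
      (T : Subgroup H) ≠ ⊥ →
      (∀ L : Subgroup H, (T : Subgroup H) ≤ L → L ≠ ⊤ → HasNormalPComplement p ↥L) → Hyp H T)
    (hpq : ∀ (H : Type u) [Group H] [Finite H] (T : Sylow p H) (R : Subgroup H) [R.Normal],
      (Nat.card R).Coprime p → Hyp H T →
        Hyp (H ⧸ R) (T.mapSurjective (QuotientGroup.mk'_surjective R)))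
    (hmin : ∀ (H : Type u) [Group H] [Finite H], 𝒞 H → ∀ (T : Sylow p H), MinStr p H T →
      Hyp H T → False) :
    ∀ (n : ℕ) (H : Type u) [Group H] [Finite H], Nat.card H = n → 𝒞 H → ∀ T : Sylow p H,
      Hyp H T → HasNormalPComplement p H := by
  have hp : p.Prime := Fact.out
  intro n
  induction n using Nat.strong_induction_on with
  | _ n ih =>
  intro H _ _ hn hC T hT
  by_contra hnpc
  -- proper subgroups containing `T` have normal `p`-complements
  have sub_npc : ∀ L : Subgroup H, (T : Subgroup H) ≤ L → L ≠ ⊤ → HasNormalPComplement p ↥L := by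
    intro L hTL hL
    have hcard : Nat.card ↥L < n := by rw [← hn]; exact card_lt_of_ne_top hL
    exact ih _ hcard ↥L rfl (hsubC H hC L) (T.subtype hTL) (hsub H T L hTL hT)
  -- `O_p(H) ≠ 1`
  have hP0 : pCore p H ≠ ⊥ := by
    have hloc : ¬ Cfsg.Agent.Helper1.LocalP p H :=
      fun h => hnpc (Cfsg.Agent.Helper1.npc_of_local h)
    unfold Cfsg.Agent.Helper1.LocalP at hloc
    push Not at hloc
    obtain ⟨Q, hQ, g, hg, hgo, hgc⟩ := hloc
    let S : Set (Subgroup H) := {D | IsPGroup p D ∧ D ≠ ⊥ ∧
      ¬ HasNormalPComplement p ↥(Subgroup.normalizer (D : Set H))}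
    have hQS : Q ∈ S := by
      refine ⟨hQ, ?_, ?_⟩
      · rintro rfl
        apply hgc
        rw [Subgroup.mem_centralizer_iff]
        intro h hh
        have : h = 1 := Subgroup.mem_bot.mp hh
        rw [this]; simp
      · intro hN
        have hL := Cfsg.Agent.Helper1.local_of_npc hN
        have h1 := hL (Q.subgroupOf (Subgroup.normalizer (Q : Set H))) hQ.comap_subtype
          ⟨g, hg⟩ (by
            rw [Subgroup.mem_normalizer_iff]
            intro y
            rw [Subgroup.mem_subgroupOf, Subgroup.mem_subgroupOf]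
            exact (Subgroup.mem_normalizer_iff.mp hg) (y : H))
          (by rw [Subgroup.orderOf_mk]; exact hgo)
        apply hgc
        rw [Subgroup.mem_centralizer_iff]
        intro x hx
        have h2 := (Subgroup.mem_centralizer_iff.mp h1) ⟨x, Subgroup.le_normalizer hx⟩
          (Subgroup.mem_subgroupOf.mpr hx)
        exact congrArg Subtype.val h2
    obtain ⟨D, hDS, hmax⟩ := Set.Finite.exists_maximalFor
      (fun D : Subgroup H => (Nat.card ↥(Subgroup.normalizer (D : Set H))).factorization p) S
      (Set.toFinite S) ⟨Q, hQS⟩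
    obtain ⟨hDp, hDne, hDnpc⟩ := hDS
    have hMtop : Subgroup.normalizer (D : Set H) = ⊤ := by
      by_contra hM
      set M := Subgroup.normalizer (D : Set H) with hMdef
      have hcardM : Nat.card ↥M < n := by rw [← hn]; exact card_lt_of_ne_top hM
      obtain ⟨T₁'⟩ : Nonempty (Sylow p ↥M) := inferInstance
      set T₁ := (T₁' : Subgroup ↥M).map M.subtype with hT₁def
      have hT₁p : IsPGroup p T₁ := T₁'.2.map _
      have hT₁card : Nat.card T₁ = p ^ (Nat.card ↥M).factorization p := by
        rw [hT₁def, Subgroup.card_map_of_injective M.subtype_injective]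
        exact T₁'.card_eq_multiplicity
      have hpM : p ∣ Nat.card ↥M := by
        obtain ⟨k, hk⟩ := IsPGroup.iff_card.mp hDp
        have hk0 : k ≠ 0 := by
          rintro rfl
          rw [pow_zero] at hk
          exact hDne ((Subgroup.card_eq_one).mp hk)
        have h1 : p ∣ Nat.card ↥D := by rw [hk]; exact dvd_pow_self p hk0
        exact h1.trans (Subgroup.card_dvd_of_le Subgroup.le_normalizer)
      have hT₁ne : T₁ ≠ ⊥ := by
        intro h
        rw [h, Subgroup.card_bot] at hT₁card
        have h2 : (Nat.card ↥M).factorization p = 0 := by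
          by_contra h3
          have : 1 < p ^ (Nat.card ↥M).factorization p := Nat.one_lt_pow h3 hp.one_lt
          omega
        have h4 := (Nat.factorization_eq_zero_iff _ _).mp h2
        rcases h4 with h4 | h4 | h4
        · exact h4 hp
        · exact h4 hpM
        · exact (Nat.card_pos (α := ↥M)).ne' h4
      -- the induction hypothesis on `M`
      -- the induction hypothesis on `M`
      have hIH := ih _ hcardM ↥M rfl (hsubC H hC M) T₁'
      have hnH : ¬ Hyp ↥M T₁' := fun h => hDnpc (hIH h)
      obtain ⟨Ts, hTs⟩ := hT₁p.exists_le_sylow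
      by_cases hEq : T₁ = (Ts : Subgroup H)
      · -- `T₁` is a Sylow subgroup of `H`
        have hTsM : (Ts : Subgroup H) ≤ M := by
          rw [← hEq, hT₁def]; exact Subgroup.map_subtype_le _
        have h1 := hsub H Ts M hTsM (hconj H T Ts hT)
        have h2 : Ts.subtype hTsM = T₁' := by
          apply Sylow.ext
          rw [Sylow.coe_subtype, ← hEq, hT₁def]
          exact Subgroup.comap_map_eq_self_of_injective M.subtype_injective _
        rw [h2] at h1
        exact hnH h1
      · -- normalizers grow
        have hne : ¬ (Ts : Subgroup H) ≤ T₁ := fun h => hEq (le_antisymm hTs h)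
        obtain ⟨x, hxTs, hxT₁, hxN⟩ :=
          Cfsg.Agent.Helper16.exists_mem_normalizer_not_mem Ts.2 hTs hne
        set T₂ := (Ts : Subgroup H) ⊓ Subgroup.normalizer (T₁ : Set H) with hT₂def
        have hT₂p : IsPGroup p T₂ := Ts.2.to_le inf_le_left
        have hT₁₂ : T₁ < T₂ := by
          refine lt_of_le_of_ne (le_inf hTs Subgroup.le_normalizer) ?_
          intro h
          apply hxT₁
          rw [h]
          exact ⟨hxTs, hxN⟩
        obtain ⟨j, hj⟩ := IsPGroup.iff_card.mp hT₂p
        have hlt : Nat.card T₁ < Nat.card T₂ := by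
          have hle := Subgroup.card_le_of_le hT₁₂.le
          rcases hle.lt_or_eq with h | h
          · exact h
          · exact absurd (Subgroup.eq_of_le_of_card_ge hT₁₂.le h.ge) hT₁₂.ne
        rw [hT₁card, hj] at hlt
        have hj1 : (Nat.card ↥M).factorization p < j := (Nat.pow_lt_pow_iff_right hp.one_lt).mp hlt
        apply hnH
        apply hloc H T hT D hDp hDne T₁'
        intro D' hD'ne hD'p hND'
        by_contra hnpc'
        have hD'S : D' ∈ S := ⟨hD'p, hD'ne, hnpc'⟩
        have hT₂N : T₂ ≤ Subgroup.normalizer (D' : Set H) := inf_le_right.trans hND'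
        have hdvd : p ^ j ∣ Nat.card ↥(Subgroup.normalizer (D' : Set H)) := by
          rw [← hj]; exact Subgroup.card_dvd_of_le hT₂N
        have hj2 : j ≤ (Nat.card ↥(Subgroup.normalizer (D' : Set H))).factorization p :=
          (hp.pow_dvd_iff_le_factorization (Nat.card_pos).ne').mp hdvd
        have h6 : (Nat.card ↥(Subgroup.normalizer (D' : Set H))).factorization p
            ≤ (Nat.card ↥M).factorization p := hmax hD'S (le_trans hj1.le hj2)
        omega
    have hDn : D.Normal := Subgroup.normalizer_eq_top_iff.mp hMtop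
    intro h
    apply hDne
    rw [eq_bot_iff, ← h]
    exact Cfsg.Agent.Helper23.le_pCore hDn hDp
  -- `O_{p'}(H) = 1`
  have hR : pPrimeCore p H = ⊥ := by
    by_contra hRne
    haveI hRn : (pPrimeCore p H).Normal := Cfsg.Agent.Helper23.pPrimeCore_normal_fin p
    have hRc : (Nat.card (pPrimeCore p H)).Coprime p := Cfsg.Agent.Helper23.pPrimeCore_coprime p
    have hcard : Nat.card (H ⧸ pPrimeCore p H) < n := by
      rw [← hn]; exact card_quot_lt_of_ne_bot hRne
    have h1 := ih _ hcard (H ⧸ pPrimeCore p H) rfl (hquotC H hC (pPrimeCore p H))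
      (T.mapSurjective (QuotientGroup.mk'_surjective (pPrimeCore p H)))
      (hpq H T (pPrimeCore p H) hRc hT)
    exact hnpc (npc_of_quot_coprime (pPrimeCore p H) hRc h1)
  -- `H / O_p(H)` has a normal `p`-complement
  have hquotnpc : HasNormalPComplement p (H ⧸ pCore p H) := by
    have hπ : Function.Surjective (QuotientGroup.mk' (pCore p H)) :=
      QuotientGroup.mk'_surjective _
    have hcard : Nat.card (H ⧸ pCore p H) < n := by
      rw [← hn]; exact card_quot_lt_of_ne_bot hP0
    set Tb : Sylow p (H ⧸ pCore p H) := T.mapSurjective hπ with hTb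
    by_cases hTbot : (Tb : Subgroup (H ⧸ pCore p H)) = ⊥
    · apply npc_of_coprime
      have h2 := Tb.not_dvd_index
      rw [hTbot, Subgroup.index_bot] at h2
      exact ((Nat.Prime.coprime_iff_not_dvd hp).mpr h2).symm
    · apply ih _ hcard (H ⧸ pCore p H) rfl (hquotC H hC (pCore p H)) Tb
      apply hquo (H ⧸ pCore p H) Tb pCore_quot_pCore hTbot
      intro Lb hTLb hLb
      have hTL : (T : Subgroup H) ≤ Lb.comap (QuotientGroup.mk' (pCore p H)) := by
        intro x hx
        apply hTLb
        rw [hTb, Sylow.coe_mapSurjective]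
        exact Subgroup.mem_map_of_mem _ hx
      have hL : Lb.comap (QuotientGroup.mk' (pCore p H)) ≠ ⊤ := by
        intro h
        apply hLb
        rw [eq_top_iff]
        intro y _
        obtain ⟨x, rfl⟩ := hπ y
        have : x ∈ Lb.comap (QuotientGroup.mk' (pCore p H)) := by rw [h]; trivial
        exact this
      have h2 := sub_npc _ hTL hL
      exact npc_of_surj ((QuotientGroup.mk' (pCore p H)).subgroupComap Lb)
        ((QuotientGroup.mk' (pCore p H)).subgroupComap_surjective_of_surjective Lb hπ) h2
  -- `C_H(O_p(H)) ≤ O_p(H)`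
  have hcons : Subgroup.centralizer (pCore p H : Set H) ≤ pCore p H := by
    apply Cfsg.Agent.Helper23.hall_higman _ hR
    apply Cfsg.Agent.Helper23.isPSolvable_of_bottom (pCore p H)
      (Or.inl (IsPGroup.iff_card.mp (Cfsg.Agent.Helper23.pCore_isPGroup p)))
    obtain ⟨N, k, hN, hcop, hk⟩ := Cfsg.Agent.Helper16.npc_exists hquotnpc
    haveI := hN
    apply Cfsg.Agent.Helper23.isPSolvable_of_bottom N (Or.inr hcop)
    exact isPSolvable_of_card_pow k (by rw [← Subgroup.index_eq_card, hk])
  have hP0T : pCore p H ≤ (T : Subgroup H) :=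
    Cfsg.Agent.Helper23.le_sylow_of_normal (Cfsg.Agent.Helper23.pCore_normal_fin p)
      (Cfsg.Agent.Helper23.pCore_isPGroup p) T
  -- `T` is a maximal subgroup
  have hcoatom : IsCoatom (T : Subgroup H) := by
    constructor
    · intro hTtop
      apply hnpc
      apply npc_of_isPGroup
      have h1 : IsPGroup p ↥(⊤ : Subgroup H) := hTtop ▸ T.2
      intro x
      obtain ⟨k, hk⟩ := h1 ⟨x, trivial⟩
      exact ⟨k, congrArg Subtype.val hk⟩
    · intro L hTL
      by_contra hL
      have h2 := sub_npc L hTL.le hL
      obtain ⟨N, k, hN, hcop, hk⟩ := Cfsg.Agent.Helper16.npc_exists h2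
      have hNbot : N = ⊥ := by
        rw [eq_bot_iff]
        intro y hy
        have hymap : (y : H) ∈ N.map L.subtype := ⟨y, hy, rfl⟩
        have hcopm : (Nat.card ↥(N.map L.subtype)).Coprime p := by
          rw [Subgroup.card_map_of_injective L.subtype_injective]; exact hcop
        have hyc : (y : H) ∈ Subgroup.centralizer (pCore p H : Set H) := by
          rw [Subgroup.mem_centralizer_iff]
          intro z hz
          have hzL : z ∈ L := hTL.le (hP0T hz)
          have hc1 : (y : H) * z * (y : H)⁻¹ * z⁻¹ ∈ N.map L.subtype := by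
            refine ⟨y * (⟨z, hzL⟩ * y⁻¹ * ⟨z, hzL⟩⁻¹), N.mul_mem hy
              (hN.conj_mem _ (N.inv_mem hy) _), ?_⟩
            simp [mul_assoc]
          have hc2 : (y : H) * z * (y : H)⁻¹ * z⁻¹ ∈ pCore p H :=
            (pCore p H).mul_mem
              ((Cfsg.Agent.Helper23.pCore_normal_fin p).conj_mem z hz (y : H))
              ((pCore p H).inv_mem hz)
          have hc3 := eq_one_of_mem_coprime_of_mem_pGroup hcopm
            (Cfsg.Agent.Helper23.pCore_isPGroup p) hc1 hc2
          have hc4 : (y : H) * z = z * (y : H) := by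
            have : (y : H) * z = ((y : H) * z * (y : H)⁻¹ * z⁻¹) * (z * (y : H)) := by group
            rw [this, hc3, one_mul]
          exact hc4.symm
        have hyP : (y : H) ∈ pCore p H := hcons hyc
        have hy1 := eq_one_of_mem_coprime_of_mem_pGroup hcopm
          (Cfsg.Agent.Helper23.pCore_isPGroup p) hymap hyP
        rw [Subgroup.mem_bot]
        exact Subtype.ext hy1
      have hLp : IsPGroup p ↥L :=
        IsPGroup.of_card (n := k) (by rw [← hk, hNbot, Subgroup.index_bot])
      have := T.3 hLp hTL.le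
      exact hTL.ne this.symm
  exact hmin H hC T ⟨hcons, hquotnpc, hcoatom, hR, hnpc⟩ hT

end NpcGen2

end Cfsg.Agent.Helper23
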