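import Cfsg.Agent.Helper23.NpcTh2
import Cfsg.Agent.Helper23.NpcGen2
import Cfsg.Agent.Helper23.Offender
import Cfsg.Agent.Helper23.S4Sec
import Cfsg.Agent.Helper10.SylowRel
import Cfsg.Agent.Helper19.SylowQuot

/-!
Helper library (helper23): Thompson's normal `p`-complement theorem for `p = 2` in `S₄`-free
groups, for `J` generated by the abelian subgroups of largest order.
-/

set_option autoImplicit false

namespace Cfsg.Agent.Helper23

open Cfsg Cfsg.Agent.Helper10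

open scoped commutatorElement

universe u

section Faith

/-- An element of a Sylow `p`-subgroup `T` centralizing `K / O_p(H)`, where `K` is normal with
`K T = H`, lies in `O_p(H)`. -/
theorem mem_pCore_of_centralizes_mod {p : ℕ} [Fact p.Prime] {H : Type*} [Group H] [Finite H]
    (T : Sylow p H) (K : Subgroup H) (hKn : K.Normal) (hKT : K ⊔ (T : Subgroup H) = ⊤) (a : H)
    (ha : a ∈ (T : Subgroup H)) (h : ∀ k ∈ K, a * k * a⁻¹ * k⁻¹ ∈ pCore p H) :
    a ∈ pCore p H := by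
  have hQn : (pCore p H).Normal := pCore_normal_fin p
  have hQp : IsPGroup p (pCore p H) := pCore_isPGroup p
  have hQT : pCore p H ≤ (T : Subgroup H) := le_sylow_of_normal hQn hQp T
  obtain ⟨E₀, hE₀⟩ : ∃ E₀ : Subgroup H, ∀ x, x ∈ E₀ ↔ ∀ k ∈ K, x * k * x⁻¹ * k⁻¹ ∈ pCore p H := by
    refine ⟨{ carrier := {x | ∀ k ∈ K, x * k * x⁻¹ * k⁻¹ ∈ pCore p H}
              one_mem' := ?_
              mul_mem' := ?_
              inv_mem' := ?_ }, fun x => Iff.rfl⟩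
    · intro x y hx hy k hk
      show x * y * k * (x * y)⁻¹ * k⁻¹ ∈ pCore p H
      have e : x * y * k * (x * y)⁻¹ * k⁻¹ =
          (x * (y * k * y⁻¹ * k⁻¹) * x⁻¹) * (x * k * x⁻¹ * k⁻¹) := by group
      rw [e]
      exact Subgroup.mul_mem _ (hQn.conj_mem _ (hy k hk) x) (hx k hk)
    · intro k _
      have e : (1 : H) * k * 1⁻¹ * k⁻¹ = 1 := by group
      show (1 : H) * k * 1⁻¹ * k⁻¹ ∈ pCore p H
      rw [e]; exact Subgroup.one_mem _
    · intro x hx k hk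
      show x⁻¹ * k * x⁻¹⁻¹ * k⁻¹ ∈ pCore p H
      have e : x⁻¹ * k * x⁻¹⁻¹ * k⁻¹ = x⁻¹ * (x * k * x⁻¹ * k⁻¹)⁻¹ * x⁻¹⁻¹ := by group
      rw [e]
      exact hQn.conj_mem _ (Subgroup.inv_mem _ (hx k hk)) x⁻¹
  have hE₀n : ∀ x ∈ E₀, ∀ g : H, g * x * g⁻¹ ∈ E₀ := by
    intro x hx g
    rw [hE₀] at hx ⊢
    intro k hk
    have hk' : g⁻¹ * k * g ∈ K := by
      have := hKn.conj_mem k hk g⁻¹
      rwa [inv_inv] at this
    have e : g * x * g⁻¹ * k * (g * x * g⁻¹)⁻¹ * k⁻¹ =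
        g * (x * (g⁻¹ * k * g) * x⁻¹ * (g⁻¹ * k * g)⁻¹) * g⁻¹ := by group
    rw [e]
    exact hQn.conj_mem _ (hx _ hk') g
  obtain ⟨E, hE⟩ : ∃ E : Subgroup H, E = E₀ ⊓ (T : Subgroup H) := ⟨_, rfl⟩
  have hEn : E.Normal := by
    rw [← Subgroup.normalizer_eq_top_iff, eq_top_iff, ← hKT]
    refine sup_le ?_ ?_
    · intro k hk
      apply Cfsg.Agent.S0650.mem_normalizer_of_conj_mem
      intro x hx
      rw [hE] at hx ⊢
      obtain ⟨hx0, hxT⟩ := Subgroup.mem_inf.1 hx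
      refine Subgroup.mem_inf.2 ⟨hE₀n x hx0 k, ?_⟩
      have h1 : x * k * x⁻¹ * k⁻¹ ∈ pCore p H := (hE₀ x).1 hx0 k hk
      have e : k * x * k⁻¹ = (x * k * x⁻¹ * k⁻¹)⁻¹ * x := by group
      rw [e]
      exact Subgroup.mul_mem _ (hQT (Subgroup.inv_mem _ h1)) hxT
    · intro t ht
      apply Cfsg.Agent.S0650.mem_normalizer_of_conj_mem
      intro x hx
      rw [hE] at hx ⊢
      obtain ⟨hx0, hxT⟩ := Subgroup.mem_inf.1 hx
      exact Subgroup.mem_inf.2 ⟨hE₀n x hx0 t,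
        Subgroup.mul_mem _ (Subgroup.mul_mem _ ht hxT) (Subgroup.inv_mem _ ht)⟩
  have hEp : IsPGroup p E := T.2.to_le (by rw [hE]; exact inf_le_right)
  have haE : a ∈ E := by rw [hE]; exact Subgroup.mem_inf.2 ⟨(hE₀ a).2 h, ha⟩
  exact le_pCore hEn hEp haE

end Faith

section Two

/-- In a minimal configuration for `p = 2`: an abelian subgroup `A` of `T` of largest order, not
contained in `O_2(H)`, normalized by the normal elementary abelian subgroup `V₁` with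
`C_H(V₁) = O_2(H)`, forces a section isomorphic to `S₄`. -/
theorem involves_s4_of_offender {H : Type u} [Group H] [Finite H] (T : Sylow 2 H)
    (hms : MinStr 2 H T) (V₁ : Subgroup H) (hV₁n : V₁.Normal)
    (hV₁c : ∀ x ∈ V₁, ∀ y ∈ V₁, x * y = y * x) (hV₁e : ∀ x ∈ V₁, x * x = 1)
    (hV₁Q : V₁ ≤ Subgroup.centralizer (pCore 2 H : Set H))
    (hC₁ : Subgroup.centralizer (V₁ : Set H) ≤ pCore 2 H)
    (hV₁T : V₁ ≤ (T : Subgroup H))
    (A : Subgroup H) (hAT : A ≤ (T : Subgroup H)) (hAc : ∀ x ∈ A, ∀ y ∈ A, x * y = y * x)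
    (hAmax : ∀ B : Subgroup H, B ≤ (T : Subgroup H) → (∀ x ∈ B, ∀ y ∈ B, x * y = y * x) →
      Nat.card B ≤ Nat.card A)
    (hAQ : ¬ A ≤ pCore 2 H) (hVA : V₁ ≤ Subgroup.normalizer (A : Set H)) :
    Cfsg.Involves (Equiv.Perm (Fin 4)) H := by
  classical
  have := hV₁n
  have hQn : (pCore 2 H).Normal := pCore_normal_fin 2
  have hQp : IsPGroup 2 (pCore 2 H) := pCore_isPGroup 2
  have hQT : pCore 2 H ≤ (T : Subgroup H) := le_sylow_of_normal hQn hQp T
  obtain ⟨K, hKn, hQK, hKK, hcop, hKT, hKTinf⟩ := hms.exists_K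
  obtain ⟨c, hc⟩ : ∃ c : H →* MulAut ↥V₁, c = MulAut.conjNormal := ⟨_, rfl⟩
  have hcv : ∀ (g : H) (v : ↥V₁), ((c g v : ↥V₁) : H) = g * v * g⁻¹ := by
    intro g v; rw [hc]; exact MulAut.conjNormal_apply g v
  have hker1 : ∀ g : H, c g = 1 → g ∈ pCore 2 H := by
    intro g hg
    apply hC₁
    rw [Subgroup.mem_centralizer_iff]
    intro v hv
    have h1 := hcv g ⟨v, hv⟩
    rw [hg] at h1
    have h2 : v = g * v * g⁻¹ := h1
    calc v * g = (g * v * g⁻¹) * g := by rw [← h2]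
      _ = g * v := by group
  have hker2 : ∀ g ∈ pCore 2 H, c g = 1 := by
    intro g hg
    apply MulEquiv.ext
    intro v
    apply Subtype.ext
    rw [hcv]
    have h1 : g * (v : H) = v * g := Subgroup.mem_centralizer_iff.1 (hV₁Q v.2) g hg
    show g * (v : H) * g⁻¹ = (v : H)
    rw [h1]; group
  have hcomm : ∀ x y : ↥V₁, x * y = y * x := fun x y => Subtype.ext (hV₁c x x.2 y y.2)
  have hexp : ∀ v : ↥V₁, v * v = 1 := fun v => Subtype.ext (hV₁e v v.2)
  obtain ⟨Kb, hKb⟩ : ∃ Kb : Subgroup (MulAut ↥V₁), Kb = K.map c := ⟨_, rfl⟩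
  obtain ⟨Ab, hAb⟩ : ∃ Ab : Subgroup (MulAut ↥V₁), Ab = A.map c := ⟨_, rfl⟩
  have hKc : ∀ x ∈ Kb, ∀ y ∈ Kb, x * y = y * x := by
    rw [hKb]
    rintro _ ⟨k₁, hk₁, rfl⟩ _ ⟨k₂, hk₂, rfl⟩
    have h1 : ⁅k₁, k₂⁆ ∈ pCore 2 H := hKK (Subgroup.commutator_mem_commutator hk₁ hk₂)
    have h2 := hker2 _ h1
    rw [map_commutatorElement, commutatorElement_eq_one_iff_mul_comm] at h2
    exact h2
  have hpowK : ∀ x ∈ Kb, x ^ ((pCore 2 H).relIndex K) = 1 := by
    rw [hKb]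
    rintro _ ⟨k, hk, rfl⟩
    have : ((pCore 2 H).subgroupOf K).Normal := hQn.subgroupOf K
    have h1 := Subgroup.pow_index_mem ((pCore 2 H).subgroupOf K) (⟨k, hk⟩ : ↥K)
    rw [Subgroup.mem_subgroupOf] at h1
    rw [← map_pow]
    exact hker2 _ h1
  have hodd : Odd ((pCore 2 H).relIndex K) := Nat.coprime_two_right.1 hcop
  have hKodd : Odd (Nat.card Kb) := by
    by_contra hne
    have h2 : 2 ∣ Nat.card Kb := by
      rcases Nat.even_or_odd (Nat.card Kb) with h | h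
      · exact even_iff_two_dvd.1 h
      · exact absurd h hne
    obtain ⟨y, hy⟩ := exists_prime_orderOf_dvd_card' 2 h2
    have h3 : (y : MulAut ↥V₁) ^ ((pCore 2 H).relIndex K) = 1 := hpowK y y.2
    have h4 : orderOf (y : MulAut ↥V₁) = 2 := by rw [Subgroup.orderOf_coe]; exact hy
    have h5 : orderOf (y : MulAut ↥V₁) ∣ (pCore 2 H).relIndex K := orderOf_dvd_of_pow_eq_one h3
    rw [h4] at h5
    exact (Nat.not_even_iff_odd.2 hodd) (even_iff_two_dvd.2 h5)
  have hAbc : ∀ x ∈ Ab, ∀ y ∈ Ab, x * y = y * x := by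
    rw [hAb]
    rintro _ ⟨a₁, ha₁, rfl⟩ _ ⟨a₂, ha₂, rfl⟩
    rw [← map_mul, ← map_mul, hAc a₁ ha₁ a₂ ha₂]
  have hquad : ∀ a ∈ Ab, ∀ b ∈ Ab, ∀ v : ↥V₁, a (b v * v⁻¹) = b v * v⁻¹ := by
    rw [hAb]
    rintro _ ⟨a₁, ha₁, rfl⟩ _ ⟨a₂, ha₂, rfl⟩ v
    apply Subtype.ext
    rw [hcv]
    have e1 : (((c a₂) v * v⁻¹ : ↥V₁) : H) = a₂ * ((v : H) * a₂⁻¹ * (v : H)⁻¹) := by
      rw [Subgroup.coe_mul, hcv, Subgroup.coe_inv]; group
    rw [e1]
    have hmem : a₂ * ((v : H) * a₂⁻¹ * (v : H)⁻¹) ∈ A :=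
      A.mul_mem ha₂ ((Subgroup.mem_normalizer_iff.1 (hVA v.2) a₂⁻¹).1 (A.inv_mem ha₂))
    have h1 := hAc a₁ ha₁ _ hmem
    rw [h1]; group
  have hA2 : ∀ a ∈ Ab, a * a = 1 := by
    intro a ha
    apply MulEquiv.ext
    intro v
    have h1 := hquad a ha a ha v
    rw [map_mul, map_inv] at h1
    show a (a v) = v
    calc a (a v) = (a (a v) * (a v)⁻¹) * a v := by group
      _ = a v * v⁻¹ * a v := by rw [h1]
      _ = (a v * a v) * v⁻¹ := by rw [mul_assoc, hcomm v⁻¹ (a v), ← mul_assoc]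
      _ = v⁻¹ := by rw [hexp, one_mul]
      _ = v := inv_eq_of_mul_eq_one_left (hexp v)
  have hAK : ∀ a ∈ Ab, ∀ k ∈ Kb, a * k * a⁻¹ ∈ Kb := by
    rw [hAb, hKb]
    rintro _ ⟨a₁, ha₁, rfl⟩ _ ⟨k₁, hk₁, rfl⟩
    exact ⟨a₁ * k₁ * a₁⁻¹, hKn.conj_mem k₁ hk₁ a₁, by rw [map_mul, map_mul, map_inv]⟩
  have hfaith : ∀ a ∈ Ab, (∀ k ∈ Kb, a * k = k * a) → a = 1 := by
    rw [hAb, hKb]
    rintro _ ⟨a₁, ha₁, rfl⟩ hcent
    apply hker2
    apply mem_pCore_of_centralizes_mod T K hKn hKT a₁ (hAT ha₁)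
    intro k hk
    apply hker1
    have h1 := hcent (c k) ⟨k, hk, rfl⟩
    simp only [map_mul, map_inv]
    rw [h1]; group
  -- the offender inequality
  have hkerQ : c.ker = pCore 2 H :=
    le_antisymm (fun g hg => hker1 g (MonoidHom.mem_ker.1 hg))
      (fun g hg => MonoidHom.mem_ker.2 (hker2 g hg))
  have hcardA : Nat.card A = Nat.card Ab * Nat.card ↥(A ⊓ pCore 2 H) := by
    have h1 := Subgroup.relIndex_mul_relIndex (⊥ : Subgroup H) (A ⊓ pCore 2 H) A bot_le inf_le_left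
    rw [Subgroup.relIndex_bot_left, Subgroup.relIndex_bot_left, Subgroup.inf_relIndex_left,
      ← hkerQ, Subgroup.relIndex_ker] at h1
    rw [hAb, ← h1, mul_comm, hkerQ]
  have hfixcard : Nat.card ↥(A ⊓ V₁) ≤ Nat.card (fixSub Ab) := by
    have hle : A ⊓ V₁ ≤ (fixSub Ab).map V₁.subtype := by
      intro x hx
      obtain ⟨hxA, hxV⟩ := Subgroup.mem_inf.1 hx
      refine Subgroup.mem_map.2 ⟨⟨x, hxV⟩, ?_, rfl⟩
      rw [mem_fixSub, hAb]
      rintro _ ⟨a₁, ha₁, rfl⟩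
      apply Subtype.ext
      rw [hcv]
      show a₁ * x * a₁⁻¹ = x
      rw [hAc a₁ ha₁ x hxA]; group
    have := Subgroup.card_le_of_le hle
    rwa [Subgroup.card_map_of_injective V₁.subtype_injective] at this
  have hoff : Nat.card ↥V₁ ≤ Nat.card Ab * Nat.card (fixSub Ab) := by
    obtain ⟨B, hB⟩ : ∃ B : Subgroup H, B = (A ⊓ pCore 2 H) ⊔ V₁ := ⟨_, rfl⟩
    have hBc : ∀ x ∈ B, ∀ y ∈ B, x * y = y * x := by
      rw [hB]
      exact comm_of_isMulCommutative (isMulCommutative_sup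
        (fun x hx y hy => hAc x (Subgroup.mem_inf.1 hx).1 y (Subgroup.mem_inf.1 hy).1) hV₁c
        (fun x hx y hy => Subgroup.mem_centralizer_iff.1 (hV₁Q hy) x (Subgroup.mem_inf.1 hx).2))
    have hBT : B ≤ (T : Subgroup H) := by
      rw [hB]; exact sup_le (inf_le_left.trans hAT) hV₁T
    have h1 := hAmax B hBT hBc
    have h2 := card_mul_card_le_sup_inf (A ⊓ pCore 2 H) V₁
    rw [← hB] at h2
    have h3 : Nat.card ↥(A ⊓ pCore 2 H ⊓ V₁) ≤ Nat.card ↥(A ⊓ V₁) :=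
      Subgroup.card_le_of_le (inf_le_inf_right V₁ inf_le_left)
    have hpos : 0 < Nat.card ↥(A ⊓ pCore 2 H) := Nat.card_pos
    have h4 : Nat.card ↥(A ⊓ pCore 2 H) * Nat.card ↥V₁ ≤
        Nat.card ↥(A ⊓ pCore 2 H) * (Nat.card Ab * Nat.card (fixSub Ab)) := by
      calc Nat.card ↥(A ⊓ pCore 2 H) * Nat.card ↥V₁
          ≤ Nat.card B * Nat.card ↥(A ⊓ pCore 2 H ⊓ V₁) := h2
        _ ≤ Nat.card A * Nat.card ↥(A ⊓ V₁) := Nat.mul_le_mul h1 h3
        _ = Nat.card ↥(A ⊓ pCore 2 H) * (Nat.card Ab * Nat.card ↥(A ⊓ V₁)) := by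
          rw [hcardA]; ring
        _ ≤ Nat.card ↥(A ⊓ pCore 2 H) * (Nat.card Ab * Nat.card (fixSub Ab)) :=
          Nat.mul_le_mul_left _ (Nat.mul_le_mul_left _ hfixcard)
    exact Nat.le_of_mul_le_mul_left h4 hpos
  have hAne : Ab ≠ ⊥ := by
    intro hbot
    apply hAQ
    intro a ha
    apply hker1
    have : c a ∈ Ab := by rw [hAb]; exact ⟨a, ha, rfl⟩
    rw [hbot, Subgroup.mem_bot] at this
    exact this
  obtain ⟨t, htA, ht1, z, htz⟩ := exists_transvection hcomm hexp Kb Ab hKc hKodd hAbc hA2 hAK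
    hfaith hquad hoff hAne
  obtain ⟨xb, hxb, hxt⟩ : ∃ x ∈ Kb, t * x ≠ x * t := by
    by_contra hcon
    push Not at hcon
    exact ht1 (hfaith t htA hcon)
  have htt : t * t = 1 := hA2 t htA
  have htinv : t⁻¹ = t := inv_eq_of_mul_eq_one_left htt
  rw [hAb] at htA
  obtain ⟨a₀, ha₀, hta₀⟩ := htA
  rw [hKb] at hxb
  obtain ⟨x, hxK, hxb_eq⟩ := hxb
  obtain ⟨s, hs⟩ : ∃ s : MulAut ↥V₁, s = t * xb * t⁻¹ * xb⁻¹ := ⟨_, rfl⟩
  have hs1 : s ≠ 1 := by
    intro h
    apply hxt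
    calc t * xb = (t * xb * t⁻¹ * xb⁻¹) * (xb * t) := by group
      _ = xb * t := by rw [← hs, h, one_mul]
  have hts : t * s * t⁻¹ = s⁻¹ := by
    calc t * s * t⁻¹ = (t * t) * xb * t⁻¹ * xb⁻¹ * t⁻¹ := by rw [hs]; group
      _ = xb * t⁻¹ * xb⁻¹ * t⁻¹ := by rw [htt, one_mul]
      _ = xb * t * xb⁻¹ * t⁻¹ := by rw [htinv]
      _ = s⁻¹ := by rw [hs]; group
  obtain ⟨k₀, hk₀⟩ : ∃ k₀ : H, k₀ = a₀ * x * a₀⁻¹ * x⁻¹ := ⟨_, rfl⟩
  have hk₀K : k₀ ∈ K := by
    rw [hk₀]; exact K.mul_mem (hKn.conj_mem x hxK a₀) (K.inv_mem hxK)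
  have hck₀ : c k₀ = s := by
    rw [hk₀, hs]
    simp only [map_mul, map_inv]
    rw [hta₀, hxb_eq]
  have hsKb : s ∈ Kb := by rw [hKb, ← hck₀]; exact ⟨k₀, hk₀K, rfl⟩
  have hsn : s ^ (Nat.card Kb) = 1 := by
    have : ((⟨s, hsKb⟩ : ↥Kb) ^ Nat.card ↥Kb : ↥Kb) = 1 := pow_card_eq_one'
    exact congrArg Subtype.val this
  have hos : orderOf s ≠ 1 := fun h => hs1 (orderOf_eq_one_iff.1 h)
  obtain ⟨r, hr, hrs⟩ := Nat.exists_prime_and_dvd hos
  have : Fact r.Prime := ⟨hr⟩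
  have hr2 : r ≠ 2 := by
    intro h
    have h1 : orderOf s ∣ Nat.card Kb := orderOf_dvd_of_pow_eq_one hsn
    have h2 : 2 ∣ Nat.card Kb := by rw [← h]; exact hrs.trans h1
    exact (Nat.not_even_iff_odd.2 hKodd) (even_iff_two_dvd.2 h2)
  have hk₀pos : orderOf k₀ ≠ 0 := (orderOf_pos k₀).ne'
  obtain ⟨e, m, hrm, hem⟩ := Nat.exists_eq_pow_mul_and_not_dvd hk₀pos r hr.ne_one
  obtain ⟨k, hk⟩ : ∃ k : H, k = k₀ ^ m := ⟨_, rfl⟩
  have hkr : k ^ (r ^ e) = 1 := by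
    rw [hk, ← pow_mul, mul_comm, ← hem]; exact pow_orderOf_eq_one k₀
  have hck : c k = s ^ m := by rw [hk, map_pow, hck₀]
  have hsm1 : s ^ m ≠ 1 := by
    intro h
    exact hrm (hrs.trans (orderOf_dvd_of_pow_eq_one h))
  have htsm : t * s ^ m * t⁻¹ = (s ^ m)⁻¹ := by rw [← conj_pow, hts, inv_pow]
  have hsmn : (s ^ m) ^ (Nat.card Kb) = 1 := by
    rw [← pow_mul, mul_comm, pow_mul, hsn, one_pow]
  have hZr : IsPGroup r (Subgroup.zpowers k) := by
    have h1 : orderOf k ∣ r ^ e := orderOf_dvd_of_pow_eq_one hkr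
    obtain ⟨j, -, hj⟩ := (Nat.dvd_prime_pow hr).1 h1
    exact IsPGroup.of_card (n := j) (by rw [Nat.card_zpowers, hj])
  have hZr' : IsPGroup r (Subgroup.zpowers (a₀ * k * a₀⁻¹)) := by
    have h1 : (a₀ * k * a₀⁻¹) ^ (r ^ e) = 1 := by rw [conj_pow, hkr]; group
    have h2 : orderOf (a₀ * k * a₀⁻¹) ∣ r ^ e := orderOf_dvd_of_pow_eq_one h1
    obtain ⟨j, -, hj⟩ := (Nat.dvd_prime_pow hr).1 h2
    exact IsPGroup.of_card (n := j) (by rw [Nat.card_zpowers, hj])
  obtain ⟨L, hL⟩ : ∃ L : Subgroup H, L = Subgroup.zpowers k ⊔ pCore 2 H := ⟨_, rfl⟩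
  have hidx : ¬ r ∣ (Subgroup.zpowers k).relIndex L := by
    rw [hL, Cfsg.Agent.Helper19.relIndex_sup_normal]
    intro h
    have h1 : r ∣ Nat.card (pCore 2 H) := h.trans (Subgroup.relIndex_dvd_card _ _)
    obtain ⟨j, hj⟩ := hQp.exists_card_eq
    rw [hj] at h1
    exact hr2 ((Nat.prime_dvd_prime_iff_eq hr Nat.prime_two).1 (hr.dvd_of_dvd_pow h1))
  have hcak : c (a₀ * k * a₀⁻¹ * k) = 1 := by
    simp only [map_mul, map_inv]
    rw [hta₀, hck, htsm]; group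
  have hakL : a₀ * k * a₀⁻¹ ∈ L := by
    have h1 : a₀ * k * a₀⁻¹ * k ∈ pCore 2 H := hker1 _ hcak
    have e1 : a₀ * k * a₀⁻¹ = (a₀ * k * a₀⁻¹ * k) * k⁻¹ := by group
    rw [e1, hL]
    exact Subgroup.mul_mem _ (le_sup_right (a := Subgroup.zpowers k) h1)
      (le_sup_left (b := pCore 2 H) (Subgroup.inv_mem _ (Subgroup.mem_zpowers k)))
  obtain ⟨l, hlL, hl⟩ := Cfsg.Agent.Helper10.exists_conj_into_of_relIndex L (Subgroup.zpowers k)
    hZr hidx (Subgroup.zpowers (a₀ * k * a₀⁻¹)) hZr' (Subgroup.zpowers_le.2 hakL)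
  rw [hL] at hlL
  obtain ⟨y, hy, q, hq, rfl⟩ := Subgroup.mem_sup_of_normal_right.1 hlL
  obtain ⟨τ, hτ⟩ : ∃ τ : H, τ = q * a₀ := ⟨_, rfl⟩
  have hcτ : c τ = t := by rw [hτ, map_mul, hker2 q hq, one_mul, hta₀]
  have hτk_mem : τ * k * τ⁻¹ ∈ Subgroup.zpowers k := by
    have h1 := hl (a₀ * k * a₀⁻¹) (Subgroup.mem_zpowers _)
    have e1 : τ * k * τ⁻¹ = y⁻¹ * (y * q * (a₀ * k * a₀⁻¹) * (y * q)⁻¹) * y := by
      rw [hτ]; group
    rw [e1]
    exact Subgroup.mul_mem _ (Subgroup.mul_mem _ (Subgroup.inv_mem _ hy) h1) hy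
  have hτk : τ * k * τ⁻¹ = k⁻¹ := by
    have h1 : c (τ * k * τ⁻¹ * k) = 1 := by
      simp only [map_mul, map_inv]
      rw [hcτ, hck, htsm]; group
    have h2 : τ * k * τ⁻¹ * k ∈ pCore 2 H := hker1 _ h1
    have h3 : τ * k * τ⁻¹ * k ∈ Subgroup.zpowers k :=
      Subgroup.mul_mem _ hτk_mem (Subgroup.mem_zpowers k)
    have h4 : τ * k * τ⁻¹ * k = 1 := by
      have hcop' : (Nat.card (Subgroup.zpowers k)).Coprime 2 := by
        obtain ⟨j, hj⟩ := hZr.exists_card_eq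
        rw [hj]
        exact Nat.Coprime.pow_left j ((Nat.coprime_primes hr Nat.prime_two).2 hr2)
      exact Cfsg.Agent.Helper10.eq_one_of_mem_coprime_of_mem_pGroup hcop' hQp h3 h2
    exact eq_inv_of_mul_eq_one_left h4
  exact involves_s4_of_aut V₁ hcomm hexp k τ (c τ) (c k) (fun v => hcv k v) (fun v => hcv τ v) z
    (by rw [hcτ]; exact htz) (by rw [hcτ, hck]; exact htsm) hτk (by rw [hck]; exact hsm1)
    (Nat.card Kb) hKodd (by rw [hck]; exact hsmn)

section Gen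

variable {p : ℕ} [Fact p.Prime]

/-- The minimal configuration of Thompson's theorem, with the final step (an abelian subgroup
of largest order outside `O_p(H)` normalized by `V₁`) left as a hypothesis. -/
theorem thompson_min_gen (e : Bool) (hpe : e = true → p ≠ 2) {H : Type u} [Group H] [Finite H]
    (T : Sylow p H) (hms : MinStr p H T) (hT : ThHyp p (jW p e) cW H T)
    (hoff : ∀ V₁ : Subgroup H, V₁.Normal → (∀ x ∈ V₁, ∀ y ∈ V₁, x * y = y * x) →
      (∀ x ∈ V₁, x ^ p = 1) → V₁ ≤ Subgroup.centralizer (pCore p H : Set H) →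
      Subgroup.centralizer (V₁ : Set H) ≤ pCore p H → V₁ ≤ (T : Subgroup H) →
      ∀ A ∈ zjFam p e (T : Subgroup H), ¬ A ≤ pCore p H →
      V₁ ≤ Subgroup.normalizer (A : Set H) → False) : False := by
  have hpp : p.Prime := Fact.out
  obtain ⟨hN, hC⟩ := hT
  rw [ind_jW] at hN
  rw [ind_cW] at hC
  have hTp : IsPGroup p (T : Subgroup H) := T.2
  have hQn : (pCore p H).Normal := pCore_normal_fin p
  have hQp : IsPGroup p (pCore p H) := pCore_isPGroup p
  have hQT : pCore p H ≤ (T : Subgroup H) := le_sylow_of_normal hQn hQp T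
  obtain ⟨Zc, hZc⟩ : ∃ Zc, Zc = (T : Subgroup H) ⊓ Subgroup.centralizer ((T : Subgroup H) : Set H) :=
    ⟨_, rfl⟩
  rw [← hZc] at hC
  -- Step 1
  have hNtop : Subgroup.normalizer
      ((sSup (zjFam p e (T : Subgroup H)) : Subgroup H) : Set H) ≠ ⊤ := by
    intro h
    rw [h] at hN
    exact hms.nnpc (npc_of_equiv Subgroup.topEquiv hN)
  have hCtop : Subgroup.centralizer (Zc : Set H) ≠ ⊤ := by
    intro h
    rw [h] at hC
    exact hms.nnpc (npc_of_equiv Subgroup.topEquiv hC)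
  -- Step 2
  have hZcQ : Zc ≤ Subgroup.centralizer (pCore p H : Set H) := by
    intro z hz
    rw [hZc] at hz
    rw [Subgroup.mem_centralizer_iff]
    intro q hq
    exact Subgroup.mem_centralizer_iff.1 hz.2 q (hQT hq)
  have hCQn : (Subgroup.centralizer (pCore p H : Set H)).Normal := inferInstance
  obtain ⟨V, hV⟩ : ∃ V, V = Subgroup.normalClosure (Zc : Set H) := ⟨_, rfl⟩
  have hVn : V.Normal := by rw [hV]; exact Subgroup.normalClosure_normal
  have hVCQ : V ≤ Subgroup.centralizer (pCore p H : Set H) := by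
    rw [hV]; exact Subgroup.normalClosure_le_normal hZcQ
  have hVQ : V ≤ pCore p H := hVCQ.trans hms.cons
  have hZV : Zc ≤ V := by rw [hV]; exact Subgroup.subset_normalClosure
  have hVc : ∀ x ∈ V, ∀ y ∈ V, x * y = y * x := fun x hx y hy =>
    Subgroup.mem_centralizer_iff.1 (hVCQ hy) x (hVQ hx)
  have hVp : IsPGroup p V := hQp.to_le hVQ
  -- Step 3
  have hCn : (Subgroup.centralizer (V : Set H)).Normal := inferInstance
  have hCT : Subgroup.centralizer (V : Set H) ≤ (T : Subgroup H) := by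
    by_contra hnot
    have hlt : (T : Subgroup H) < (T : Subgroup H) ⊔ Subgroup.centralizer (V : Set H) :=
      lt_of_le_of_ne le_sup_left (fun h => hnot (h ▸ le_sup_right))
    have htop := hms.coatom.2 _ hlt
    apply hCtop
    rw [eq_top_iff]
    intro h _
    have hh : h ∈ (T : Subgroup H) ⊔ Subgroup.centralizer (V : Set H) := by rw [htop]; trivial
    obtain ⟨t, ht, c, hc, rfl⟩ := Subgroup.mem_sup_of_normal_right.1 hh
    rw [Subgroup.mem_centralizer_iff]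
    intro z hz
    have hz' := hz
    rw [hZc] at hz'
    have h1 : t * z = z * t := Subgroup.mem_centralizer_iff.1 hz'.2 t ht
    have h2 : z * c = c * z := Subgroup.mem_centralizer_iff.1 hc z (hZV hz)
    calc z * (t * c) = (z * t) * c := by group
      _ = t * (z * c) := by rw [← h1]; group
      _ = t * c * z := by rw [h2]; group
  have hCQ : Subgroup.centralizer (V : Set H) ≤ pCore p H := le_pCore hCn (hTp.to_le hCT)
  -- Step 4
  obtain ⟨V₁, hV₁⟩ : ∃ V₁, V₁ = Subgroup.closure {x : H | x ∈ V ∧ x ^ p = 1} := ⟨_, rfl⟩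
  have hV₁mem : ∀ x ∈ V₁, x ∈ V ∧ x ^ p = 1 := by
    intro x hx
    rw [hV₁] at hx
    refine Subgroup.closure_induction (p := fun x _ => x ∈ V ∧ x ^ p = 1) ?_ ?_ ?_ ?_ hx
    · intro x hx; exact hx
    · exact ⟨V.one_mem, one_pow p⟩
    · intro x y _ _ hx hy
      refine ⟨V.mul_mem hx.1 hy.1, ?_⟩
      have hc : Commute x y := hVc x hx.1 y hy.1
      rw [hc.mul_pow, hx.2, hy.2, one_mul]
    · intro x _ hx
      exact ⟨V.inv_mem hx.1, by rw [inv_pow, hx.2, inv_one]⟩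
  have hV₁V : V₁ ≤ V := fun x hx => (hV₁mem x hx).1
  have hV₁n : V₁.Normal := by
    refine ⟨fun x hx g => ?_⟩
    rw [hV₁]
    apply Subgroup.subset_closure
    obtain ⟨h1, h2⟩ := hV₁mem x hx
    refine ⟨hVn.conj_mem x h1 g, ?_⟩
    rw [conj_pow, h2]; group
  have hV₁p : IsPGroup p V₁ := hVp.to_le hV₁V
  have hV₁T : V₁ ≤ (T : Subgroup H) := hV₁V.trans (hVQ.trans hQT)
  have hC₁n : (Subgroup.centralizer (V₁ : Set H)).Normal := inferInstance
  have hC₁p : IsPGroup p (Subgroup.centralizer (V₁ : Set H)) := by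
    apply IsPGroup.of_card (n := (Nat.card ↥(Subgroup.centralizer (V₁ : Set H))).primeFactorsList.length)
    apply Nat.eq_prime_pow_of_unique_prime_dvd (Nat.card_pos).ne'
    intro q hq hqd
    by_contra hqp
    have : Fact q.Prime := ⟨hq⟩
    obtain ⟨y, hy⟩ := exists_prime_orderOf_dvd_card' q hqd
    have hyo : orderOf (y : H) = q := by rw [Subgroup.orderOf_coe]; exact hy
    have hcop : (orderOf (y : H)).Coprime p := by
      rw [hyo]; exact (Nat.coprime_primes hq hpp).2 hqp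
    have hyV : (y : H) ∈ Subgroup.centralizer (V : Set H) := by
      rw [Subgroup.mem_centralizer_iff]
      intro v hv
      refine (centralizes_of_centralizes_omega hVn hVc hVp hcop ?_ v hv).symm
      intro v' hv' hv'p
      have hv'1 : v' ∈ V₁ := by rw [hV₁]; exact Subgroup.subset_closure ⟨hv', hv'p⟩
      exact (Subgroup.mem_centralizer_iff.1 y.2 v' hv'1).symm
    obtain ⟨j, hj⟩ := hQp ⟨(y : H), hCQ hyV⟩
    have hj' : (y : H) ^ (p ^ j) = 1 := congrArg Subtype.val hj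
    have hdvd : q ∣ p ^ j := by rw [← hyo]; exact orderOf_dvd_of_pow_eq_one hj'
    exact hqp ((Nat.prime_dvd_prime_iff_eq hq hpp).1 (hq.dvd_of_dvd_pow hdvd))
  -- Step 6
  have hAQ : ∀ A ∈ zjFam p e (T : Subgroup H), A ≤ pCore p H := by
    by_contra hcon
    push Not at hcon
    obtain ⟨A₀, hA₀, hA₀Q⟩ := hcon
    obtain ⟨A, ⟨hA, hAQ⟩, hmax⟩ := Set.exists_max_image
      {A : Subgroup H | A ∈ zjFam p e (T : Subgroup H) ∧ ¬ A ≤ pCore p H}
      (fun A => Nat.card ↥(A ⊓ V₁)) (Set.toFinite _) ⟨A₀, hA₀, hA₀Q⟩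
    by_cases hVA : V₁ ≤ Subgroup.normalizer (A : Set H)
    · exact hoff V₁ hV₁n (fun x hx y hy => hVc x (hV₁V hx) y (hV₁V hy))
        (fun x hx => (hV₁mem x hx).2) (hV₁V.trans hVCQ) (le_pCore hC₁n hC₁p) hV₁T A hA hAQ hVA
    · obtain ⟨A', hA', hlt, hA'N⟩ := thompson_replacement_zjFam e hpe hTp V₁ hV₁T
        (fun x _ b hb => hV₁n.conj_mem b hb x)
        (fun x hx y hy => hVc x (hV₁V hx) y (hV₁V hy)) hA hVA
      have hA'Q : A' ≤ pCore p H := by
        by_contra h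
        have := hmax A' ⟨hA', h⟩
        omega
      have hV₁A' : V₁ ≤ A' := by
        have hA'c := comm_of_isMulCommutative hA'.2.1.1
        have hcomm : ∀ a ∈ A', ∀ v ∈ V₁, a * v = v * a := fun a ha v hv =>
          Subgroup.mem_centralizer_iff.1 (hVCQ (hV₁V hv)) a (hA'Q ha)
        have hNn : V₁ ≤ Subgroup.normalizer (A' : Set H) := by
          intro v hv
          apply Cfsg.Agent.S0650.mem_normalizer_of_conj_mem
          intro a ha
          have e1 : v * a * v⁻¹ = a := by rw [← hcomm a ha v hv]; group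
          rw [e1]; exact ha
        have hgood : zjGood p e (A' ⊔ V₁) := by
          refine ⟨isMulCommutative_sup hA'c (fun x hx y hy => hVc x (hV₁V hx) y (hV₁V hy)) hcomm,
            fun he x hx => ?_⟩
          obtain ⟨a, ha, v, hv, rfl⟩ := exists_mul_of_mem_sup hNn hx
          have hc : Commute a v := hcomm a ha v hv
          rw [hc.mul_pow, hA'.2.1.2 he a ha, (hV₁mem v hv).2, one_mul]
        have hle : A' ⊔ V₁ ≤ (T : Subgroup H) := sup_le hA'.1 hV₁T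
        have hcard := hA'.2.2 _ hle hgood
        have heq := Subgroup.eq_of_le_of_card_ge (le_sup_left : A' ≤ A' ⊔ V₁) hcard
        rw [heq]; exact le_sup_right
      exact hVA (hV₁A'.trans hA'N)
  -- Step 7
  apply hNtop
  apply Subgroup.normalizer_eq_top_iff.2
  refine ⟨fun x hx g => ?_⟩
  have hmap : (sSup (zjFam p e (T : Subgroup H))).map (MulAut.conj g).toMonoidHom ≤
      sSup (zjFam p e (T : Subgroup H)) := by
    rw [Subgroup.map_le_iff_le_comap]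
    apply sSup_le
    intro A hA
    rw [← Subgroup.map_le_iff_le_comap]
    apply le_sSup
    refine ⟨?_, zjGood_map _ hA.2.1, fun B hB hBg => ?_⟩
    · rintro _ ⟨a, ha, rfl⟩
      exact hQT (hQn.conj_mem a (hAQ A hA ha) g)
    · rw [Subgroup.card_map_of_injective (MulAut.conj g).injective]
      exact hA.2.2 B hB hBg
  exact hmap ⟨x, hx, rfl⟩

end Gen

/-- The minimal configuration is impossible for `p = 2` in `S₄`-free groups. -/
theorem thompson_min_two {H : Type u} [Group H] [Finite H] (T : Sylow 2 H)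
    (hms : MinStr 2 H T) (hT : ThHyp 2 (jW 2 false) cW H T)
    (hS4 : ¬ Cfsg.Involves (Equiv.Perm (Fin 4)) H) : False := by
  apply thompson_min_gen false (fun h => absurd h Bool.false_ne_true) T hms hT
  intro V₁ hV₁n hV₁c hV₁e hV₁Q hC₁ hV₁T A hA hAQ hVA
  apply hS4
  exact involves_s4_of_offender T hms V₁ hV₁n hV₁c
    (fun x hx => by rw [← pow_two]; exact hV₁e x hx) hV₁Q hC₁ hV₁T A hA.1
    (comm_of_isMulCommutative hA.2.1.1)
    (fun B hB hBc => hA.2.2 B hB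
      ⟨IsMulCommutative.of_setLike_mul_comm hBc, fun h => absurd h Bool.false_ne_true⟩) hAQ hVA

/-- **Thompson's normal `2`-complement theorem** for `S₄`-free groups, with `J` generated by the
abelian subgroups of largest order. -/
theorem npc_thompson_two {G : Type u} [Group G] [Finite G] (P : Sylow 2 G)
    (hS4 : ¬ Cfsg.Involves (Equiv.Perm (Fin 4)) G)
    (hN : HasNormalPComplement 2
      ↥(Subgroup.normalizer (inducedFunctor (jW 2 false) (P : Subgroup G) : Set G)))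
    (hC : HasNormalPComplement 2 ↥(Subgroup.centralizer
      (((P : Subgroup G) ⊓ Subgroup.centralizer ((P : Subgroup G) : Set G) : Subgroup G) : Set G))) :
    HasNormalPComplement 2 G := by
  refine npc_reduction_hyp_class (p := 2)
    (fun H _ => ¬ Cfsg.Involves (Equiv.Perm (Fin 4)) H) ?_ ?_ (ThHyp 2 (jW 2 false) cW)
    (fun H _ _ T T' => thHyp_conj (jW 2 false) cW (jW_char 2 false) (cW_char 2) T T')
    (fun H _ _ T L hTL => thHyp_sub (jW 2 false) cW (jW_char 2 false) (cW_char 2) T L hTL)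
    (fun H _ _ _ _ D₀ hD₀p hD₀ne T₁ hloc =>
      thHyp_loc (jW 2 false) cW (jW_char 2 false) (cW_char 2) D₀ hD₀p hD₀ne T₁ hloc)
    (fun H _ _ T => thHyp_quo (jW 2 false) cW (jW_char 2 false) (cW_char 2) T)
    (fun H _ _ T R _ hRc => thHyp_quot (jW 2 false) cW (jW_char 2 false) (cW_char 2) T R hRc)
    (fun H _ _ hC T hms hT => thompson_min_two T hms hT hC) (Nat.card G) G rfl hS4 P ⟨hN, ?_⟩
  · intro H _ _ hH L hL
    apply hH
    obtain ⟨K, f, hf⟩ := Cfsg.Agent.Helper26.exists_surj_of_involves hL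
    exact Cfsg.Agent.Helper26.involves_of_span (L.subtype.comp K.subtype)
      ((Subgroup.subtype_injective L).comp (Subgroup.subtype_injective K)) f hf
  · intro H _ _ hH M _ hM
    apply hH
    obtain ⟨K, f, hf⟩ := Cfsg.Agent.Helper26.exists_surj_of_involves hM
    exact Cfsg.Agent.Helper26.involves_of_span (K.comap (QuotientGroup.mk' M)).subtype
      (Subgroup.subtype_injective _) (f.comp ((QuotientGroup.mk' M).subgroupComap K))
      (hf.comp ((QuotientGroup.mk' M).subgroupComap_surjective_of_surjective K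
        (QuotientGroup.mk'_surjective M)))
  · rw [ind_cW]; exact hC

end Two

end Cfsg.Agent.Helper23
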