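import Mathlib
import Cfsg.Agent.Helper14.PslAdj2

set_option autoImplicit false

namespace Cfsg.Agent.Helper23.PSpRS

theorem two_eta_dvd (k η m : ℕ) (hη : (Odd k ∧ η = k) ∨ (Even k ∧ 2 * η = k)) (hkm : k ∣ m)
    (hm : Even m) : 2 * η ∣ m := by
  rcases hη with ⟨hodd, rfl⟩ | ⟨_, h2⟩
  · have hcop : Nat.Coprime 2 η :=
      (Nat.Prime.coprime_iff_not_dvd Nat.prime_two).mpr hodd.not_two_dvd_nat
    exact Nat.Coprime.mul_dvd_of_dvd_of_dvd hcop (even_iff_two_dvd.mp hm) hkm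
  · rw [h2]; exact hkm

theorem even_sub' (x y : ℕ) (hx : Even x) (hy : Even y) : Even (x - y) := by
  obtain ⟨x', rfl⟩ := hx
  obtain ⟨y', rfl⟩ := hy
  exact ⟨x' - y', by omega⟩

theorem dim_arg {F V : Type*} [Field F] [Fintype F] [AddCommGroup V] [Module F V] [Finite V] (r s : ℕ) [Fact r.Prime] [Fact s.Prime] (hrq : ¬ r ∣ Fintype.card F) (hsq : ¬ s ∣ Fintype.card F) (A B : Module.End F V) (hA : A ^ r = 1) (hA1 : A ≠ 1) (hB : B ^ s = 1) (hB1 : B ≠ 1) (hAB : A * B = B * A) (n k l ηk ηl : ℕ) (hdim : Module.finrank F V = 2 * n) (hk : k = orderOf ((Fintype.card F : ℕ) : ZMod r)) (hl : l = orderOf ((Fintype.card F : ℕ) : ZMod s)) (hηk : (Odd k ∧ ηk = k) ∨ (Even k ∧ 2 * ηk = k)) (hηl : (Odd l ∧ ηl = l) ∨ (Even l ∧ 2 * ηl = l)) (hkl : ηk ≤ ηl) (hn : n < ηk + ηl) (hEA : Even (Module.finrank F ↥(LinearMap.ker (A - 1)))) (hEB : Even (Module.finrank F ↥(LinearMap.ker (B - 1)))) (hEAB : Even (Module.finrank F ↥(LinearMap.ker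 (B - 1) ⊓ LinearMap.ker (A - 1)))) : LinearMap.ker (A - 1) = LinearMap.ker (B - 1) ∧ Module.finrank F ↥(LinearMap.ker (B - 1)) + 2 * ηl = 2 * n ∧ ηk ∣ ηl := by
  classical
  obtain ⟨EA, hEAd⟩ : ∃ EA : Submodule F V, EA = LinearMap.ker (A - 1) := ⟨_, rfl⟩
  obtain ⟨EB, hEBd⟩ : ∃ EB : Submodule F V, EB = LinearMap.ker (B - 1) := ⟨_, rfl⟩
  rw [← hEAd, ← hEBd] at hEAB
  rw [← hEAd] at hEA
  rw [← hEBd] at hEB
  rw [← hEAd, ← hEBd]
  have hmemA : ∀ v, v ∈ EA ↔ A v = v := fun v => by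
    rw [hEAd, LinearMap.mem_ker, LinearMap.sub_apply, sub_eq_zero]
    exact Iff.rfl
  have hmemB : ∀ v, v ∈ EB ↔ B v = v := fun v => by
    rw [hEBd, LinearMap.mem_ker, LinearMap.sub_apply, sub_eq_zero]
    exact Iff.rfl
  have hABv : ∀ v, A (B v) = B (A v) := fun v => congrArg (fun f : Module.End F V => f v) hAB
  have hEAtop : EA ≠ ⊤ := by
    intro h
    apply hA1
    apply LinearMap.ext
    intro v
    exact (hmemA v).mp (by rw [h]; exact Submodule.mem_top)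
  have hEBtop : EB ≠ ⊤ := by
    intro h
    apply hB1
    apply LinearMap.ext
    intro v
    exact (hmemB v).mp (by rw [h]; exact Submodule.mem_top)
  have hdA : Module.finrank F EA < 2 * n := hdim ▸ Submodule.finrank_lt hEAtop
  have hdB : Module.finrank F EB < 2 * n := hdim ▸ Submodule.finrank_lt hEBtop
  have h1 := Cfsg.Agent.Helper14.PslAdj2.fix_dvd r hrq A hA ⊤ (fun _ _ => Submodule.mem_top)
  rw [top_inf_eq, finrank_top, hdim, ← hEAd, ← hk] at h1
  have h2 := Cfsg.Agent.Helper14.PslAdj2.fix_dvd s hsq B hB ⊤ (fun _ _ => Submodule.mem_top)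
  rw [top_inf_eq, finrank_top, hdim, ← hEBd, ← hl] at h2
  have h3 := Cfsg.Agent.Helper14.PslAdj2.fix_dvd r hrq A hA EB (fun w hw => by
    rw [hmemB] at hw ⊢
    rw [← hABv, hw])
  rw [← hEAd, ← hk] at h3
  have h4 := Cfsg.Agent.Helper14.PslAdj2.fix_dvd s hsq B hB EA (fun w hw => by
    rw [hmemA] at hw ⊢
    rw [hABv, hw])
  rw [← hEBd, ← hl] at h4
  have hcomm : EA ⊓ EB = EB ⊓ EA := inf_comm _ _
  rw [hcomm] at h4
  have h5 : Module.finrank F ↥(EB ⊓ EA) ≤ Module.finrank F EB :=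
    Submodule.finrank_mono inf_le_left
  have h6 : Module.finrank F ↥(EB ⊓ EA) ≤ Module.finrank F EA :=
    Submodule.finrank_mono inf_le_right
  -- parity upgrades
  have e1 : 2 * ηk ∣ 2 * n - Module.finrank F EA :=
    two_eta_dvd k ηk _ hηk h1 (even_sub' _ _ (even_two_mul n) hEA)
  have e2 : 2 * ηl ∣ 2 * n - Module.finrank F EB :=
    two_eta_dvd l ηl _ hηl h2 (even_sub' _ _ (even_two_mul n) hEB)
  have e3 : 2 * ηk ∣ Module.finrank F EB - Module.finrank F ↥(EB ⊓ EA) :=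
    two_eta_dvd k ηk _ hηk h3 (even_sub' _ _ hEB hEAB)
  have e4 : 2 * ηl ∣ Module.finrank F EA - Module.finrank F ↥(EB ⊓ EA) :=
    two_eta_dvd l ηl _ hηl h4 (even_sub' _ _ hEA hEAB)
  have g1 : 2 * ηk ≤ 2 * n - Module.finrank F EA := Nat.le_of_dvd (by omega) e1
  have g2 : 2 * ηl ≤ 2 * n - Module.finrank F EB := Nat.le_of_dvd (by omega) e2
  have h7 : Module.finrank F ↥(EB ⊓ EA) = Module.finrank F EB := by
    by_contra hne
    have := Nat.le_of_dvd (by omega) e3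
    omega
  have h8 : Module.finrank F ↥(EB ⊓ EA) = Module.finrank F EA := by
    by_contra hne
    have := Nat.le_of_dvd (by omega) e4
    omega
  have h9 : EB ⊓ EA = EB := Submodule.eq_of_le_of_finrank_eq inf_le_left h7
  have h10 : EB ⊓ EA = EA := Submodule.eq_of_le_of_finrank_eq inf_le_right h8
  have h11 : EA = EB := by rw [← h10, h9]
  have hab : Module.finrank F EA = Module.finrank F EB := by rw [h11]
  have h12 : Module.finrank F EB + 2 * ηl = 2 * n := by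
    obtain ⟨t, ht⟩ := e2
    have ht0 : t ≠ 0 := by
      rintro rfl
      rw [mul_zero] at ht
      omega
    have ht2 : t < 2 := by
      by_contra hge
      have hge' : 2 ≤ t := by omega
      have : 2 * ηl * 2 ≤ 2 * ηl * t := Nat.mul_le_mul_left _ hge'
      omega
    have ht1 : t = 1 := by omega
    rw [ht1, mul_one] at ht
    omega
  refine ⟨h11, h12, ?_⟩
  have e1' : 2 * ηk ∣ 2 * ηl := by
    have : 2 * n - Module.finrank F EA = 2 * ηl := by omega
    rw [this] at e1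
    exact e1
  exact Nat.dvd_of_mul_dvd_mul_left (by norm_num) e1'

end Cfsg.Agent.Helper23.PSpRS
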