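import Cfsg.Agent.Helper23.ZJ3

/-!
Helper library (helper23): `p`-stability passes to and from the quotient by `O_{p'}(G)`.
-/

set_option autoImplicit false

universe u

namespace Cfsg.Agent.Helper23

section StabQ

variable {X : Type*} [Group X] [Finite X] {p : ℕ} [Fact p.Prime]

/-- The conclusion of `p`-stability, in elementary terms. -/
theorem stabConcl_iff (A P : Subgroup X) :
    (A.subgroupOf (Subgroup.normalizer (P : Set X))).map
        (QuotientGroup.mk' ((Subgroup.centralizer (P : Set X)).subgroupOf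
          (Subgroup.normalizer (P : Set X)))) ≤ Cfsg.pCore p _ ↔
    ∃ K : Subgroup X, K ≤ Subgroup.normalizer (P : Set X) ∧
      Subgroup.normalizer (P : Set X) ≤ Subgroup.normalizer (K : Set X) ∧
      Subgroup.centralizer (P : Set X) ≤ K ∧
      (∀ x ∈ K, ∃ j : ℕ, x ^ (p ^ j) ∈ Subgroup.centralizer (P : Set X)) ∧
      A ⊓ Subgroup.normalizer (P : Set X) ≤ K := by
  classical
  set NV := Subgroup.normalizer (P : Set X) with hNV
  set C' := (Subgroup.centralizer (P : Set X)).subgroupOf NV with hC'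
  have hpn : (Cfsg.pCore p (↥NV ⧸ C')).Normal := Cfsg.Agent.Helper14.pCore_normal p _
  constructor
  · intro h
    set K' := (Cfsg.pCore p (↥NV ⧸ C')).comap (QuotientGroup.mk' C') with hK'
    have hK'n : K'.Normal := inferInstance
    refine ⟨K'.map NV.subtype, Subgroup.map_subtype_le K', ?_, ?_, ?_, ?_⟩
    · intro n hn
      apply Cfsg.Agent.S0650.mem_normalizer_of_conj_mem
      rintro _ ⟨y, hy, rfl⟩
      exact ⟨⟨n, hn⟩ * y * ⟨n, hn⟩⁻¹, hK'n.conj_mem y hy _, rfl⟩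
    · intro c hc
      have hcN : c ∈ NV := (Subgroup.centralizer_le_normalizer _) hc
      refine ⟨⟨c, hcN⟩, ?_, rfl⟩
      show QuotientGroup.mk' C' ⟨c, hcN⟩ ∈ Cfsg.pCore p (↥NV ⧸ C')
      have h1 : QuotientGroup.mk' C' ⟨c, hcN⟩ = 1 :=
        (QuotientGroup.eq_one_iff _).2 (Subgroup.mem_subgroupOf.2 hc)
      rw [h1]; exact one_mem _
    · rintro _ ⟨y, hy, rfl⟩
      have hy' : QuotientGroup.mk' C' y ∈ Cfsg.pCore p (↥NV ⧸ C') := hy
      obtain ⟨j, hj⟩ := (Cfsg.Agent.Helper14.pCore_isPGroup p (↥NV ⧸ C')) ⟨_, hy'⟩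
      have hj' : (QuotientGroup.mk' C' y) ^ (p ^ j) = 1 := congrArg Subtype.val hj
      rw [← map_pow, QuotientGroup.mk'_apply, QuotientGroup.eq_one_iff] at hj'
      have hj2 : ((y ^ (p ^ j) : ↥NV) : X) ∈ Subgroup.centralizer (P : Set X) :=
        Subgroup.mem_subgroupOf.1 hj'
      exact ⟨j, hj2⟩
    · intro a ha
      have haN : a ∈ NV := ha.2
      refine ⟨⟨a, haN⟩, ?_, rfl⟩
      show QuotientGroup.mk' C' ⟨a, haN⟩ ∈ Cfsg.pCore p (↥NV ⧸ C')
      exact h ⟨⟨a, haN⟩, Subgroup.mem_subgroupOf.2 ha.1, rfl⟩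
  · rintro ⟨K, hKN, hNK, hCK, hpow, hAK⟩
    have hKn : (K.subgroupOf NV).Normal :=
      (Subgroup.normal_subgroupOf_iff_le_normalizer hKN).2 hNK
    have hLn : ((K.subgroupOf NV).map (QuotientGroup.mk' C')).Normal :=
      hKn.map _ (QuotientGroup.mk'_surjective C')
    have hLp : IsPGroup p ((K.subgroupOf NV).map (QuotientGroup.mk' C')) := by
      rintro ⟨_, y, hy, rfl⟩
      obtain ⟨j, hj⟩ := hpow y.1 (Subgroup.mem_subgroupOf.1 hy)
      refine ⟨j, Subtype.ext ?_⟩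
      show (QuotientGroup.mk' C' y) ^ (p ^ j) = 1
      rw [← map_pow, QuotientGroup.mk'_apply, QuotientGroup.eq_one_iff]
      have hj2 : ((y ^ (p ^ j) : ↥NV) : X) ∈ Subgroup.centralizer (P : Set X) := hj
      exact Subgroup.mem_subgroupOf.2 hj2
    refine le_trans (Subgroup.map_mono ?_) (Cfsg.Agent.Helper14.le_pCore hLn hLp)
    intro x hx
    exact Subgroup.mem_subgroupOf.2 (hAK ⟨Subgroup.mem_subgroupOf.1 hx, x.2⟩)

end StabQ

section Quot2

variable {G : Type u} [Group G] [Finite G] {p : ℕ} [Fact p.Prime]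

/-- `p`-stability passes to `G / O_{p'}(G)`. -/
theorem isPStable_quotient (hs : Cfsg.IsPStable p G) :
    Cfsg.IsPStable p (G ⧸ Cfsg.pPrimeCore p G) := by
  classical
  set N := Cfsg.pPrimeCore p G with hNdef
  set π := QuotientGroup.mk' N with hπ
  have hπs : Function.Surjective π := QuotientGroup.mk'_surjective N
  have hNc : (Nat.card N).Coprime p := pPrimeCore_coprime p
  have hker : ∀ x : G, π x = 1 ↔ x ∈ N := fun x => QuotientGroup.eq_one_iff x
  have hdisj : ∀ Q : Subgroup G, IsPGroup p Q → ∀ x ∈ Q, x ∈ N → x = 1 := by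
    intro Q hQ x hxQ hxN
    have hd : Disjoint N Q := by
      apply Subgroup.disjoint_of_coprime_natCard
      obtain ⟨k, hk⟩ := hQ.exists_card_eq
      rw [hk]; exact Nat.Coprime.pow_right k hNc
    exact Subgroup.mem_bot.1 (hd.le_bot ⟨hxN, hxQ⟩)
  refine ⟨hs.1, ?_, ?_⟩
  · intro hbot
    apply hs.2.1
    rw [eq_bot_iff]
    intro x hx
    have h1 : π x ∈ Cfsg.pCore p (G ⧸ N) :=
      Cfsg.Agent.Helper14.le_pCore ((Cfsg.Agent.Helper14.pCore_normal p G).map π hπs)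
        ((Cfsg.Agent.Helper14.pCore_isPGroup p G).map π) ⟨x, hx, rfl⟩
    rw [hbot, Subgroup.mem_bot, hker] at h1
    exact Subgroup.mem_bot.2 (hdisj _ (Cfsg.Agent.Helper14.pCore_isPGroup p G) x hx h1)
  · intro Ab Pb hAb hPb hnormb hPbM hnb hquadb
    have hbot : Cfsg.pPrimeCore p (G ⧸ N) = ⊥ := pPrimeCore_quotient_pPrimeCore p
    have hPbn : Pb.Normal := by rw [hbot, bot_sup_eq] at hnb; exact hnb
    have hNtop : Subgroup.normalizer (Pb : Set (G ⧸ N)) = ⊤ :=
      Subgroup.normalizer_eq_top_iff.2 hPbn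
    have hAbN : Ab ≤ Subgroup.normalizer (Pb : Set (G ⧸ N)) := by rw [hNtop]; exact le_top
    have hTb : IsPGroup p ↥(Pb ⊔ Ab) := IsPGroup.to_sup_of_normal_left' hPb hAb hAbN
    obtain ⟨Qb, hQb⟩ := hTb.exists_le_sylow
    obtain ⟨S⟩ : Nonempty (Sylow p G) := inferInstance
    obtain ⟨gb, hgb⟩ := MulAction.exists_smul_eq (G ⧸ N) (S.mapSurjective hπs) Qb
    obtain ⟨g, rfl⟩ := hπs gb
    set S' : Subgroup G := (S : Subgroup G).map (MulAut.conj g).toMonoidHom with hS'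
    have hS'p : IsPGroup p S' := S.isPGroup'.map _
    have hS'map : S'.map π = (Qb : Subgroup (G ⧸ N)) := by
      have h1 : (Qb : Subgroup (G ⧸ N)) =
          ((S.mapSurjective hπs : Sylow p (G ⧸ N)) : Subgroup (G ⧸ N)).map
            (MulAut.conj (π g)).toMonoidHom := by
        rw [← hgb]; rfl
      rw [h1, Sylow.coe_mapSurjective, hS', Subgroup.map_map, Subgroup.map_map]
      congr 1
    set A : Subgroup G := S' ⊓ Ab.comap π with hA
    set P : Subgroup G := S' ⊓ Pb.comap π with hP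
    have hAp : IsPGroup p A := hS'p.to_le inf_le_left
    have hPp : IsPGroup p P := hS'p.to_le inf_le_left
    have hAmap : A.map π = Ab := by
      apply le_antisymm
      · rintro _ ⟨a, ha, rfl⟩; exact ha.2
      · intro ab hab
        have h1 : ab ∈ S'.map π := by rw [hS'map]; exact hQb (Subgroup.mem_sup_right hab)
        obtain ⟨s, hs', rfl⟩ := h1
        exact ⟨s, ⟨hs', hab⟩, rfl⟩
    have hPmap : P.map π = Pb := by
      apply le_antisymm
      · rintro _ ⟨a, ha, rfl⟩; exact ha.2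
      · intro ab hab
        have h1 : ab ∈ S'.map π := by rw [hS'map]; exact hQb (Subgroup.mem_sup_left hab)
        obtain ⟨s, hs', rfl⟩ := h1
        exact ⟨s, ⟨hs', hab⟩, rfl⟩
    have hnorm : ∀ a ∈ A, ∀ x ∈ P, a * x * a⁻¹ ∈ P := by
      intro a ha x hx
      refine ⟨S'.mul_mem (S'.mul_mem ha.1 hx.1) (S'.inv_mem ha.1), ?_⟩
      show π (a * x * a⁻¹) ∈ Pb
      rw [map_mul, map_mul, map_inv]
      exact hnormb (π a) ha.2 (π x) hx.2
    have hPM : P ≤ Cfsg.pPrimePCore p G := by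
      intro x hx
      show π x ∈ Cfsg.pCore p (G ⧸ N)
      exact Cfsg.Agent.Helper14.le_pCore hPbn hPb hx.2
    have hsup : N ⊔ P = Pb.comap π := by
      apply le_antisymm
      · refine sup_le ?_ inf_le_right
        intro n hn
        show π n ∈ Pb
        rw [(hker n).2 hn]; exact one_mem _
      · intro w hw
        have hw' : π w ∈ P.map π := by rw [hPmap]; exact hw
        obtain ⟨v, hv, hvw⟩ := hw'
        have h1 : w * v⁻¹ ∈ N := by
          rw [← hker, map_mul, map_inv, hvw, mul_inv_cancel]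
        have h2 : w = (w * v⁻¹) * v := by group
        rw [h2]
        exact Subgroup.mul_mem _ (Subgroup.mem_sup_left h1) (Subgroup.mem_sup_right hv)
    have hnormal : (N ⊔ P).Normal := by rw [hsup]; infer_instance
    have hquad : ⁅⁅P, A⁆, A⁆ = ⊥ := by
      have h2 : ⁅P, A⁆ ≤ S' := by
        rw [Subgroup.commutator_le]
        intro x hx y hy
        exact S'.mul_mem (S'.mul_mem (S'.mul_mem hx.1 hy.1) (S'.inv_mem hx.1)) (S'.inv_mem hy.1)
      have h1 : ⁅⁅P, A⁆, A⁆ ≤ S' := by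
        rw [Subgroup.commutator_le]
        intro x hx y hy
        exact S'.mul_mem (S'.mul_mem (S'.mul_mem (h2 hx) hy.1) (S'.inv_mem (h2 hx)))
          (S'.inv_mem hy.1)
      have h3 : (⁅⁅P, A⁆, A⁆).map π = ⊥ := by
        rw [Subgroup.map_commutator, Subgroup.map_commutator, hPmap, hAmap]
        exact hquadb
      rw [eq_bot_iff]
      intro x hx
      have h4 : π x ∈ (⁅⁅P, A⁆, A⁆).map π := ⟨x, hx, rfl⟩
      rw [h3, Subgroup.mem_bot, hker] at h4
      exact Subgroup.mem_bot.2 (hdisj S' hS'p x (h1 hx) h4)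
    have hconc := hs.2.2 A P hAp hPp hnorm hPM hnormal hquad
    obtain ⟨K, hKN, hNK, hCK, hpow, hAK⟩ := (stabConcl_iff A P).1 hconc
    have hsurj : ∀ g : G, ∃ n₁ ∈ Subgroup.normalizer (P : Set G), π n₁ = π g := by
      intro g
      have hg : π g ∈ Subgroup.normalizer ((P.map π : Subgroup (G ⧸ N)) : Set (G ⧸ N)) := by
        rw [hPmap, hNtop]; trivial
      obtain ⟨n, hn, hng⟩ :=
        Cfsg.Agent.Helper7.exists_mul_mem_normalizer_of_map p N hNc P hPp g hg
      exact ⟨n * g, hng, by rw [map_mul, (hker n).2 hn, one_mul]⟩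
    have hCent : ∀ c ∈ Subgroup.normalizer (P : Set G),
        π c ∈ Subgroup.centralizer (Pb : Set (G ⧸ N)) →
        c ∈ Subgroup.centralizer (P : Set G) := by
      intro c hc hcb
      rw [Subgroup.mem_centralizer_iff]
      intro v hv
      have hd1 : c * v * c⁻¹ * v⁻¹ ∈ P :=
        P.mul_mem (((Subgroup.mem_normalizer_iff.1 hc) v).1 hv) (P.inv_mem hv)
      have hd2 : c * v * c⁻¹ * v⁻¹ ∈ N := by
        rw [← hker, map_mul, map_mul, map_mul, map_inv, map_inv]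
        have h1 := (Subgroup.mem_centralizer_iff.1 hcb) (π v) (by rw [← hPmap]; exact ⟨v, hv, rfl⟩)
        rw [← h1]; group
      have hd3 := hdisj P hPp _ hd1 hd2
      have h2 : v * c = (c * v * c⁻¹ * v⁻¹)⁻¹ * (c * v) := by group
      rw [h2, hd3, inv_one, one_mul]
    apply (stabConcl_iff Ab Pb).2
    refine ⟨K.map π, ?_, ?_, ?_, ?_, ?_⟩
    · rw [hNtop]; exact le_top
    · intro gb _
      obtain ⟨g, rfl⟩ := hπs gb
      obtain ⟨n₁, hn₁, hn₁g⟩ := hsurj g
      rw [← hn₁g]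
      apply Cfsg.Agent.S0650.mem_normalizer_of_conj_mem
      rintro _ ⟨k, hk, rfl⟩
      refine ⟨n₁ * k * n₁⁻¹, ?_, by simp⟩
      exact ((Subgroup.mem_normalizer_iff.1 (hNK hn₁)) k).1 hk
    · intro cb hcb
      obtain ⟨g, rfl⟩ := hπs cb
      obtain ⟨c, hc, hcg⟩ := hsurj g
      rw [← hcg] at hcb ⊢
      exact ⟨c, hCK (hCent c hc hcb), rfl⟩
    · rintro _ ⟨x, hx, rfl⟩
      obtain ⟨j, hj⟩ := hpow x hx
      refine ⟨j, ?_⟩
      rw [← map_pow, Subgroup.mem_centralizer_iff]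
      intro vb hvb
      rw [← hPmap] at hvb
      obtain ⟨v, hv, rfl⟩ := hvb
      rw [← map_mul, ← map_mul, Subgroup.mem_centralizer_iff.1 hj v hv]
    · intro ab hab
      have h1 : ab ∈ A.map π := by rw [hAmap]; exact hab.1
      obtain ⟨a, ha, rfl⟩ := h1
      have haN : a ∈ Subgroup.normalizer (P : Set G) :=
        Cfsg.Agent.S0650.mem_normalizer_of_conj_mem (hnorm a ha)
      exact ⟨a, hAK ⟨ha, haN⟩, rfl⟩

/-- `p`-stability passes from `G / O_{p'}(G)` to `G` when `O_p(G) ≠ 1`. -/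
theorem isPStable_of_quotient (hO : Cfsg.pCore p G ≠ ⊥)
    (hs : Cfsg.IsPStable p (G ⧸ Cfsg.pPrimeCore p G)) : Cfsg.IsPStable p G := by
  classical
  set N := Cfsg.pPrimeCore p G with hNdef
  set π := QuotientGroup.mk' N with hπ
  have hπs : Function.Surjective π := QuotientGroup.mk'_surjective N
  have hNc : (Nat.card N).Coprime p := pPrimeCore_coprime p
  have hker : ∀ x : G, π x = 1 ↔ x ∈ N := fun x => QuotientGroup.eq_one_iff x
  have hdisj : ∀ Q : Subgroup G, IsPGroup p Q → ∀ x ∈ Q, x ∈ N → x = 1 := by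
    intro Q hQ x hxQ hxN
    have hd : Disjoint N Q := by
      apply Subgroup.disjoint_of_coprime_natCard
      obtain ⟨k, hk⟩ := hQ.exists_card_eq
      rw [hk]; exact Nat.Coprime.pow_right k hNc
    exact Subgroup.mem_bot.1 (hd.le_bot ⟨hxN, hxQ⟩)
  refine ⟨hs.1, hO, ?_⟩
  intro A P hAp hPp hnorm hPM hnormal hquad
  set Ab : Subgroup (G ⧸ N) := A.map π with hAb
  set Pb : Subgroup (G ⧸ N) := P.map π with hPb
  have hAbp : IsPGroup p Ab := hAp.map π
  have hPbp : IsPGroup p Pb := hPp.map π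
  have hnormb : ∀ a ∈ Ab, ∀ x ∈ Pb, a * x * a⁻¹ ∈ Pb := by
    rintro _ ⟨a, ha, rfl⟩ _ ⟨x, hx, rfl⟩
    exact ⟨a * x * a⁻¹, hnorm a ha x hx, by simp⟩
  have hPbn : Pb.Normal := by
    have h1 : ((N ⊔ P).map π).Normal := hnormal.map π hπs
    have h2 : (N ⊔ P).map π = Pb := by
      rw [Subgroup.map_sup]
      have h3 : N.map π = ⊥ := by
        rw [eq_bot_iff]
        rintro _ ⟨n, hn, rfl⟩
        exact Subgroup.mem_bot.2 ((hker n).2 hn)
      rw [h3, bot_sup_eq]
    rwa [h2] at h1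
  have hNtop : Subgroup.normalizer (Pb : Set (G ⧸ N)) = ⊤ :=
    Subgroup.normalizer_eq_top_iff.2 hPbn
  have hPbM : Pb ≤ Cfsg.pPrimePCore p (G ⧸ N) := by
    intro x hx
    show QuotientGroup.mk' (Cfsg.pPrimeCore p (G ⧸ N)) x ∈ Cfsg.pCore p _
    exact Cfsg.Agent.Helper14.le_pCore (hPbn.map _ (QuotientGroup.mk'_surjective _))
      (hPbp.map _) ⟨x, hx, rfl⟩
  have hnb : (Cfsg.pPrimeCore p (G ⧸ N) ⊔ Pb).Normal := inferInstance
  have hquadb : ⁅⁅Pb, Ab⁆, Ab⁆ = ⊥ := by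
    rw [hPb, hAb, ← Subgroup.map_commutator, ← Subgroup.map_commutator, hquad, Subgroup.map_bot]
  have hconc := hs.2.2 Ab Pb hAbp hPbp hnormb hPbM hnb hquadb
  obtain ⟨Kb, hKN, hNK, hCK, hpow, hAK⟩ := (stabConcl_iff Ab Pb).1 hconc
  have hKbn : Kb.Normal := by
    rw [hNtop] at hNK
    exact Subgroup.normalizer_eq_top_iff.1 (top_le_iff.1 hNK)
  have hCent : ∀ c ∈ Subgroup.normalizer (P : Set G),
      π c ∈ Subgroup.centralizer (Pb : Set (G ⧸ N)) →
      c ∈ Subgroup.centralizer (P : Set G) := by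
    intro c hc hcb
    rw [Subgroup.mem_centralizer_iff]
    intro v hv
    have hd1 : c * v * c⁻¹ * v⁻¹ ∈ P :=
      P.mul_mem (((Subgroup.mem_normalizer_iff.1 hc) v).1 hv) (P.inv_mem hv)
    have hd2 : c * v * c⁻¹ * v⁻¹ ∈ N := by
      rw [← hker, map_mul, map_mul, map_mul, map_inv, map_inv]
      have h1 := (Subgroup.mem_centralizer_iff.1 hcb) (π v) ⟨v, hv, rfl⟩
      rw [← h1]; group
    have hd3 := hdisj P hPp _ hd1 hd2
    have h2 : v * c = (c * v * c⁻¹ * v⁻¹)⁻¹ * (c * v) := by group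
    rw [h2, hd3, inv_one, one_mul]
  apply (stabConcl_iff A P).2
  refine ⟨Subgroup.normalizer (P : Set G) ⊓ Kb.comap π, inf_le_left, ?_, ?_, ?_, ?_⟩
  · intro n hn
    apply Cfsg.Agent.S0650.mem_normalizer_of_conj_mem
    intro x hx
    refine ⟨Subgroup.mul_mem _ (Subgroup.mul_mem _ hn hx.1) (Subgroup.inv_mem _ hn), ?_⟩
    show π (n * x * n⁻¹) ∈ Kb
    rw [map_mul, map_mul, map_inv]
    exact hKbn.conj_mem _ hx.2 _
  · intro c hc
    refine ⟨(Subgroup.centralizer_le_normalizer _) hc, ?_⟩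
    show π c ∈ Kb
    apply hCK
    rw [Subgroup.mem_centralizer_iff]
    rintro _ ⟨v, hv, rfl⟩
    rw [← map_mul, ← map_mul, Subgroup.mem_centralizer_iff.1 hc v hv]
  · intro x hx
    obtain ⟨j, hj⟩ := hpow (π x) hx.2
    refine ⟨j, hCent _ (Subgroup.pow_mem _ hx.1 _) ?_⟩
    rw [map_pow]; exact hj
  · intro a ha
    exact ⟨ha.2, hAK ⟨⟨a, ha.1, rfl⟩, by rw [hNtop]; trivial⟩⟩

end Quot2

end Cfsg.Agent.Helper23
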