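import Cfsg.Agent.Helper23.StableW3
import Cfsg.Agent.Helper10.PStable2

/-!
Helper library (helper23): `W(S)` as a characteristic `p`-functor, action-`p`-stability of the
minimal configuration, and Thompson's normal `p`-complement theorem in the form with `W(S)`.
-/

set_option autoImplicit false

namespace Cfsg.Agent.Helper23

open Cfsg Cfsg.Agent.Helper10

open scoped commutatorElement

universe u

section Functor

variable {p : ℕ}

theorem thompsonSubgroup_map_equiv {Q R : Type u} [Group Q] [Group R] [Finite Q]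
    [Fact p.Prime] (hQ : IsPGroup p Q) (φ : Q ≃* R) :
    (thompsonSubgroup p Q).map φ.toMonoidHom = thompsonSubgroup p R := by
  have h := (jW_char.{u} p true).2 Q R hQ φ
  rw [← thompsonSubgroup_eq_jW, ← thompsonSubgroup_eq_jW] at h
  exact h

theorem omegaCenterThompson_map_equiv {Q R : Type u} [Group Q] [Group R] [Finite Q]
    [Fact p.Prime] (hQ : IsPGroup p Q) (φ : Q ≃* R) :
    (omegaCenterThompson p Q).map φ.toMonoidHom = omegaCenterThompson p R := by
  have hinj : Function.Injective φ.toMonoidHom := φ.injective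
  unfold omegaCenterThompson
  rw [← omegaOne_map _ hinj, map_inf_centralizer _ hinj, thompsonSubgroup_map_equiv hQ φ]

theorem isStableEmbedding_comp_equiv {Q R H : Type u} [Group Q] [Group R] [Group H] [Finite Q]
    [Fact p.Prime] (hQ : IsPGroup p Q) (φ : Q ≃* R) {τ : R →* H}
    (hτ : IsStableEmbedding p τ) : IsStableEmbedding p (τ.comp φ.toMonoidHom) := by
  obtain ⟨hinj, hfin, ⟨P, hP⟩, hcent, hJn, hstab⟩ := hτ
  refine ⟨hinj.comp φ.injective, hfin, ⟨P, ?_⟩, hcent, ?_, ?_⟩
  · have hs : Function.Surjective φ.toMonoidHom := φ.surjective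
    rw [hP, MonoidHom.range_comp, MonoidHom.range_eq_top.2 hs, ← MonoidHom.range_eq_map]
  · rw [← Subgroup.map_map, thompsonSubgroup_map_equiv hQ φ]; exact hJn
  · intro V _ hV
    apply hstab V
    rw [← Subgroup.map_map, omegaCenterThompson_map_equiv hQ φ] at hV
    exact hV

theorem swFam_map_equiv {Q R : Type u} [Group Q] [Group R] [Finite Q] [Fact p.Prime]
    (hQ : IsPGroup p Q) (φ : Q ≃* R) {T : Subgroup Q} (hT : T ∈ swFam p Q) :
    T.map φ.toMonoidHom ∈ swFam p R := by
  constructor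
  · unfold omegaOne
    rw [Subgroup.closure_le]
    rintro y ⟨hyc, hyp⟩
    refine ⟨φ.symm y, hT.1 (Subgroup.subset_closure ⟨?_, ?_⟩), φ.apply_symm_apply y⟩
    · rw [Subgroup.mem_center_iff] at hyc ⊢
      intro g
      apply φ.injective
      rw [map_mul, map_mul, φ.apply_symm_apply]
      exact hyc (φ g)
    · apply φ.injective
      rw [map_pow, φ.apply_symm_apply, hyp, map_one]
  · intro H _ τ hτ
    rw [Subgroup.map_map]
    exact hT.2 H _ (isStableEmbedding_comp_equiv hQ φ hτ)

/-- `W` is invariant under isomorphisms. -/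
theorem snc_map_equiv {Q R : Type u} [Group Q] [Group R] [Finite Q] [Fact p.Prime]
    (hQ : IsPGroup p Q) (φ : Q ≃* R) :
    (stableNormalClosure p Q).map φ.toMonoidHom = stableNormalClosure p R := by
  have : Finite R := Finite.of_equiv Q φ.toEquiv
  have hR : IsPGroup p R := hQ.of_equiv φ
  apply le_antisymm
  · show _ ≤ sInf (swFam p R)
    apply le_sInf
    intro T' hT'
    have h1 := swFam_map_equiv hR φ.symm hT'
    have h2 : stableNormalClosure p Q ≤ T'.map φ.symm.toMonoidHom := sInf_le h1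
    have h3 := Subgroup.map_mono (f := φ.toMonoidHom) h2
    rw [Subgroup.map_map] at h3
    have h4 : T'.map (φ.toMonoidHom.comp φ.symm.toMonoidHom) = T' := by
      ext x; constructor
      · rintro ⟨z, hz, rfl⟩; simpa using hz
      · intro hx; exact ⟨x, hx, by simp⟩
    rw [h4] at h3; exact h3
  · exact sInf_le (swFam_map_equiv hQ φ snc_mem_swFam)

theorem snc_ne_bot {Q : Type u} [Group Q] [Finite Q] [Fact p.Prime] (hQ : IsPGroup p Q)
    (hnt : Nontrivial Q) : stableNormalClosure p Q ≠ ⊥ := by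
  have hp : p.Prime := Fact.out
  have hc : Nontrivial (Subgroup.center Q) := hQ.center_nontrivial
  have hcp : IsPGroup p (Subgroup.center Q) := hQ.to_subgroup _
  obtain ⟨n, hn⟩ := hcp.exists_card_eq
  have hn0 : n ≠ 0 := by
    rintro rfl
    rw [pow_zero] at hn
    exact (Finite.one_lt_card (α := ↥(Subgroup.center Q))).ne' hn
  have hdvd : p ∣ Nat.card (Subgroup.center Q) := by rw [hn]; exact dvd_pow_self p hn0
  obtain ⟨z, hz⟩ := exists_prime_orderOf_dvd_card' p hdvd
  intro hbot
  have hzp : (z : Q) ^ p = 1 := by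
    have h := pow_orderOf_eq_one z
    rw [hz] at h
    exact congrArg Subtype.val h
  have hz1 : (z : Q) ∈ stableNormalClosure p Q :=
    omegaOne_center_le_snc (Subgroup.subset_closure ⟨z.2, hzp⟩)
  rw [hbot, Subgroup.mem_bot] at hz1
  have h1 : z = 1 := Subtype.ext hz1
  rw [h1, orderOf_one] at hz
  exact hp.one_lt.ne hz

/-- `W` is a characteristic `p`-functor. -/
theorem snc_char (p : ℕ) [Fact p.Prime] : IsCharPFunctor.{u} p (stableNormalClosure p) :=
  ⟨fun _ _ _ hQ hnt => snc_ne_bot hQ hnt, fun _ _ _ _ _ hQ φ => snc_map_equiv hQ φ⟩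

end Functor

section Stab

variable {p : ℕ} [Fact p.Prime]

theorem isPStableOn_of_dag {Z : Type u} [Group Z] [Finite Z] (hp2 : p ≠ 2) (h : Dag p Z)
    (V : Subgroup Z) [V.Normal] (hV : IsPGroup p V) : IsPStableOn p V := by
  intro a hquad
  obtain ⟨A, B, hAn, hBn, hAp, hBB, ⟨m, hm, hBm⟩, k, hk⟩ := h
  have hquad' : ∀ u ∈ V, ⁅a, ⁅a, u⁆⁆ = 1 := by
    intro u hu
    have h1 : ⁅⁅u, a⁆, a⁆ ∈ ⁅⁅V, Subgroup.zpowers a⁆, Subgroup.zpowers a⁆ :=
      Subgroup.commutator_mem_commutator
        (Subgroup.commutator_mem_commutator hu (Subgroup.mem_zpowers a)) (Subgroup.mem_zpowers a)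
    rw [hquad, Subgroup.mem_bot] at h1
    rw [commutatorElement_def, commutatorElement_def] at h1 ⊢
    calc a * (a * u * a⁻¹ * u⁻¹) * a⁻¹ * (a * u * a⁻¹ * u⁻¹)⁻¹
        = (u * a * u⁻¹ * a⁻¹)⁻¹ * ((u * a * u⁻¹ * a⁻¹) * a * (u * a * u⁻¹ * a⁻¹)⁻¹ * a⁻¹) *
            (u * a * u⁻¹ * a⁻¹) := by group
      _ = 1 := by rw [h1]; group
  exact nps_abs hp2 A B hAn hBn hAp hBB m hm hBm k hk V inferInstance hV a hquad' _ rfl

/-- Groups in `Dag` are action-`p`-stable, for odd `p`. -/
theorem isActionPStable_of_dag {Z : Type u} [Group Z] [Finite Z] (hp2 : p ≠ 2) (h : Dag p Z) :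
    IsActionPStable p Z := by
  refine ⟨?_, ?_, ?_⟩
  · intro V _ hV
    exact isPStableOn_of_dag hp2 h V
      (fun g => ⟨1, by rw [pow_one]; exact Subtype.ext (hV.2 g g.2)⟩)
  · intro a ha
    obtain ⟨Φ, hΦ⟩ : ∃ Φ : Subgroup Z, Φ = (frattini ↥(pCore p Z)).map (pCore p Z).subtype :=
      ⟨_, rfl⟩
    have hΦn : Φ.Normal := by rw [hΦ]; infer_instance
    have hdq : Dag p (Z ⧸ Φ) := h.surj (QuotientGroup.mk' Φ) (QuotientGroup.mk'_surjective Φ)
    have hQbn : ((pCore p Z).map (QuotientGroup.mk' Φ)).Normal :=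
      (Cfsg.Agent.Helper14.pCore_normal p Z).map _ (QuotientGroup.mk'_surjective Φ)
    have hQbp : IsPGroup p ((pCore p Z).map (QuotientGroup.mk' Φ)) :=
      (Cfsg.Agent.Helper14.pCore_isPGroup p Z).map _
    have hqb : ⁅⁅(pCore p Z).map (QuotientGroup.mk' Φ),
        Subgroup.zpowers (QuotientGroup.mk' Φ a)⁆,
        Subgroup.zpowers (QuotientGroup.mk' Φ a)⁆ = ⊥ := by
      rw [← MonoidHom.map_zpowers, ← Subgroup.map_commutator, ← Subgroup.map_commutator,
        eq_bot_iff, Subgroup.map_le_iff_le_comap]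
      intro x hx
      rw [Subgroup.mem_comap, Subgroup.mem_bot]
      have hx' : x ∈ Φ := by rw [hΦ]; exact ha hx
      exact (QuotientGroup.eq_one_iff x).2 hx'
    have hst := isPStableOn_of_dag hp2 hdq _ hQbp (QuotientGroup.mk' Φ a) hqb
    obtain ⟨C, hC⟩ : ∃ C : Subgroup (Z ⧸ Φ), C = Subgroup.centralizer
        (((pCore p Z).map (QuotientGroup.mk' Φ) : Subgroup (Z ⧸ Φ)) : Set (Z ⧸ Φ)) := ⟨_, rfl⟩
    have hCn : C.Normal := by rw [hC]; infer_instance
    have hKer : sectionKernel (pCore p Z) ((frattini ↥(pCore p Z)).map (pCore p Z).subtype) =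
        C.comap (QuotientGroup.mk' Φ) := by
      subst hΦ; subst hC; rfl
    have hKn : (sectionKernel (pCore p Z)
        ((frattini ↥(pCore p Z)).map (pCore p Z).subtype)).Normal := by
      rw [hKer]; infer_instance
    have hst' : QuotientGroup.mk' C (QuotientGroup.mk' Φ a) ∈ pCore p ((Z ⧸ Φ) ⧸ C) := by
      subst hC; exact hst
    refine ⟨(pCore p ((Z ⧸ Φ) ⧸ C)).comap ((QuotientGroup.mk' C).comp (QuotientGroup.mk' Φ)),
      ?_, ?_, ?_, ?_⟩
    · exact (Cfsg.Agent.Helper14.pCore_normal p _).comap _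
    · intro g hg
      rw [hKer, Subgroup.mem_comap] at hg
      rw [Subgroup.mem_comap]
      have h2 : ((QuotientGroup.mk' C).comp (QuotientGroup.mk' Φ)) g = 1 :=
        (QuotientGroup.eq_one_iff _).2 hg
      rw [h2]; exact Subgroup.one_mem _
    · apply relIndex_eq_pow_of_forall_pow_mem
      intro x hx
      rw [Subgroup.mem_comap] at hx
      obtain ⟨j, hj⟩ := (Cfsg.Agent.Helper14.pCore_isPGroup p ((Z ⧸ Φ) ⧸ C)) ⟨_, hx⟩
      refine ⟨j, ?_⟩
      have h1 : (((QuotientGroup.mk' C).comp (QuotientGroup.mk' Φ)) x) ^ (p ^ j) = 1 :=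
        congrArg Subtype.val hj
      rw [hKer, Subgroup.mem_comap]
      rw [← map_pow] at h1
      exact (QuotientGroup.eq_one_iff _).1 h1
    · exact hst'
  · intro S V _ hV
    have hd := h.sub (Subgroup.normalizer (thompsonSubgroupOf p (S : Subgroup Z) : Set Z))
    apply isPStableOn_of_dag hp2 hd V
    have h1 : V.map (Subgroup.normalizer
        (thompsonSubgroupOf p (S : Subgroup Z) : Set Z)).subtype ≤ S :=
      hV.trans (Subgroup.map_subtype_le _)
    have h2 : IsPGroup p (V.map (Subgroup.normalizer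
        (thompsonSubgroupOf p (S : Subgroup Z) : Set Z)).subtype) := S.isPGroup'.to_le h1
    exact h2.of_equiv (V.equivMapOfInjective _ (Subgroup.subtype_injective _)).symm

/-- Thompson's normal `p`-complement theorem in the form with `W(S)`, `p` odd. -/
theorem npc_of_snc {G : Type u} [Group G] [Finite G] (hp : p ≠ 2) (S : Sylow p G)
    (hN : HasNormalPComplement p ↥(Subgroup.normalizer (sncOf p (S : Subgroup G) : Set G))) :
    HasNormalPComplement p G := by
  refine npc_reduction (stableNormalClosure p) (snc_char p) (fun _ _ => True)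
    (fun _ _ _ _ _ => trivial) (fun _ _ _ _ _ _ => trivial) ?_ (Nat.card G) G rfl trivial S hN
  intro H _ _ _ T hms hT
  have hst : IsActionPStable p H := isActionPStable_of_dag hp hms.dag
  have hn : (sncOf p (T : Subgroup H)).Normal := sncOf_normal hst hms.cons T
  apply hms.nnpc
  have htop : Subgroup.normalizer (sncOf p (T : Subgroup H) : Set H) = ⊤ :=
    Subgroup.normalizer_eq_top _
  have hT' : HasNormalPComplement p
      ↥(Subgroup.normalizer (sncOf p (T : Subgroup H) : Set H)) := hT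
  rw [htop] at hT'
  exact npc_of_equiv Subgroup.topEquiv hT'

end Stab

end Cfsg.Agent.Helper23
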