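import Mathlib
import Cfsg.Agent.Helper7.PLayer
import Cfsg.Agent.Helper23.Balance
import Cfsg.Agent.Helper23.StableW4
import Cfsg.Agent.Helper23.QP8

/-!
Helper library (helper23): the factorization `G = O_{p'}(G) N_G(W(S))` for `p`-solvable
groups, `p ≥ 5`.
-/

set_option autoImplicit false

namespace Cfsg.Agent.Helper23.QP

open Cfsg

universe u

/-- `G = O_{p'}(G) N_G(W(S))` when `G / O_{p'}(G)` is action-`p`-stable and `p`-constrained. -/
theorem snc_factorization_of_stable {G : Type u} [Group G] [Finite G] {p : ℕ} [Fact p.Prime]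
    (hst : IsActionPStable p (G ⧸ pPrimeCore p G))
    (hC : Subgroup.centralizer (pCore p (G ⧸ pPrimeCore p G) : Set (G ⧸ pPrimeCore p G)) ≤
      pCore p (G ⧸ pPrimeCore p G)) (S : Sylow p G) :
    pPrimeCore p G ⊔ Subgroup.normalizer
      (((stableNormalClosure p ↥(S : Subgroup G)).map (S : Subgroup G).subtype) : Set G) = ⊤ := by
  have hN : (pPrimeCore p G).Normal := Cfsg.Agent.Helper23.pPrimeCore_normal_fin p
  have hNc : (Nat.card (pPrimeCore p G)).Coprime p := Cfsg.Agent.Helper23.pPrimeCore_coprime p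
  obtain ⟨π, hπ⟩ : ∃ π : G →* G ⧸ pPrimeCore p G, π = QuotientGroup.mk' (pPrimeCore p G) :=
    ⟨_, rfl⟩
  have hπs : Function.Surjective π := by rw [hπ]; exact QuotientGroup.mk'_surjective _
  have hNP : ∀ x ∈ (S : Subgroup G), π x = 1 → x = 1 := by
    intro x hx h
    have hxN : x ∈ pPrimeCore p G := by
      rw [hπ] at h; exact (QuotientGroup.eq_one_iff x).1 h
    have hd : Disjoint (pPrimeCore p G) (S : Subgroup G) := by
      apply Subgroup.disjoint_of_coprime_natCard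
      obtain ⟨k, hk⟩ := S.isPGroup'.exists_card_eq
      rw [hk]; exact Nat.Coprime.pow_right k hNc
    have h1 : x ∈ (⊥ : Subgroup G) := hd.le_bot ⟨hxN, hx⟩
    exact Subgroup.mem_bot.1 h1
  obtain ⟨Sb, hSb⟩ : ∃ Sb : Sylow p (G ⧸ pPrimeCore p G),
      (Sb : Subgroup (G ⧸ pPrimeCore p G)) = (S : Subgroup G).map π :=
    ⟨S.mapSurjective hπs, Sylow.coe_mapSurjective _ _⟩
  have hWb : ((stableNormalClosure p ↥(Sb : Subgroup (G ⧸ pPrimeCore p G))).map
      (Sb : Subgroup (G ⧸ pPrimeCore p G)).subtype).Normal :=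
    Cfsg.Agent.Helper23.sncOf_normal hst hC Sb
  -- the isomorphism `S ≃ S̄`
  have hmem : ∀ x : ↥(S : Subgroup G), (π.comp (S : Subgroup G).subtype) x ∈
      (Sb : Subgroup (G ⧸ pPrimeCore p G)) := by
    intro x
    rw [hSb]; exact Subgroup.mem_map_of_mem _ x.2
  obtain ⟨f, hf⟩ : ∃ f : ↥(S : Subgroup G) →* ↥(Sb : Subgroup (G ⧸ pPrimeCore p G)),
      ∀ x, ((f x : ↥(Sb : Subgroup (G ⧸ pPrimeCore p G))) : G ⧸ pPrimeCore p G) = π x :=
    ⟨(π.comp (S : Subgroup G).subtype).codRestrict _ hmem, fun x => rfl⟩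
  have hfi : Function.Injective f := by
    rw [injective_iff_map_eq_one]
    intro x hx
    have h1 : π x = 1 := by rw [← hf, hx]; rfl
    exact Subtype.ext (hNP x x.2 h1)
  have hfs : Function.Surjective f := by
    rintro ⟨y, hy⟩
    rw [hSb] at hy
    obtain ⟨x, hx, rfl⟩ := hy
    exact ⟨⟨x, hx⟩, Subtype.ext (hf _)⟩
  obtain ⟨φ, hφ⟩ : ∃ φ : ↥(S : Subgroup G) ≃* ↥(Sb : Subgroup (G ⧸ pPrimeCore p G)),
      φ.toMonoidHom = f := ⟨MulEquiv.ofBijective f ⟨hfi, hfs⟩, rfl⟩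
  have h1 := Cfsg.Agent.Helper23.snc_map_equiv (p := p) S.isPGroup' φ
  obtain ⟨W, hW⟩ : ∃ W : Subgroup G,
      W = (stableNormalClosure p ↥(S : Subgroup G)).map (S : Subgroup G).subtype := ⟨_, rfl⟩
  have h2 : (stableNormalClosure p ↥(Sb : Subgroup (G ⧸ pPrimeCore p G))).map
      (Sb : Subgroup (G ⧸ pPrimeCore p G)).subtype = W.map π := by
    rw [hW, ← h1, hφ, Subgroup.map_map, Subgroup.map_map]
    congr 1
    ext x
    exact hf x
  rw [h2] at hWb
  have hWp : IsPGroup p W := by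
    rw [hW]; exact S.isPGroup'.to_le (Subgroup.map_subtype_le _)
  rw [← hW, eq_top_iff]
  intro g _
  have hg : (QuotientGroup.mk' (pPrimeCore p G)) g ∈ Subgroup.normalizer
      ((W.map (QuotientGroup.mk' (pPrimeCore p G)) : Subgroup (G ⧸ pPrimeCore p G)) :
        Set (G ⧸ pPrimeCore p G)) := by
    rw [← hπ, Subgroup.normalizer_eq_top]; trivial
  obtain ⟨n, hn, hng⟩ := Cfsg.Agent.Helper7.exists_mul_mem_normalizer_of_map p _ hNc _ hWp g hg
  have h3 : g = n⁻¹ * (n * g) := by group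
  rw [h3]
  exact Subgroup.mul_mem _ (Subgroup.mem_sup_left (Subgroup.inv_mem _ hn))
    (Subgroup.mem_sup_right hng)

/-- `G = O_{p'}(G) N_G(W(S))` for `p`-solvable `G`, `p ≥ 5`. -/
theorem snc_factorization {G : Type u} [Group G] [Finite G] {p : ℕ} [Fact p.Prime] (hp : 5 ≤ p)
    (hsep : IsPSolvable p G) (S : Sylow p G) :
    pPrimeCore p G ⊔ Subgroup.normalizer
      (((stableNormalClosure p ↥(S : Subgroup G)).map (S : Subgroup G).subtype) : Set G) = ⊤ :=
  snc_factorization_of_stable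
    (isActionPStable_of_psolv hp (Cfsg.Agent.Helper23.isPSolvable_quotient hsep _))
    (Cfsg.Agent.Helper23.centralizer_pCore_quotient_le hsep) S

end Cfsg.Agent.Helper23.QP
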