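import Mathlib
import Cfsg.Agent.Helper23.StableW3
import Cfsg.Agent.Helper23.QP8

/-!
Helper library (helper23): Thompson factorization `G = N_G(J(P)) C_G(Ω₁(Z(P)))` for groups
that are `p`-constrained (`C_G(O_p(G)) ≤ O_p(G)`) and `p`-stable on normal elementary abelian
`p`-subgroups (Kurzweil–Stellmacher 9.2.9 / Gorenstein 8.2.11 in the `p`-stable case).
-/

set_option autoImplicit false

namespace Cfsg.Agent.Helper23

open Cfsg

open scoped commutatorElement

universe u

section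

variable {G : Type u} [Group G] [Finite G] {p : ℕ} [Fact p.Prime]

/-- Under `p`-constraint and `p`-stability, every elementary abelian subgroup of `P` of largest
order centralizes the normal closure of `Ω₁(Z(P))`, and `G = N_G(J(P)) C_G(Ω₁(Z(P)))`. -/
theorem thompson_factorization_of_stable
    (hc : Subgroup.centralizer (pCore p G : Set G) ≤ pCore p G)
    (hst : ∀ (V : Subgroup G) [V.Normal], IsElementaryAbelian p V → IsPStableOn p V)
    (P : Sylow p G) (g : G) :
    ∃ a ∈ Subgroup.normalizer (Cfsg.thompsonSubgroupOf p (P : Subgroup G) : Set G),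
      ∃ c ∈ Subgroup.centralizer {x : G | x ∈ (P : Subgroup G) ∧
        (∀ y ∈ (P : Subgroup G), x * y = y * x) ∧ x ^ p = 1}, g = a * c := by
  obtain ⟨X₀, hX₀⟩ : ∃ X₀ : Set G, X₀ = {x : G | x ∈ (P : Subgroup G) ∧
      (∀ y ∈ (P : Subgroup G), x * y = y * x) ∧ x ^ p = 1} := ⟨_, rfl⟩
  rw [← hX₀]
  have hX₀P : ∀ w ∈ X₀, w ∈ (P : Subgroup G) := by
    intro w hw; rw [hX₀] at hw; exact hw.1
  have hX₀c : ∀ w ∈ X₀, ∀ y ∈ (P : Subgroup G), w * y = y * w := by
    intro w hw; rw [hX₀] at hw; exact hw.2.1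
  have hX₀p : ∀ w ∈ X₀, w ^ p = 1 := by
    intro w hw; rw [hX₀] at hw; exact hw.2.2
  have hQn : (pCore p G).Normal := Cfsg.Agent.Helper14.pCore_normal p G
  have hQP : pCore p G ≤ (P : Subgroup G) := Cfsg.Agent.Helper14.pCore_le_sylow P
  have hX₀Q : ∀ w ∈ X₀, w ∈ pCore p G := by
    intro w hw
    apply hc
    rw [Subgroup.mem_centralizer_iff]
    intro q hq
    exact (hX₀c w hw q (hQP hq)).symm
  obtain ⟨T, hT⟩ : ∃ T : Set G, T = {x | ∃ g : G, ∃ w ∈ X₀, x = g * w * g⁻¹} := ⟨_, rfl⟩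
  have hTQ : ∀ a ∈ T, a ∈ pCore p G := by
    intro a ha
    rw [hT] at ha
    obtain ⟨g, w, hw, rfl⟩ := ha
    exact hQn.conj_mem w (hX₀Q w hw) g
  have hTcQ : ∀ a ∈ T, ∀ q ∈ pCore p G, a * q = q * a := by
    intro a ha q hq
    rw [hT] at ha
    obtain ⟨g, w, hw, rfl⟩ := ha
    have h1 : g⁻¹ * q * g ∈ pCore p G := by
      have h2 := hQn.conj_mem q hq g⁻¹
      rwa [inv_inv] at h2
    have h3 := hX₀c w hw _ (hQP h1)
    calc g * w * g⁻¹ * q = g * (w * (g⁻¹ * q * g)) * g⁻¹ := by group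
      _ = g * ((g⁻¹ * q * g) * w) * g⁻¹ := by rw [h3]
      _ = q * (g * w * g⁻¹) := by group
  have hTc : ∀ a ∈ T, ∀ b ∈ T, a * b = b * a := fun a ha b hb => hTcQ a ha b (hTQ b hb)
  have hTp : ∀ a ∈ T, a ^ p = 1 := by
    intro a ha
    rw [hT] at ha
    obtain ⟨g, w, hw, rfl⟩ := ha
    rw [conj_pow, hX₀p w hw]; group
  obtain ⟨V, hV⟩ : ∃ V : Subgroup G, V = Subgroup.closure T := ⟨_, rfl⟩
  have hVn : V.Normal := by
    rw [hV]
    apply closure_normal_of_conj_mem
    intro x hx h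
    rw [hT] at hx ⊢
    obtain ⟨g, w, hw, rfl⟩ := hx
    exact ⟨h * g, w, hw, by group⟩
  have hVcomm : IsMulCommutative ↥V := by rw [hV]; exact Subgroup.isMulCommutative_closure hTc
  have hVc : ∀ a ∈ V, ∀ b ∈ V, a * b = b * a := comm_of_isMulCommutative hVcomm
  have hVp : ∀ a ∈ V, a ^ p = 1 := by rw [hV]; exact pow_eq_one_of_mem_closure hTc hTp
  have hVQ : V ≤ pCore p G := by rw [hV, Subgroup.closure_le]; exact hTQ
  have hVP : V ≤ (P : Subgroup G) := hVQ.trans hQP
  have hVel : IsElementaryAbelian p V := ⟨hVcomm, hVp⟩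
  have hVgood : zjGood p true V := ⟨hVcomm, fun _ => hVp⟩
  have hX₀V : ∀ w ∈ X₀, w ∈ V := by
    intro w hw
    rw [hV]
    apply Subgroup.subset_closure
    rw [hT]
    exact ⟨1, w, hw, by group⟩
  have hJ : ∀ A ∈ zjFam p true (P : Subgroup G), A ≤ Subgroup.centralizer (V : Set G) := by
    intro A hA
    by_contra hAC
    obtain ⟨A₁, ⟨hA₁, hA₁C⟩, hmax⟩ := Set.exists_max_image
      {A' : Subgroup G | A' ∈ zjFam p true (P : Subgroup G) ∧
        ¬ A' ≤ Subgroup.centralizer (V : Set G)}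
      (fun A' => Nat.card ↥(A' ⊓ V)) (Set.toFinite _) ⟨A, hA, hAC⟩
    have hA₁c := comm_of_isMulCommutative hA₁.2.1.1
    have hVN : V ≤ Subgroup.normalizer (A₁ : Set G) := by
      by_contra hnot
      obtain ⟨A', hA', hlt, hA'N⟩ := thompson_replacement_zjFam' true P.isPGroup'
        V (fun _ => Or.inr hVp) hVP (fun x _ b hb => hVn.conj_mem b hb x) hVc hA₁ hnot
      by_cases hA'C : A' ≤ Subgroup.centralizer (V : Set G)
      · have hgood : zjGood p true (A' ⊔ V) :=
          zjGood_sup_of_comm hA'.2.1 hVgood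
            (fun a ha b hb => (Subgroup.mem_centralizer_iff.1 (hA'C ha) b hb).symm)
        have hcard := hA'.2.2 _ (sup_le hA'.1 hVP) hgood
        have heq : A' = A' ⊔ V := Subgroup.eq_of_le_of_card_ge le_sup_left hcard
        apply hnot
        refine le_trans ?_ hA'N
        rw [heq]; exact le_sup_right
      · have h5 := hmax A' ⟨hA', hA'C⟩
        omega
    apply hA₁C
    intro a ha
    have hq : ⁅⁅V, Subgroup.zpowers a⁆, Subgroup.zpowers a⁆ = ⊥ := by
      have h1 : ⁅V, Subgroup.zpowers a⁆ ≤ A₁ := by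
        rw [Subgroup.commutator_le]
        intro w hw z hz
        have hzA : z ∈ A₁ := (Subgroup.zpowers_le.2 ha) hz
        rw [commutatorElement_def]
        exact Subgroup.mul_mem _ ((Subgroup.mem_normalizer_iff.1 (hVN hw) z).1 hzA)
          (Subgroup.inv_mem _ hzA)
      have h2 : ⁅A₁, Subgroup.zpowers a⁆ = ⊥ := by
        rw [commutator_zpowers_eq_bot_iff]
        intro x hx
        exact hA₁c a ha x hx
      rw [eq_bot_iff, ← h2]
      exact Subgroup.commutator_mono h1 le_rfl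
    -- `a` centralizes every generator of `V`
    have h1 : V ≤ Subgroup.centralizer ({a} : Set G) := by
      rw [hV, Subgroup.closure_le]
      intro x hx
      rw [hT] at hx
      obtain ⟨g, w, hw, rfl⟩ := hx
      rw [SetLike.mem_coe, Subgroup.mem_centralizer_iff]
      intro b hb
      rw [Set.mem_singleton_iff.1 hb]
      have hq' : ⁅⁅V, Subgroup.zpowers (g⁻¹ * a * g)⁆, Subgroup.zpowers (g⁻¹ * a * g)⁆ = ⊥ := by
        have h1 := quadratic_map (MulAut.conj g⁻¹).toMonoidHom hq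
        rw [map_conj_eq_of_mem_normalizer
          (by rw [Subgroup.normalizer_eq_top]; exact Subgroup.mem_top _)] at h1
        simpa using h1
      have hmem := hst V hVel _ hq'
      obtain ⟨s, hs, hsa⟩ := pCore_quot_le_map_sylow (Subgroup.centralizer (V : Set G)) P hmem
      have hC : (g⁻¹ * a * g)⁻¹ * s ∈ Subgroup.centralizer (V : Set G) :=
        QuotientGroup.eq.1 hsa.symm
      have hsw : s * w = w * s := (hX₀c w hw s hs).symm
      have hcw := Subgroup.mem_centralizer_iff.1 hC w (hX₀V w hw)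
      have ha' : (g⁻¹ * a * g) * w = w * (g⁻¹ * a * g) := by
        obtain ⟨a', ha'⟩ : ∃ a', a' = g⁻¹ * a * g := ⟨_, rfl⟩
        rw [← ha'] at hcw ⊢
        calc a' * w = a' * (w * (a'⁻¹ * s)) * s⁻¹ * a' := by group
          _ = a' * ((a'⁻¹ * s) * w) * s⁻¹ * a' := by rw [hcw]
          _ = (s * w) * s⁻¹ * a' := by group
          _ = (w * s) * s⁻¹ * a' := by rw [hsw]
          _ = w * a' := by group
      calc a * (g * w * g⁻¹) = g * ((g⁻¹ * a * g) * w) * g⁻¹ := by group
        _ = g * (w * (g⁻¹ * a * g)) * g⁻¹ := by rw [ha']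
        _ = g * w * g⁻¹ * a := by group
    rw [Subgroup.mem_centralizer_iff]
    intro x hx
    exact (Subgroup.mem_centralizer_iff.1 (h1 hx) a rfl).symm
  obtain ⟨n, hn, c, hc', hnc⟩ := exists_mul_of_thompson_le P (Subgroup.centralizer (V : Set G)) hJ g
  refine ⟨n, hn, c, ?_, hnc.symm⟩
  exact Subgroup.centralizer_le (fun w hw => hX₀V w hw) hc'

/-- **Thompson factorization** for solvable groups with `O_{p'}(G) = 1`, `p` odd, and abelian
Sylow `2`-subgroups when `p = 3`. -/
theorem thompson_factorization_solvable (hp : p ≠ 2) (hs : Group.IsSolvable G)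
    (h3 : p = 3 → ∀ T : Sylow 2 G, IsMulCommutative T)
    (hF : ∀ N : Subgroup G, N.Normal → Nat.Coprime (Nat.card N) p → N = ⊥)
    (P : Sylow p G) (g : G) :
    ∃ a ∈ Subgroup.normalizer (Cfsg.thompsonSubgroupOf p (P : Subgroup G) : Set G),
      ∃ c ∈ Subgroup.centralizer {x : G | x ∈ (P : Subgroup G) ∧
        (∀ y ∈ (P : Subgroup G), x * y = y * x) ∧ x ^ p = 1}, g = a * c := by
  have hsol : IsPSolvable p G := by
    haveI := hs
    exact isPSolvable_of_isSolvable p G
  have hO : pPrimeCore p G = ⊥ := hF _ (pPrimeCore_normal_fin p) (pPrimeCore_coprime p)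
  have hc := hall_higman hsol hO
  refine thompson_factorization_of_stable hc ?_ P g
  intro V _ hV
  by_cases h : p = 3
  · exact Cfsg.Agent.Helper23.QP.isPStableOn_of_ab2 hp
      (Cfsg.Agent.Helper23.QP.ab2_of_sylow (h3 h)) V hV
  · exact Cfsg.Agent.Helper23.QP.isPStableOn_of_psolv hp h hsol V hV

end

end Cfsg.Agent.Helper23
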